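import Mathlib
import Cfsg.Prelude.Def_ParabolicCharacters

set_option autoImplicit false

namespace Cfsg.Agent.Lib.Known

/-- A system of representatives of left cosets identifies the fixed points of `g` on `G ⧸ H`
with the `ℓ` such that `(r ℓ)⁻¹ g (r ℓ) ∈ H`. -/
theorem card_fixedBy_of_reps {G X : Type*} [Group G] (H : Subgroup G) (r : X → G)
    (hsurj : ∀ x : G, ∃ ℓ, (r ℓ)⁻¹ * x ∈ H)
    (hinj : ∀ ℓ ℓ', (r ℓ)⁻¹ * r ℓ' ∈ H → ℓ = ℓ') (g : G) :
    Nat.card (MulAction.fixedBy (G ⧸ H) g) = Nat.card {ℓ : X // (r ℓ)⁻¹ * g * r ℓ ∈ H} := by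
  classical
  symm
  apply Nat.card_congr
  refine Equiv.ofBijective (fun ℓ => ⟨(QuotientGroup.mk (r ℓ.1) : G ⧸ H), ?_⟩) ⟨?_, ?_⟩
  · have h := ℓ.2
    rw [MulAction.mem_fixedBy]
    change (QuotientGroup.mk (g * r ℓ.1) : G ⧸ H) = _
    rw [QuotientGroup.eq]
    have : (g * r ℓ.1)⁻¹ * r ℓ.1 = ((r ℓ.1)⁻¹ * g * r ℓ.1)⁻¹ := by group
    rw [this]
    exact H.inv_mem h
  · rintro ⟨ℓ, hℓ⟩ ⟨ℓ', hℓ'⟩ h
    have h' : (QuotientGroup.mk (r ℓ) : G ⧸ H) = QuotientGroup.mk (r ℓ') := congrArg Subtype.val h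
    rw [QuotientGroup.eq] at h'
    exact Subtype.ext (hinj _ _ h')
  · rintro ⟨y, hy⟩
    induction y using QuotientGroup.induction_on with
    | H x =>
      obtain ⟨ℓ, hℓ⟩ := hsurj x
      have hmk : (QuotientGroup.mk (r ℓ) : G ⧸ H) = QuotientGroup.mk x := by
        rw [QuotientGroup.eq]; exact hℓ
      have hy' : g • (QuotientGroup.mk (r ℓ) : G ⧸ H) = QuotientGroup.mk (r ℓ) := by
        rw [hmk]; exact hy
      refine ⟨⟨ℓ, ?_⟩, Subtype.ext hmk⟩
      change (QuotientGroup.mk (g * r ℓ) : G ⧸ H) = _ at hy'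
      rw [QuotientGroup.eq] at hy'
      have : (r ℓ)⁻¹ * g * r ℓ = ((g * r ℓ)⁻¹ * r ℓ)⁻¹ := by group
      rw [this]
      exact H.inv_mem hy'

/-- Matrix unit for GL₂ from its inverse. -/
def gl2R {F : Type*} [Field F] (t : F) : Matrix.GeneralLinearGroup (Fin 2) F :=
  ⟨!![t, -1; 1, 0], !![0, 1; -1, t], by
    ext i j; fin_cases i <;> fin_cases j <;> simp [Matrix.mul_apply, Fin.sum_univ_two], by
    ext i j; fin_cases i <;> fin_cases j <;> simp [Matrix.mul_apply, Fin.sum_univ_two]⟩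

theorem gl2R_coe {F : Type*} [Field F] (t : F) :
    ((gl2R t : Matrix.GeneralLinearGroup (Fin 2) F) : Matrix (Fin 2) (Fin 2) F) = !![t, -1; 1, 0] := rfl

theorem gl2R_inv_coe {F : Type*} [Field F] (t : F) :
    (((gl2R t)⁻¹ : Matrix.GeneralLinearGroup (Fin 2) F) : Matrix (Fin 2) (Fin 2) F) = !![0, 1; -1, t] := rfl

theorem mem_upperTriangularGL_two {F : Type*} [Field F] (g : Matrix.GeneralLinearGroup (Fin 2) F) :
    g ∈ Cfsg.upperTriangularGL 2 F ↔ (g : Matrix (Fin 2) (Fin 2) F) 1 0 = 0 := by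
  change (g : Matrix (Fin 2) (Fin 2) F).BlockTriangular id ↔ _
  constructor
  · intro h
    exact h (by decide)
  · intro h i j hij
    have hi : i = 1 := by
      have : (j : ℕ) < i := hij
      fin_cases i <;> simp_all
    have hj : j = 0 := by
      have : (j : ℕ) < i := hij
      subst hi
      fin_cases j <;> simp_all
    subst hi hj
    exact h

/-- Representatives of the cosets of the Borel subgroup of `GL₂`. -/
def gl2Rep {F : Type*} [Field F] : Option F → Matrix.GeneralLinearGroup (Fin 2) F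
  | none => 1
  | some t => gl2R t

theorem gl2_det_ne' {F : Type*} [Field F] (g : Matrix.GeneralLinearGroup (Fin 2) F) :
    (g : Matrix (Fin 2) (Fin 2) F) 0 0 * (g : Matrix (Fin 2) (Fin 2) F) 1 1 -
      (g : Matrix (Fin 2) (Fin 2) F) 0 1 * (g : Matrix (Fin 2) (Fin 2) F) 1 0 ≠ 0 := by
  rw [← Matrix.det_fin_two]
  exact ((Matrix.isUnit_iff_isUnit_det _).mp g.isUnit).ne_zero

/-- The condition for `g` to fix the line with label `ℓ`. -/
def gl2Fix {F : Type*} [Field F] (g : Matrix.GeneralLinearGroup (Fin 2) F) : Option F → Prop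
  | none => (g : Matrix (Fin 2) (Fin 2) F) 1 0 = 0
  | some t => (g : Matrix (Fin 2) (Fin 2) F) 1 0 * t ^ 2 +
          ((g : Matrix (Fin 2) (Fin 2) F) 1 1 - (g : Matrix (Fin 2) (Fin 2) F) 0 0) * t -
            (g : Matrix (Fin 2) (Fin 2) F) 0 1 = 0

theorem gl2Rep_conj_mem_iff {F : Type*} [Field F] (g : Matrix.GeneralLinearGroup (Fin 2) F) (ℓ : Option F) :
    (gl2Rep ℓ)⁻¹ * g * gl2Rep ℓ ∈ Cfsg.upperTriangularGL 2 F ↔
      gl2Fix g ℓ := by
  rw [mem_upperTriangularGL_two]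
  cases ℓ with
  | none => simp [gl2Rep, gl2Fix]
  | some t =>
    simp only [gl2Fix, gl2Rep, Units.val_mul, gl2R_inv_coe, gl2R_coe, Matrix.mul_apply, Fin.sum_univ_two]
    simp only [Matrix.of_apply, Matrix.cons_val', Matrix.cons_val_zero, Matrix.cons_val_one,
      Matrix.cons_val_fin_one]
    have : (-1 * (g : Matrix (Fin 2) (Fin 2) F) 0 0 + t * (g : Matrix (Fin 2) (Fin 2) F) 1 0) * t +
        (-1 * (g : Matrix (Fin 2) (Fin 2) F) 0 1 + t * (g : Matrix (Fin 2) (Fin 2) F) 1 1) * 1 =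
        (g : Matrix (Fin 2) (Fin 2) F) 1 0 * t ^ 2 + ((g : Matrix (Fin 2) (Fin 2) F) 1 1 - (g : Matrix (Fin 2) (Fin 2) F) 0 0) * t - (g : Matrix (Fin 2) (Fin 2) F) 0 1 := by ring
    simp [this] <;> ring_nf

theorem gl2Rep_surj {F : Type*} [Field F] (x : Matrix.GeneralLinearGroup (Fin 2) F) :
    ∃ ℓ, (gl2Rep ℓ)⁻¹ * x ∈ Cfsg.upperTriangularGL 2 F := by
  by_cases hc : (x : Matrix (Fin 2) (Fin 2) F) 1 0 = 0
  · refine ⟨none, ?_⟩
    rw [mem_upperTriangularGL_two]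
    simpa [gl2Rep] using hc
  · refine ⟨some ((x : Matrix (Fin 2) (Fin 2) F) 0 0 / (x : Matrix (Fin 2) (Fin 2) F) 1 0), ?_⟩
    rw [mem_upperTriangularGL_two]
    simp only [gl2Rep, Units.val_mul, gl2R_inv_coe, Matrix.mul_apply, Fin.sum_univ_two]
    simp
    field_simp
    ring

theorem gl2Rep_inj {F : Type*} [Field F] (ℓ ℓ' : Option F)
    (h : (gl2Rep ℓ)⁻¹ * gl2Rep ℓ' ∈ Cfsg.upperTriangularGL 2 F) : ℓ = ℓ' := by
  rw [mem_upperTriangularGL_two] at h
  cases ℓ with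
  | none =>
    cases ℓ' with
    | none => rfl
    | some t => simp [gl2Rep, gl2R_coe] at h
  | some t =>
    cases ℓ' with
    | none =>
      simp only [gl2Rep, mul_one] at h
      rw [gl2R_inv_coe] at h
      simp at h
    | some t' =>
      simp only [gl2Rep, Units.val_mul, gl2R_inv_coe, gl2R_coe, Matrix.mul_apply, Fin.sum_univ_two] at h
      simp at h
      have : t = t' := by linear_combination h
      rw [this]

/-- The number of fixed points of `g` on lines in terms of the matrix entries. -/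
theorem card_fixedBy_gl2 {F : Type*} [Field F] (g : Matrix.GeneralLinearGroup (Fin 2) F) :
    Nat.card (MulAction.fixedBy (Matrix.GeneralLinearGroup (Fin 2) F ⧸ Cfsg.upperTriangularGL 2 F) g) =
      Nat.card {ℓ : Option F // gl2Fix g ℓ} := by
  rw [card_fixedBy_of_reps _ gl2Rep gl2Rep_surj gl2Rep_inj g]
  apply Nat.card_congr
  apply Equiv.subtypeEquivRight
  intro ℓ
  exact gl2Rep_conj_mem_iff g ℓ

end Cfsg.Agent.Lib.Known
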