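import Mathlib
import Cfsg.Agent.Lib.Char.Ind
import Cfsg.Agent.Lib.Known.Coset
import Cfsg.Agent.Lib.Known.SL2

set_option autoImplicit false

namespace Cfsg.Agent.Lib.Known

open Cfsg Cfsg.Agent.Lib.Char

/-- The induced function is a sum over a system of left coset representatives, when `θ` is invariant
under conjugation by `H`. -/
theorem indFun_eq_sum_reps {G X : Type*} [Group G] [Fintype G] [Fintype X] (H : Subgroup G)
    (θ : H → ℂ) (hθ : ∀ b h : H, θ (h⁻¹ * b * h) = θ b) (r : X → G)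
    (hsurj : ∀ x : G, ∃ ℓ, (r ℓ)⁻¹ * x ∈ H)
    (hinj : ∀ ℓ ℓ', (r ℓ)⁻¹ * r ℓ' ∈ H → ℓ = ℓ') (g : G) :
    indFun H θ g = ∑ ℓ : X, extendByZero H θ ((r ℓ)⁻¹ * g * r ℓ) := by
  classical
  haveI : Fintype H := Fintype.ofFinite H
  -- the bijection X × H ≃ G
  let e : X × H → G := fun p => r p.1 * (p.2 : G)
  have he : Function.Bijective e := by
    constructor
    · rintro ⟨ℓ, h⟩ ⟨ℓ', h'⟩ heq
      have heq' : r ℓ * (h : G) = r ℓ' * (h' : G) := heq
      have h1 : (r ℓ)⁻¹ * r ℓ' ∈ H := by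
        have : (r ℓ)⁻¹ * r ℓ' = (h : G) * (h' : G)⁻¹ := by
          rw [inv_mul_eq_iff_eq_mul, ← mul_assoc, heq']; group
        rw [this]
        exact H.mul_mem h.2 (H.inv_mem h'.2)
      have h2 := hinj _ _ h1
      subst h2
      have h3 : (h : G) = h' := mul_left_cancel heq'
      exact Prod.ext rfl (Subtype.ext h3)
    · intro x
      obtain ⟨ℓ, hℓ⟩ := hsurj x
      exact ⟨(ℓ, ⟨(r ℓ)⁻¹ * x, hℓ⟩), by simp [e]⟩
  let E : X × H ≃ G := Equiv.ofBijective e he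
  rw [indFun_apply]
  have hs : ∑ x : G, extendByZero H θ (x⁻¹ * g * x) =
      ∑ p : X × H, extendByZero H θ ((E p)⁻¹ * g * E p) :=
    (Equiv.sum_comp E _).symm
  rw [hs, Fintype.sum_prod_type]
  have hinner : ∀ ℓ : X, ∑ h : H, extendByZero H θ ((E (ℓ, h))⁻¹ * g * E (ℓ, h)) =
      (Nat.card H : ℂ) * extendByZero H θ ((r ℓ)⁻¹ * g * r ℓ) := by
    intro ℓ
    have : ∀ h : H, extendByZero H θ ((E (ℓ, h))⁻¹ * g * E (ℓ, h)) =
        extendByZero H θ ((r ℓ)⁻¹ * g * r ℓ) := by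
      intro h
      have hE : (E (ℓ, h))⁻¹ * g * E (ℓ, h) =
          (h : G)⁻¹ * ((r ℓ)⁻¹ * g * r ℓ) * (h : G) := by
        change (r ℓ * (h : G))⁻¹ * g * (r ℓ * (h : G)) = _
        group
      rw [hE]
      by_cases hm : (r ℓ)⁻¹ * g * r ℓ ∈ H
      · have hm' : (h : G)⁻¹ * ((r ℓ)⁻¹ * g * r ℓ) * (h : G) ∈ H :=
          H.mul_mem (H.mul_mem (H.inv_mem h.2) hm) h.2
        rw [extendByZero_of_mem H θ hm, extendByZero_of_mem H θ hm']
        have := hθ ⟨_, hm⟩ h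
        rw [← this]
        rfl
      · have hm' : (h : G)⁻¹ * ((r ℓ)⁻¹ * g * r ℓ) * (h : G) ∉ H := by
          intro hc
          apply hm
          have : (r ℓ)⁻¹ * g * r ℓ = (h : G) * ((h : G)⁻¹ * ((r ℓ)⁻¹ * g * r ℓ) * (h : G)) * (h : G)⁻¹ := by group
          rw [this]
          exact H.mul_mem (H.mul_mem h.2 hc) (H.inv_mem h.2)
        rw [extendByZero_of_notMem H θ hm, extendByZero_of_notMem H θ hm']
    simp only [this, Finset.sum_const, Finset.card_univ, Nat.card_eq_fintype_card, nsmul_eq_mul]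
  simp only [hinner]
  rw [← Finset.mul_sum]
  have hne : (Nat.card H : ℂ) ≠ 0 := by
    have : Nat.card H ≠ 0 := Nat.card_pos.ne'
    exact_mod_cast this
  field_simp

/-! ## The Borel subgroup of `SL₂` -/

variable {F : Type*} [Field F]

/-- The Borel subgroup of `SL₂` as in the statements. -/
abbrev sl2Borel (F : Type*) [Field F] : Subgroup (SL2 F) :=
  (Cfsg.upperTriangularGL 2 F).comap Matrix.SpecialLinearGroup.toGL

theorem mem_sl2Borel_iff (g : SL2 F) : g ∈ sl2Borel F ↔ (g : Matrix (Fin 2) (Fin 2) F) 1 0 = 0 := by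
  rw [Subgroup.mem_comap, mem_upperTriangularGL_two]
  rfl

/-- Representatives of the cosets of the Borel subgroup of `SL₂`. -/
def sl2Rep : Option F → SL2 F
  | none => 1
  | some t => sl2Mk t (-1) 1 0 (by ring)

theorem sl2Rep_surj (x : SL2 F) : ∃ ℓ, (sl2Rep ℓ)⁻¹ * x ∈ sl2Borel F := by
  by_cases hc : (x : Matrix (Fin 2) (Fin 2) F) 1 0 = 0
  · refine ⟨none, ?_⟩
    rw [mem_sl2Borel_iff]
    simpa [sl2Rep] using hc
  · refine ⟨some ((x : Matrix (Fin 2) (Fin 2) F) 0 0 / (x : Matrix (Fin 2) (Fin 2) F) 1 0), ?_⟩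
    rw [mem_sl2Borel_iff, sl2_mul_apply, sl2_inv_10, sl2_inv_11]
    simp only [sl2Rep, sl2Mk_00, sl2Mk_10]
    field_simp
    ring

theorem sl2Rep_inj (ℓ ℓ' : Option F) (h : (sl2Rep ℓ)⁻¹ * sl2Rep ℓ' ∈ sl2Borel F) : ℓ = ℓ' := by
  rw [mem_sl2Borel_iff] at h
  cases ℓ with
  | none =>
    cases ℓ' with
    | none => rfl
    | some t => simp [sl2Rep] at h
  | some t =>
    cases ℓ' with
    | none =>
      rw [sl2_mul_apply, sl2_inv_10, sl2_inv_11] at h
      simp [sl2Rep] at h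
    | some t' =>
      rw [sl2_mul_apply, sl2_inv_10, sl2_inv_11] at h
      simp only [sl2Rep, sl2Mk_00, sl2Mk_10] at h
      have : t = t' := by linear_combination h
      rw [this]

/-- The condition for `g` to stabilize the line labelled `ℓ`. -/
def sl2Fix (g : SL2 F) : Option F → Prop
  | none => (g : Matrix (Fin 2) (Fin 2) F) 1 0 = 0
  | some t => (g : Matrix (Fin 2) (Fin 2) F) 1 0 * t ^ 2 +
          ((g : Matrix (Fin 2) (Fin 2) F) 1 1 - (g : Matrix (Fin 2) (Fin 2) F) 0 0) * t -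
            (g : Matrix (Fin 2) (Fin 2) F) 0 1 = 0

/-- The eigenvalue of `g` on the line labelled `ℓ`. -/
def sl2Val (g : SL2 F) : Option F → F
  | none => (g : Matrix (Fin 2) (Fin 2) F) 0 0
  | some t => (g : Matrix (Fin 2) (Fin 2) F) 1 0 * t + (g : Matrix (Fin 2) (Fin 2) F) 1 1

theorem sl2Rep_conj_mem_iff (g : SL2 F) (ℓ : Option F) :
    (sl2Rep ℓ)⁻¹ * g * sl2Rep ℓ ∈ sl2Borel F ↔ sl2Fix g ℓ := by
  rw [mem_sl2Borel_iff]
  cases ℓ with
  | none => simp [sl2Rep, sl2Fix]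
  | some t =>
    rw [sl2_mul_apply, sl2_mul_apply, sl2_mul_apply, sl2_inv_10, sl2_inv_11]
    simp only [sl2Fix, sl2Rep, sl2Mk_00, sl2Mk_01, sl2Mk_10, sl2Mk_11]
    constructor
    · intro h; linear_combination h
    · intro h; linear_combination h

theorem sl2Rep_conj_00 (g : SL2 F) (ℓ : Option F) :
    (((sl2Rep ℓ)⁻¹ * g * sl2Rep ℓ : SL2 F) : Matrix (Fin 2) (Fin 2) F) 0 0 = sl2Val g ℓ := by
  cases ℓ with
  | none => simp [sl2Rep, sl2Val]
  | some t =>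
    rw [sl2_mul_apply, sl2_mul_apply, sl2_mul_apply, sl2_inv_00, sl2_inv_01]
    simp only [sl2Val, sl2Rep, sl2Mk_00, sl2Mk_01, sl2Mk_10, sl2Mk_11]
    ring

/-- The function on the Borel subgroup of `SL₂` given by `b ↦ α(b₁₁)`. -/
noncomputable def sl2Theta (α : MulChar F ℂ) : sl2Borel F → ℂ :=
  fun b => α (((b : SL2 F) : Matrix (Fin 2) (Fin 2) F) 0 0)

theorem sl2Borel_det (b : sl2Borel F) :
    (((b : SL2 F) : Matrix (Fin 2) (Fin 2) F) 0 0) * (((b : SL2 F) : Matrix (Fin 2) (Fin 2) F) 1 1) = 1 := by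
  have h := sl2_det (b : SL2 F)
  have hb := (mem_sl2Borel_iff _).mp b.2
  rw [hb] at h
  linear_combination h

theorem sl2Borel_mul_00 (a b : sl2Borel F) :
    (((a * b : sl2Borel F) : SL2 F) : Matrix (Fin 2) (Fin 2) F) 0 0 =
      ((a : SL2 F) : Matrix (Fin 2) (Fin 2) F) 0 0 * ((b : SL2 F) : Matrix (Fin 2) (Fin 2) F) 0 0 := by
  have hb := (mem_sl2Borel_iff _).mp b.2
  change (((a : SL2 F) * (b : SL2 F) : SL2 F) : Matrix (Fin 2) (Fin 2) F) 0 0 = _
  rw [sl2_mul_apply, hb]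
  ring

theorem sl2Theta_conj (α : MulChar F ℂ) (b h : sl2Borel F) :
    sl2Theta α (h⁻¹ * b * h) = sl2Theta α b := by
  simp only [sl2Theta]
  rw [sl2Borel_mul_00, sl2Borel_mul_00]
  have hinv : (((h⁻¹ : sl2Borel F) : SL2 F) : Matrix (Fin 2) (Fin 2) F) 0 0 * ((h : SL2 F) : Matrix (Fin 2) (Fin 2) F) 0 0 = 1 := by
    rw [← sl2Borel_mul_00]
    simp
  congr 1
  linear_combination ((b : SL2 F) : Matrix (Fin 2) (Fin 2) F) 0 0 * hinv

/-- The explicit formula for the function induced from `b ↦ α(b₁₁)` on `SL₂`. -/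
theorem indFun_sl2_apply [Fintype F] [DecidableEq F] (α : MulChar F ℂ) (g : SL2 F) [DecidablePred (sl2Fix g)] :
    indFun (sl2Borel F) (fun b => α (((b : SL2 F) : Matrix (Fin 2) (Fin 2) F) 0 0)) g =
      ∑ ℓ : Option F, if sl2Fix g ℓ then α (sl2Val g ℓ) else 0 := by
  classical
  change indFun (sl2Borel F) (sl2Theta α) g = _
  rw [indFun_eq_sum_reps _ _ (sl2Theta_conj α) sl2Rep sl2Rep_surj sl2Rep_inj g]
  apply Finset.sum_congr rfl
  intro ℓ _
  split_ifs with h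
  · have hm := (sl2Rep_conj_mem_iff g ℓ).mpr h
    rw [extendByZero_of_mem _ _ hm]
    simp only [sl2Theta]
    rw [sl2Rep_conj_00]
  · have hm : (sl2Rep ℓ)⁻¹ * g * sl2Rep ℓ ∉ sl2Borel F := fun hh => h ((sl2Rep_conj_mem_iff g ℓ).mp hh)
    rw [extendByZero_of_notMem _ _ hm]

end Cfsg.Agent.Lib.Known
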