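import Mathlib
import Cfsg.Agent.Lib.Known.IndReps

set_option autoImplicit false

namespace Cfsg.Agent.Lib.Known

open Cfsg Cfsg.Agent.Lib.Char
open scoped ComplexConjugate

variable {F : Type*} [Field F]

theorem sum_units_eq_sum [Fintype F] [DecidableEq F] (f : F → ℂ) (h0 : f 0 = 0) :
    ∑ u : Fˣ, f (u : F) = ∑ a : F, f a := by
  classical
  rw [← Finset.sum_erase (Finset.univ : Finset F) h0]
  refine Finset.sum_bij (fun u _ => (u : F)) ?_ ?_ ?_ ?_
  · intro u _; simp
  · intro a _ b _ h; exact Units.ext h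
  · intro b hb
    have hb' : b ≠ 0 := by simpa using hb
    exact ⟨Units.mk0 b hb', Finset.mem_univ _, rfl⟩
  · intro _ _; rfl

theorem mulChar_conj_apply [Fintype F] (β : MulChar F ℂ) (a : F) : conj (β a) = β⁻¹ a :=
  MulChar.star_apply' β a

/-- Orthogonality of multiplicative characters over the units. -/
theorem sum_units_mulChar_mul_conj [Fintype F] [DecidableEq F] (α β : MulChar F ℂ) [Decidable (α = β)] :
    ∑ u : Fˣ, α (u : F) * conj (β (u : F)) = if α = β then ((Fintype.card F : ℂ) - 1) else 0 := by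
  classical
  have h1 : ∀ u : Fˣ, α (u : F) * conj (β (u : F)) = (α * β⁻¹) (u : F) := by
    intro u
    rw [mulChar_conj_apply, MulChar.mul_apply]
  simp only [h1]
  rw [sum_units_eq_sum (fun a => (α * β⁻¹) a) (MulChar.map_nonunit _ not_isUnit_zero)]
  split_ifs with h
  · subst h
    rw [mul_inv_cancel, MulChar.sum_one_eq_card_units, Fintype.card_units]
    rw [Nat.cast_sub Fintype.card_pos]
    simp
  · apply MulChar.sum_eq_zero_of_ne_one
    intro hc
    apply h
    exact mul_inv_eq_one.mp hc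

/-- Orthogonality of multiplicative characters over the units, with inverted argument. -/
theorem sum_units_mulChar_mul_conj_inv [Fintype F] [DecidableEq F] (α β : MulChar F ℂ) [Decidable (α = β⁻¹)] :
    ∑ u : Fˣ, α (u : F) * conj (β ((u⁻¹ : Fˣ) : F)) = if α = β⁻¹ then ((Fintype.card F : ℂ) - 1) else 0 := by
  classical
  have h1 : ∀ u : Fˣ, α (u : F) * conj (β ((u⁻¹ : Fˣ) : F)) = α (u : F) * conj (β⁻¹ (u : F)) := by
    intro u
    rw [MulChar.inv_apply', Units.val_inv_eq_inv_val]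
  simp only [h1]
  exact sum_units_mulChar_mul_conj α β⁻¹

/-! ## SL₂ -/

/-- A parametrization of the Borel subgroup of `SL₂`. -/
def sl2BorelMk (u : Fˣ) (v : F) : SL2 F :=
  sl2Mk (u : F) v 0 ((u⁻¹ : Fˣ) : F) (by simp)

theorem sl2BorelMk_mem (u : Fˣ) (v : F) : sl2BorelMk u v ∈ sl2Borel F := by
  rw [mem_sl2Borel_iff]; rfl

/-- The Borel subgroup of `SL₂` is parametrized by `Fˣ × F`. -/
noncomputable def sl2BorelEquiv : Fˣ × F ≃ sl2Borel F :=
  Equiv.ofBijective (fun p => ⟨sl2BorelMk p.1 p.2, sl2BorelMk_mem p.1 p.2⟩) (by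
    constructor
    · rintro ⟨u, v⟩ ⟨u', v'⟩ h
      have h' : sl2BorelMk u v = sl2BorelMk u' v' := congrArg Subtype.val h
      have h0 : (sl2BorelMk u v : Matrix (Fin 2) (Fin 2) F) 0 0 = (sl2BorelMk u' v' : Matrix (Fin 2) (Fin 2) F) 0 0 := by rw [h']
      have h1 : (sl2BorelMk u v : Matrix (Fin 2) (Fin 2) F) 0 1 = (sl2BorelMk u' v' : Matrix (Fin 2) (Fin 2) F) 0 1 := by rw [h']
      have h0' : (u : F) = u' := h0
      have h1' : v = v' := h1
      rw [Units.ext h0', h1']
    · rintro ⟨b, hb⟩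
      have hb0 := (mem_sl2Borel_iff b).mp hb
      have hd := sl2_det b
      rw [hb0] at hd
      have hu : (b : Matrix (Fin 2) (Fin 2) F) 0 0 ≠ 0 := by
        intro h
        rw [h] at hd
        simp at hd
      refine ⟨(Units.mk0 _ hu, (b : Matrix (Fin 2) (Fin 2) F) 0 1), ?_⟩
      apply Subtype.ext
      apply sl2_ext
      · rfl
      · rfl
      · exact hb0.symm
      · change ((Units.mk0 _ hu)⁻¹ : Fˣ).val = _
        simp only [Units.val_inv_eq_inv_val, Units.val_mk0]
        field_simp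
        linear_combination -hd)

theorem card_sl2Borel [Fintype F] [DecidableEq F] :
    (Nat.card (sl2Borel F) : ℂ) = ((Fintype.card F : ℂ) - 1) * (Fintype.card F : ℂ) := by
  rw [← Nat.card_congr (sl2BorelEquiv (F := F)), Nat.card_prod, Nat.card_units, Nat.card_eq_fintype_card]
  push_cast
  rw [Nat.cast_sub Fintype.card_pos]
  simp

/-- The induced function on the Borel subgroup. -/
theorem indFun_sl2_borel [Fintype F] [DecidableEq F] (α : MulChar F ℂ) (u : Fˣ) (v : F) :
    indFun (sl2Borel F) (fun b => α (((b : SL2 F) : Matrix (Fin 2) (Fin 2) F) 0 0)) (sl2BorelMk u v) =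
      α (u : F) + ∑ t : F, if ((u⁻¹ : Fˣ) : F) * t - (u : F) * t - v = 0 then α ((u⁻¹ : Fˣ) : F) else 0 := by
  classical
  rw [indFun_sl2_apply, Fintype.sum_option]
  congr 1
  · rw [if_pos]
    · rfl
    · rfl
  · apply Finset.sum_congr rfl
    intro t _
    have h : sl2Fix (sl2BorelMk u v) (some t) ↔ ((u⁻¹ : Fˣ) : F) * t - (u : F) * t - v = 0 := by
      change (0 : F) * t ^ 2 + (((u⁻¹ : Fˣ) : F) - (u : F)) * t - v = 0 ↔ _
      constructor
      · intro h; linear_combination h
      · intro h; linear_combination h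
    have hv : sl2Val (sl2BorelMk u v) (some t) = ((u⁻¹ : Fˣ) : F) := by
      change (0 : F) * t + ((u⁻¹ : Fˣ) : F) = _
      ring
    rw [hv]
    simp only [h]

/-- For `e : F`, the number of pairs (v, t) with `e t − v = 0` is `q`. -/
theorem sum_sum_ite_linear [Fintype F] [DecidableEq F] (e : F) (x : ℂ) :
    ∑ v : F, ∑ t : F, (if e * t - v = 0 then x else 0) = (Fintype.card F : ℂ) * x := by
  rw [Finset.sum_comm]
  have : ∀ t : F, ∑ v : F, (if e * t - v = 0 then x else 0) = x := by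
    intro t
    have : ∀ v : F, (e * t - v = 0) ↔ (v = e * t) := by
      intro v
      constructor
      · intro h; linear_combination -h
      · intro h; rw [h]; ring
    simp only [this]
    simp
  simp [this, Finset.card_univ]

/-- The Mackey formula on SL₂. -/
theorem classInner_indFun_sl2 [Fintype F] [DecidableEq F] (α β : MulChar F ℂ) [Decidable (α = β)] [Decidable (α = β⁻¹)] :
    classInner (indFun (sl2Borel F) (fun b => α (((b : SL2 F) : Matrix (Fin 2) (Fin 2) F) 0 0)))
      (indFun (sl2Borel F) (fun b => β (((b : SL2 F) : Matrix (Fin 2) (Fin 2) F) 0 0))) =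
      (if α = β then 1 else 0) + (if α = β⁻¹ then 1 else 0) := by
  classical
  rw [classInner_indFun_left _ _ _ (isClassFunction_indFun _ _)]
  simp only [classInner]
  have hcard := card_sl2Borel (F := F)
  have hq : (Fintype.card F : ℂ) ≠ 0 := by
    have : Fintype.card F ≠ 0 := Fintype.card_ne_zero
    exact_mod_cast this
  have hq1 : (Fintype.card F : ℂ) - 1 ≠ 0 := by
    have h2 : 2 ≤ Fintype.card F := Fintype.one_lt_card
    intro h
    have h3 : (Fintype.card F : ℂ) = 1 := by linear_combination h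
    have h4 : Fintype.card F = 1 := by exact_mod_cast h3
    omega
  rw [hcard, ← (sl2BorelEquiv (F := F)).sum_comp, Fintype.sum_prod_type]
  have hinner : ∀ u : Fˣ, ∑ v : F, α (((sl2BorelEquiv (u, v) : sl2Borel F) : SL2 F).1 0 0) *
      conj (indFun (sl2Borel F) (fun b => β (((b : SL2 F) : Matrix (Fin 2) (Fin 2) F) 0 0)) ((sl2BorelEquiv (u, v) : sl2Borel F) : SL2 F)) =
      (Fintype.card F : ℂ) * (α (u : F) * conj (β (u : F))) + (Fintype.card F : ℂ) * (α (u : F) * conj (β ((u⁻¹ : Fˣ) : F))) := by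
    intro u
    have : ∀ v : F, α (((sl2BorelEquiv (u, v) : sl2Borel F) : SL2 F).1 0 0) *
      conj (indFun (sl2Borel F) (fun b => β (((b : SL2 F) : Matrix (Fin 2) (Fin 2) F) 0 0)) ((sl2BorelEquiv (u, v) : sl2Borel F) : SL2 F)) =
        α (u : F) * conj (β (u : F)) + α (u : F) * ∑ t : F, if (((u⁻¹ : Fˣ) : F) - (u : F)) * t - v = 0 then conj (β ((u⁻¹ : Fˣ) : F)) else 0 := by
      intro v
      change α (u : F) * conj (indFun (sl2Borel F) (fun b => β (((b : SL2 F) : Matrix (Fin 2) (Fin 2) F) 0 0)) (sl2BorelMk u v)) = _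
      rw [indFun_sl2_borel, map_add, map_sum, mul_add]
      congr 3
      funext t
      have : (((u⁻¹ : Fˣ) : F) - (u : F)) * t = ((u⁻¹ : Fˣ) : F) * t - (u : F) * t := by ring
      rw [this]
      split_ifs <;> simp
    simp only [this]
    rw [Finset.sum_add_distrib, ← Finset.mul_sum (Finset.univ) (fun v => ∑ t : F, if (((u⁻¹ : Fˣ) : F) - (u : F)) * t - v = 0 then conj (β ((u⁻¹ : Fˣ) : F)) else 0), sum_sum_ite_linear]
    simp [Finset.card_univ]
    ring
  simp only [hinner]
  rw [Finset.sum_add_distrib, ← Finset.mul_sum, ← Finset.mul_sum,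
    sum_units_mulChar_mul_conj, sum_units_mulChar_mul_conj_inv]
  split_ifs <;> field_simp <;> ring

/-- The diagonal homomorphism of the Borel subgroup of `SL₂`. -/
noncomputable def sl2BorelDiag : sl2Borel F →* Fˣ where
  toFun b := Units.mk0 (((b : SL2 F) : Matrix (Fin 2) (Fin 2) F) 0 0) (by
    intro h
    have := sl2Borel_det b
    rw [h] at this
    simp at this)
  map_one' := by
    apply Units.ext
    simp
  map_mul' a b := by
    apply Units.ext
    simp only [Units.val_mk0, Units.val_mul]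
    exact sl2Borel_mul_00 a b

theorem isCharacter_sl2Theta [Fintype F] (α : MulChar F ℂ) :
    IsIrrCharacter (sl2Borel F) (fun b => α (((b : SL2 F) : Matrix (Fin 2) (Fin 2) F) 0 0)) := by
  have := isIrrCharacter_of_monoidHom ((MulChar.toUnitHom α).comp (sl2BorelDiag (F := F)))
  convert this using 2
  rename_i b
  change α _ = ((MulChar.toUnitHom α (sl2BorelDiag b) : ℂˣ) : ℂ)
  rw [MulChar.coe_toUnitHom]
  rfl

theorem isCharacter_indFun_sl2 [Fintype F] [DecidableEq F] (α : MulChar F ℂ) :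
    IsCharacter (SL2 F) (indFun (sl2Borel F) (fun b => α (((b : SL2 F) : Matrix (Fin 2) (Fin 2) F) 0 0))) :=
  isCharacter_indFun _ (IsIrrCharacter.isCharacter (isCharacter_sl2Theta α))

/-- The function induced from `b ↦ α(b₁₁)` to `SL₂` is irreducible iff `α² ≠ 1`. -/
theorem isIrr_indFun_sl2_iff [Fintype F] [DecidableEq F] (α : MulChar F ℂ) :
    IsIrrCharacter (SL2 F) (indFun (sl2Borel F) (fun b => α (((b : SL2 F) : Matrix (Fin 2) (Fin 2) F) 0 0))) ↔
      α ^ 2 ≠ 1 := by
  classical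
  have hinner := classInner_indFun_sl2 α α
  have hiff : α = α⁻¹ ↔ α ^ 2 = 1 := by
    rw [pow_two]
    exact eq_inv_iff_mul_eq_one
  constructor
  · intro h hα
    have h1 := classInner_irr_self h
    rw [hinner, if_pos rfl, if_pos (hiff.mpr hα)] at h1
    norm_num at h1
  · intro hα
    apply isIrrCharacter_of_classInner_self (isCharacter_indFun_sl2 α)
    rw [hinner, if_pos rfl, if_neg (fun h => hα (hiff.mp h))]
    simp

/-! ## GL₂ -/

/-- The element `(a, v; 0, d)` of the Borel subgroup of `GL₂`. -/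
noncomputable def gl2BorelMk (a d : Fˣ) (v : F) : Matrix.GeneralLinearGroup (Fin 2) F :=
  ⟨!![(a : F), v; 0, (d : F)], !![((a⁻¹ : Fˣ) : F), -((a⁻¹ : Fˣ) : F) * v * ((d⁻¹ : Fˣ) : F); 0, ((d⁻¹ : Fˣ) : F)], by
    ext i j; fin_cases i <;> fin_cases j <;> simp [Matrix.mul_apply, Fin.sum_univ_two] <;> field_simp <;> ring, by
    ext i j; fin_cases i <;> fin_cases j <;> simp [Matrix.mul_apply, Fin.sum_univ_two] <;> field_simp <;> ring⟩

theorem gl2BorelMk_coe (a d : Fˣ) (v : F) :
    ((gl2BorelMk a d v : Matrix.GeneralLinearGroup (Fin 2) F) : Matrix (Fin 2) (Fin 2) F) = !![(a : F), v; 0, (d : F)] := rfl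

theorem gl2BorelMk_mem (a d : Fˣ) (v : F) : gl2BorelMk a d v ∈ Cfsg.upperTriangularGL 2 F := by
  rw [mem_upperTriangularGL_two]; rfl

/-- The Borel subgroup of `GL₂` is parametrized by `Fˣ × Fˣ × F`. -/
noncomputable def gl2BorelEquiv : Fˣ × Fˣ × F ≃ Cfsg.upperTriangularGL 2 F :=
  Equiv.ofBijective (fun p => ⟨gl2BorelMk p.1 p.2.1 p.2.2, gl2BorelMk_mem _ _ _⟩) (by
    constructor
    · rintro ⟨a, d, v⟩ ⟨a', d', v'⟩ h
      have h' : gl2BorelMk a d v = gl2BorelMk a' d' v' := congrArg Subtype.val h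
      have h00 : (gl2BorelMk a d v : Matrix (Fin 2) (Fin 2) F) 0 0 = (gl2BorelMk a' d' v' : Matrix (Fin 2) (Fin 2) F) 0 0 := by rw [h']
      have h01 : (gl2BorelMk a d v : Matrix (Fin 2) (Fin 2) F) 0 1 = (gl2BorelMk a' d' v' : Matrix (Fin 2) (Fin 2) F) 0 1 := by rw [h']
      have h11 : (gl2BorelMk a d v : Matrix (Fin 2) (Fin 2) F) 1 1 = (gl2BorelMk a' d' v' : Matrix (Fin 2) (Fin 2) F) 1 1 := by rw [h']
      simp only [gl2BorelMk_coe] at h00 h01 h11
      simp at h00 h01 h11
      rw [Units.ext h00, Units.ext h11, h01]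
    · rintro ⟨b, hb⟩
      have hb0 := (mem_upperTriangularGL_two b).mp hb
      have hd := gl2_det_ne' b
      rw [hb0] at hd
      have h0 : (b : Matrix (Fin 2) (Fin 2) F) 0 0 ≠ 0 := by
        intro h; rw [h] at hd; simp at hd
      have h1 : (b : Matrix (Fin 2) (Fin 2) F) 1 1 ≠ 0 := by
        intro h; rw [h] at hd; simp at hd
      refine ⟨(Units.mk0 _ h0, Units.mk0 _ h1, (b : Matrix (Fin 2) (Fin 2) F) 0 1), ?_⟩
      apply Subtype.ext
      apply Units.ext
      ext i j
      fin_cases i <;> fin_cases j <;> simp [gl2BorelMk_coe, hb0])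

theorem card_gl2Borel [Fintype F] [DecidableEq F] :
    (Nat.card (Cfsg.upperTriangularGL 2 F) : ℂ) = ((Fintype.card F : ℂ) - 1) * (((Fintype.card F : ℂ) - 1) * (Fintype.card F : ℂ)) := by
  rw [← Nat.card_congr (gl2BorelEquiv (F := F)), Nat.card_prod, Nat.card_prod, Nat.card_units, Nat.card_eq_fintype_card]
  push_cast
  rw [Nat.cast_sub Fintype.card_pos]
  simp

theorem gl2Borel_mul_00 (a b : Cfsg.upperTriangularGL 2 F) :
    (((a * b : Cfsg.upperTriangularGL 2 F) : Matrix.GeneralLinearGroup (Fin 2) F) : Matrix (Fin 2) (Fin 2) F) 0 0 =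
      ((a : Matrix.GeneralLinearGroup (Fin 2) F) : Matrix (Fin 2) (Fin 2) F) 0 0 *
        ((b : Matrix.GeneralLinearGroup (Fin 2) F) : Matrix (Fin 2) (Fin 2) F) 0 0 := by
  have hb := (mem_upperTriangularGL_two _).mp b.2
  change ((((a : Matrix.GeneralLinearGroup (Fin 2) F) * (b : Matrix.GeneralLinearGroup (Fin 2) F) : Matrix.GeneralLinearGroup (Fin 2) F)) : Matrix (Fin 2) (Fin 2) F) 0 0 = _
  rw [Units.val_mul, Matrix.mul_apply, Fin.sum_univ_two, hb]
  ring

theorem gl2Borel_mul_11 (a b : Cfsg.upperTriangularGL 2 F) :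
    (((a * b : Cfsg.upperTriangularGL 2 F) : Matrix.GeneralLinearGroup (Fin 2) F) : Matrix (Fin 2) (Fin 2) F) 1 1 =
      ((a : Matrix.GeneralLinearGroup (Fin 2) F) : Matrix (Fin 2) (Fin 2) F) 1 1 *
        ((b : Matrix.GeneralLinearGroup (Fin 2) F) : Matrix (Fin 2) (Fin 2) F) 1 1 := by
  have ha := (mem_upperTriangularGL_two _).mp a.2
  change ((((a : Matrix.GeneralLinearGroup (Fin 2) F) * (b : Matrix.GeneralLinearGroup (Fin 2) F) : Matrix.GeneralLinearGroup (Fin 2) F)) : Matrix (Fin 2) (Fin 2) F) 1 1 = _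
  rw [Units.val_mul, Matrix.mul_apply, Fin.sum_univ_two, ha]
  ring

theorem gl2Borel_entry_ne (b : Cfsg.upperTriangularGL 2 F) :
    ((b : Matrix.GeneralLinearGroup (Fin 2) F) : Matrix (Fin 2) (Fin 2) F) 0 0 ≠ 0 ∧
    ((b : Matrix.GeneralLinearGroup (Fin 2) F) : Matrix (Fin 2) (Fin 2) F) 1 1 ≠ 0 := by
  have hb := (mem_upperTriangularGL_two _).mp b.2
  have hd := gl2_det_ne' (b : Matrix.GeneralLinearGroup (Fin 2) F)
  rw [hb] at hd
  constructor
  · intro h; rw [h] at hd; simp at hd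
  · intro h; rw [h] at hd; simp at hd

/-- The diagonal homomorphisms of the Borel subgroup of `GL₂`. -/
noncomputable def gl2BorelDiag0 : Cfsg.upperTriangularGL 2 F →* Fˣ where
  toFun b := Units.mk0 _ (gl2Borel_entry_ne b).1
  map_one' := by
    apply Units.ext
    simp
  map_mul' a b := by
    apply Units.ext
    simp only [Units.val_mk0, Units.val_mul]
    exact gl2Borel_mul_00 a b

/-- The diagonal homomorphisms of the Borel subgroup of `GL₂`. -/
noncomputable def gl2BorelDiag1 : Cfsg.upperTriangularGL 2 F →* Fˣ where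
  toFun b := Units.mk0 _ (gl2Borel_entry_ne b).2
  map_one' := by
    apply Units.ext
    simp
  map_mul' a b := by
    apply Units.ext
    simp only [Units.val_mk0, Units.val_mul]
    exact gl2Borel_mul_11 a b

/-- The linear character `b ↦ α(b₁₁) β(b₂₂)` of the Borel subgroup of `GL₂`. -/
noncomputable def gl2Theta (α β : MulChar F ℂ) : Cfsg.upperTriangularGL 2 F → ℂ :=
  fun b => α (((b : Matrix.GeneralLinearGroup (Fin 2) F) : Matrix (Fin 2) (Fin 2) F) 0 0) *
    β (((b : Matrix.GeneralLinearGroup (Fin 2) F) : Matrix (Fin 2) (Fin 2) F) 1 1)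

theorem isIrr_gl2Theta [Fintype F] (α β : MulChar F ℂ) :
    IsIrrCharacter (Cfsg.upperTriangularGL 2 F) (gl2Theta α β) := by
  have := isIrrCharacter_of_monoidHom
    (((MulChar.toUnitHom α).comp (gl2BorelDiag0 (F := F))) * ((MulChar.toUnitHom β).comp (gl2BorelDiag1 (F := F))))
  convert this using 2
  rename_i b
  change α _ * β _ = ((MulChar.toUnitHom α (gl2BorelDiag0 b) : ℂˣ) : ℂ) * ((MulChar.toUnitHom β (gl2BorelDiag1 b) : ℂˣ) : ℂ)
  rw [MulChar.coe_toUnitHom, MulChar.coe_toUnitHom]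
  rfl

theorem gl2Theta_conj (α β : MulChar F ℂ) (b h : Cfsg.upperTriangularGL 2 F) :
    gl2Theta α β (h⁻¹ * b * h) = gl2Theta α β b := by
  simp only [gl2Theta]
  rw [gl2Borel_mul_00, gl2Borel_mul_00, gl2Borel_mul_11, gl2Borel_mul_11]
  have hinv0 : (((h⁻¹ : Cfsg.upperTriangularGL 2 F) : Matrix.GeneralLinearGroup (Fin 2) F) : Matrix (Fin 2) (Fin 2) F) 0 0 *
      ((h : Matrix.GeneralLinearGroup (Fin 2) F) : Matrix (Fin 2) (Fin 2) F) 0 0 = 1 := by
    rw [← gl2Borel_mul_00]
    simp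
  have hinv1 : (((h⁻¹ : Cfsg.upperTriangularGL 2 F) : Matrix.GeneralLinearGroup (Fin 2) F) : Matrix (Fin 2) (Fin 2) F) 1 1 *
      ((h : Matrix.GeneralLinearGroup (Fin 2) F) : Matrix (Fin 2) (Fin 2) F) 1 1 = 1 := by
    rw [← gl2Borel_mul_11]
    simp
  congr 2
  · linear_combination ((b : Matrix.GeneralLinearGroup (Fin 2) F) : Matrix (Fin 2) (Fin 2) F) 0 0 * hinv0
  · linear_combination ((b : Matrix.GeneralLinearGroup (Fin 2) F) : Matrix (Fin 2) (Fin 2) F) 1 1 * hinv1

/-- The eigenvalue of `g` on the line labelled `ℓ`. -/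
def gl2Val0 (g : Matrix.GeneralLinearGroup (Fin 2) F) : Option F → F
  | none => (g : Matrix (Fin 2) (Fin 2) F) 0 0
  | some t => (g : Matrix (Fin 2) (Fin 2) F) 1 0 * t + (g : Matrix (Fin 2) (Fin 2) F) 1 1

/-- The eigenvalue of `g` on the quotient by the line labelled `ℓ`. -/
def gl2Val1 (g : Matrix.GeneralLinearGroup (Fin 2) F) : Option F → F
  | none => (g : Matrix (Fin 2) (Fin 2) F) 1 1
  | some t => (g : Matrix (Fin 2) (Fin 2) F) 0 0 - (g : Matrix (Fin 2) (Fin 2) F) 1 0 * t

theorem gl2Rep_conj_00 (g : Matrix.GeneralLinearGroup (Fin 2) F) (ℓ : Option F) :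
    (((gl2Rep ℓ)⁻¹ * g * gl2Rep ℓ : Matrix.GeneralLinearGroup (Fin 2) F) : Matrix (Fin 2) (Fin 2) F) 0 0 = gl2Val0 g ℓ := by
  cases ℓ with
  | none => simp [gl2Rep, gl2Val0]
  | some t =>
    simp only [gl2Val0, gl2Rep, Units.val_mul, gl2R_inv_coe, gl2R_coe, Matrix.mul_apply, Fin.sum_univ_two]
    simp

theorem gl2Rep_conj_11 (g : Matrix.GeneralLinearGroup (Fin 2) F) (ℓ : Option F) :
    (((gl2Rep ℓ)⁻¹ * g * gl2Rep ℓ : Matrix.GeneralLinearGroup (Fin 2) F) : Matrix (Fin 2) (Fin 2) F) 1 1 = gl2Val1 g ℓ := by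
  cases ℓ with
  | none => simp [gl2Rep, gl2Val1]
  | some t =>
    simp only [gl2Val1, gl2Rep, Units.val_mul, gl2R_inv_coe, gl2R_coe, Matrix.mul_apply, Fin.sum_univ_two]
    simp
    ring

/-- The explicit formula for the function induced from `b ↦ α(b₁₁) β(b₂₂)` on `GL₂`. -/
theorem indFun_gl2_apply [Fintype F] [DecidableEq F] (α β : MulChar F ℂ)
    (g : Matrix.GeneralLinearGroup (Fin 2) F) [DecidablePred (gl2Fix g)] :
    indFun (Cfsg.upperTriangularGL 2 F) (gl2Theta α β) g =
      ∑ ℓ : Option F, if gl2Fix g ℓ then α (gl2Val0 g ℓ) * β (gl2Val1 g ℓ) else 0 := by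
  classical
  rw [indFun_eq_sum_reps _ _ (gl2Theta_conj α β) gl2Rep gl2Rep_surj gl2Rep_inj g]
  apply Finset.sum_congr rfl
  intro ℓ _
  split_ifs with h
  · have hm := (gl2Rep_conj_mem_iff g ℓ).mpr h
    rw [extendByZero_of_mem _ _ hm]
    simp only [gl2Theta]
    rw [gl2Rep_conj_00, gl2Rep_conj_11]
  · have hm : (gl2Rep ℓ)⁻¹ * g * gl2Rep ℓ ∉ Cfsg.upperTriangularGL 2 F :=
      fun hh => h ((gl2Rep_conj_mem_iff g ℓ).mp hh)
    rw [extendByZero_of_notMem _ _ hm]

/-- The induced function on the Borel subgroup of `GL₂`. -/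
theorem indFun_gl2_borel [Fintype F] [DecidableEq F] (α β : MulChar F ℂ) (a d : Fˣ) (v : F) :
    indFun (Cfsg.upperTriangularGL 2 F) (gl2Theta α β) (gl2BorelMk a d v) =
      α (a : F) * β (d : F) + ∑ t : F, if ((d : F) - (a : F)) * t - v = 0 then α (d : F) * β (a : F) else 0 := by
  classical
  rw [indFun_gl2_apply, Fintype.sum_option]
  congr 1
  · rw [if_pos]
    · rfl
    · simp [gl2Fix, gl2BorelMk_coe]
  · apply Finset.sum_congr rfl
    intro t _
    have h : gl2Fix (gl2BorelMk a d v) (some t) ↔ ((d : F) - (a : F)) * t - v = 0 := by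
      simp [gl2Fix, gl2BorelMk_coe]
    have hv0 : gl2Val0 (gl2BorelMk a d v) (some t) = (d : F) := by
      simp [gl2Val0, gl2BorelMk_coe]
    have hv1 : gl2Val1 (gl2BorelMk a d v) (some t) = (a : F) := by
      simp [gl2Val1, gl2BorelMk_coe]
    rw [hv0, hv1]
    simp only [h]

/-- The Mackey formula on GL₂. -/
theorem classInner_indFun_gl2 [Fintype F] [DecidableEq F] (α β α' β' : MulChar F ℂ)
    [Decidable (α = α')] [Decidable (β = β')] [Decidable (α = β')] [Decidable (β = α')] :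
    classInner (indFun (Cfsg.upperTriangularGL 2 F) (gl2Theta α β))
      (indFun (Cfsg.upperTriangularGL 2 F) (gl2Theta α' β')) =
      (if α = α' then 1 else 0) * (if β = β' then 1 else 0) + (if α = β' then 1 else 0) * (if β = α' then 1 else 0) := by
  classical
  rw [classInner_indFun_left _ _ _ (isClassFunction_indFun _ _)]
  simp only [classInner]
  have hcard := card_gl2Borel (F := F)
  have hq : (Fintype.card F : ℂ) ≠ 0 := by
    have : Fintype.card F ≠ 0 := Fintype.card_ne_zero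
    exact_mod_cast this
  have hq1 : (Fintype.card F : ℂ) - 1 ≠ 0 := by
    have h2 : 2 ≤ Fintype.card F := Fintype.one_lt_card
    intro h
    have h3 : (Fintype.card F : ℂ) = 1 := by linear_combination h
    have h4 : Fintype.card F = 1 := by exact_mod_cast h3
    omega
  rw [hcard, ← (gl2BorelEquiv (F := F)).sum_comp, Fintype.sum_prod_type]
  simp only [Fintype.sum_prod_type]
  have hinner : ∀ (a d : Fˣ), ∑ v : F, gl2Theta α β (gl2BorelEquiv (a, d, v)) *
      conj (indFun (Cfsg.upperTriangularGL 2 F) (gl2Theta α' β') ((gl2BorelEquiv (a, d, v) : Cfsg.upperTriangularGL 2 F) : Matrix.GeneralLinearGroup (Fin 2) F)) =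
      (Fintype.card F : ℂ) * ((α (a : F) * conj (α' (a : F))) * (β (d : F) * conj (β' (d : F)))) +
      (Fintype.card F : ℂ) * ((α (a : F) * conj (β' (a : F))) * (β (d : F) * conj (α' (d : F)))) := by
    intro a d
    have : ∀ v : F, gl2Theta α β (gl2BorelEquiv (a, d, v)) *
      conj (indFun (Cfsg.upperTriangularGL 2 F) (gl2Theta α' β') ((gl2BorelEquiv (a, d, v) : Cfsg.upperTriangularGL 2 F) : Matrix.GeneralLinearGroup (Fin 2) F)) =
        (α (a : F) * conj (α' (a : F))) * (β (d : F) * conj (β' (d : F))) +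
        α (a : F) * β (d : F) * ∑ t : F, if ((d : F) - (a : F)) * t - v = 0 then conj (α' (d : F)) * conj (β' (a : F)) else 0 := by
      intro v
      change α (a : F) * β (d : F) * conj (indFun (Cfsg.upperTriangularGL 2 F) (gl2Theta α' β') (gl2BorelMk a d v)) = _
      rw [indFun_gl2_borel, map_add, map_sum, mul_add, map_mul]
      congr 1
      · ring
      · congr 2
        funext t
        split_ifs <;> simp
    simp only [this]
    rw [Finset.sum_add_distrib, ← Finset.mul_sum (Finset.univ) (fun v => ∑ t : F, if ((d : F) - (a : F)) * t - v = 0 then conj (α' (d : F)) * conj (β' (a : F)) else 0), sum_sum_ite_linear]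
    simp [Finset.card_univ]
    ring
  simp only [hinner]
  have hsum : ∀ (A B C D : MulChar F ℂ) [Decidable (A = B)] [Decidable (C = D)],
      ∑ a : Fˣ, ∑ d : Fˣ, (Fintype.card F : ℂ) * ((A (a : F) * conj (B (a : F))) * (C (d : F) * conj (D (d : F)))) =
      (Fintype.card F : ℂ) * ((if A = B then ((Fintype.card F : ℂ) - 1) else 0) * (if C = D then ((Fintype.card F : ℂ) - 1) else 0)) := by
    intro A B C D _ _
    rw [← sum_units_mulChar_mul_conj, ← sum_units_mulChar_mul_conj, Finset.sum_mul_sum, Finset.mul_sum]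
    apply Finset.sum_congr rfl
    intro a _
    rw [Finset.mul_sum]
  simp only [Finset.sum_add_distrib]
  rw [hsum, hsum]
  split_ifs <;> field_simp <;> ring

theorem isCharacter_indFun_gl2 [Fintype F] [DecidableEq F] (α β : MulChar F ℂ) :
    IsCharacter (Matrix.GeneralLinearGroup (Fin 2) F) (indFun (Cfsg.upperTriangularGL 2 F) (gl2Theta α β)) :=
  isCharacter_indFun _ (IsIrrCharacter.isCharacter (isIrr_gl2Theta α β))

end Cfsg.Agent.Lib.Known
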