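import Mathlib
import Cfsg.Agent.Lib.Known.Mackey

set_option autoImplicit false

namespace Cfsg.Agent.Lib.Known

open Cfsg Cfsg.Agent.Lib.Char
open scoped ComplexConjugate

variable {F : Type*} [Field F]

noncomputable instance mulCharFintype [Fintype F] : Fintype (MulChar F ℂ) := Fintype.ofFinite _

theorem card_mulChar [Fintype F] : Fintype.card (MulChar F ℂ) = Fintype.card F - 1 := by
  classical
  rw [← Nat.card_eq_fintype_card, MulChar.card_eq_card_units_of_hasEnoughRootsOfUnity,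
    Nat.card_units, Nat.card_eq_fintype_card]

theorem sum_mulChar_apply [Fintype F] [DecidableEq F] (a : Fˣ) :
    ∑ χ : MulChar F ℂ, χ (a : F) = if a = 1 then ((Fintype.card F : ℂ) - 1) else 0 := by
  classical
  split_ifs with h
  · subst h
    simp only [Units.val_one, MulChar.map_one, Finset.sum_const, Finset.card_univ, card_mulChar,
      nsmul_eq_mul, mul_one]
    rw [Nat.cast_sub Fintype.card_pos]
    simp
  · have ha : (a : F) ≠ 1 := fun h' => h (Units.ext h')
    obtain ⟨χ₀, hχ₀⟩ := MulChar.exists_apply_ne_one_of_hasEnoughRootsOfUnity F ℂ ha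
    have h1 : χ₀ (a : F) * ∑ χ : MulChar F ℂ, χ (a : F) = ∑ χ : MulChar F ℂ, χ (a : F) := by
      rw [Finset.mul_sum]
      refine Fintype.sum_equiv (Equiv.mulLeft χ₀) _ _ fun χ => ?_
      simp [MulChar.mul_apply]
    have h2 : (χ₀ (a : F) - 1) * ∑ χ : MulChar F ℂ, χ (a : F) = 0 := by
      linear_combination h1
    exact (mul_eq_zero.mp h2).resolve_left (sub_ne_zero.mpr hχ₀)

/-- Dual orthogonality for the multiplicative characters of a finite field. -/
theorem sum_mulChar_mul_conj [Fintype F] [DecidableEq F] (a b : Fˣ) :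
    ∑ χ : MulChar F ℂ, χ (a : F) * conj (χ (b : F)) = if a = b then ((Fintype.card F : ℂ) - 1) else 0 := by
  classical
  have h1 : ∀ χ : MulChar F ℂ, χ (a : F) * conj (χ (b : F)) = χ ((a / b : Fˣ) : F) := by
    intro χ
    rw [mulChar_conj_apply, MulChar.inv_apply', Units.val_div_eq_div_val, div_eq_mul_inv, map_mul]
  simp only [h1]
  rw [sum_mulChar_apply]
  simp [div_eq_one]

theorem mulChar_ext_units [Fintype F] {α β : MulChar F ℂ} (h : ∀ u : Fˣ, α (u : F) = β (u : F)) : α = β :=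
  MulChar.ext h

theorem mulChar_ne_zero (α : MulChar F ℂ) (u : Fˣ) : α (u : F) ≠ 0 :=
  (u.isUnit.map α).ne_zero

theorem mulChar_norm [Fintype F] (α : MulChar F ℂ) (u : Fˣ) : ‖α (u : F)‖ = 1 := by
  have h0 : α (u : F) * conj (α (u : F)) = 1 := by
    rw [mulChar_conj_apply, MulChar.inv_apply', ← map_mul]
    simp
  have h1 : ((‖α (u : F)‖ ^ 2 : ℝ) : ℂ) = 1 := by
    rw [← h0, Complex.mul_conj, Complex.normSq_eq_norm_sq]
  have h2 : ‖α (u : F)‖ ^ 2 = 1 := by exact_mod_cast h1
  have h3 : 0 ≤ ‖α (u : F)‖ := norm_nonneg _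
  nlinarith

end Cfsg.Agent.Lib.Known
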