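import Mathlib
import Cfsg.Agent.Lib.Known.MulCharDual
import Cfsg.Agent.Lib.Known.GL2Classes
import Cfsg.Agent.Lib.Char.Galois

set_option autoImplicit false

namespace Cfsg.Agent.Lib.Known

open Cfsg Cfsg.Agent.Lib.Char
open scoped ComplexConjugate

/-- `GL₂` as a shorthand. -/
abbrev GL2 (F : Type*) [Field F] := Matrix.GeneralLinearGroup (Fin 2) F

variable {F : Type*} [Field F]

theorem card_ne_zero_complex [Fintype F] : (Fintype.card F : ℂ) ≠ 0 := by
  have : Fintype.card F ≠ 0 := Fintype.card_ne_zero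
  exact_mod_cast this

theorem card_sub_one_ne_zero_complex [Fintype F] : (Fintype.card F : ℂ) - 1 ≠ 0 := by
  have h2 : 2 ≤ Fintype.card F := Fintype.one_lt_card
  intro h
  have h3 : (Fintype.card F : ℂ) = 1 := by linear_combination h
  have h4 : Fintype.card F = 1 := by exact_mod_cast h3
  omega

/-- The character induced from the Borel subgroup. -/
noncomputable def gl2Ind [Fintype F] [DecidableEq F] (α β : MulChar F ℂ) : GL2 F → ℂ :=
  indFun (Cfsg.upperTriangularGL 2 F) (gl2Theta α β)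

/-- The linear character `α ∘ det`. -/
noncomputable def gl2Lin (α : MulChar F ℂ) : GL2 F → ℂ :=
  fun g => α (g : Matrix (Fin 2) (Fin 2) F).det

theorem isIrr_gl2Lin [Fintype F] (α : MulChar F ℂ) : IsIrrCharacter (GL2 F) (gl2Lin α) := by
  have := isIrrCharacter_of_monoidHom ((MulChar.toUnitHom α).comp (Matrix.GeneralLinearGroup.det (n := Fin 2) (R := F)))
  convert this using 2
  rename_i g
  change α _ = ((MulChar.toUnitHom α (Matrix.GeneralLinearGroup.det g) : ℂˣ) : ℂ)
  rw [MulChar.coe_toUnitHom]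
  rfl

theorem isClassFunction_gl2Ind [Fintype F] [DecidableEq F] (α β : MulChar F ℂ) :
    IsClassFunction (GL2 F) (gl2Ind α β) := isClassFunction_indFun _ _

theorem gl2Lin_BorelMk (α : MulChar F ℂ) (a d : Fˣ) (v : F) :
    gl2Lin α (gl2BorelMk a d v) = α (a : F) * α (d : F) := by
  simp only [gl2Lin, gl2BorelMk_coe, Matrix.det_fin_two_of]
  simp

/-- The inner product with an induced character, as a sum over the Borel subgroup. -/
theorem classInner_gl2Ind_right [Fintype F] [DecidableEq F] (χ : GL2 F → ℂ) (hχ : IsClassFunction (GL2 F) χ)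
    (α β : MulChar F ℂ) :
    classInner χ (gl2Ind α β) = (((Fintype.card F : ℂ) - 1) * (((Fintype.card F : ℂ) - 1) * (Fintype.card F : ℂ)))⁻¹ *
      ∑ a : Fˣ, ∑ d : Fˣ, ∑ v : F, χ (gl2BorelMk a d v) * conj (α (a : F) * β (d : F)) := by
  classical
  unfold gl2Ind
  rw [classInner_indFun_right _ _ _ hχ]
  simp only [classInner]
  rw [card_gl2Borel, ← (gl2BorelEquiv (F := F)).sum_comp, Fintype.sum_prod_type]
  simp only [Fintype.sum_prod_type]
  rfl

theorem classInner_gl2Lin_gl2Ind [Fintype F] [DecidableEq F] (γ α β : MulChar F ℂ) [Decidable (γ = α)] [Decidable (γ = β)] :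
    classInner (gl2Lin γ) (gl2Ind α β) = (if γ = α then 1 else 0) * (if γ = β then 1 else 0) := by
  classical
  have hq := card_ne_zero_complex (F := F)
  have hq1 := card_sub_one_ne_zero_complex (F := F)
  rw [classInner_gl2Ind_right _ (IsCharacter.isClassFunction (IsIrrCharacter.isCharacter (isIrr_gl2Lin γ)))]
  have h1 : ∀ a d : Fˣ, ∑ v : F, gl2Lin γ (gl2BorelMk a d v) * conj (α (a : F) * β (d : F)) =
      (Fintype.card F : ℂ) * ((γ (a : F) * conj (α (a : F))) * (γ (d : F) * conj (β (d : F)))) := by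
    intro a d
    simp only [gl2Lin_BorelMk, map_mul, Finset.sum_const, Finset.card_univ, nsmul_eq_mul]
    ring
  simp only [h1]
  have h2 : ∑ a : Fˣ, ∑ d : Fˣ, (Fintype.card F : ℂ) * ((γ (a : F) * conj (α (a : F))) * (γ (d : F) * conj (β (d : F)))) =
      (Fintype.card F : ℂ) * ((if γ = α then ((Fintype.card F : ℂ) - 1) else 0) * (if γ = β then ((Fintype.card F : ℂ) - 1) else 0)) := by
    rw [← sum_units_mulChar_mul_conj, ← sum_units_mulChar_mul_conj, Finset.sum_mul_sum, Finset.mul_sum]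
    apply Finset.sum_congr rfl
    intro a _
    rw [Finset.mul_sum]
  rw [h2]
  split_ifs <;> field_simp <;> ring

theorem gl2Lin_injective [Fintype F] : Function.Injective (gl2Lin (F := F)) := by
  intro α β h
  apply MulChar.ext
  intro a
  have h1 := congrFun h (gl2BorelMk a 1 0)
  simpa [gl2Lin_BorelMk] using h1

theorem classInner_gl2Ind_gl2Ind [Fintype F] [DecidableEq F] (α β α' β' : MulChar F ℂ)
    [Decidable (α = α')] [Decidable (β = β')] [Decidable (α = β')] [Decidable (β = α')] :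
    classInner (gl2Ind α β) (gl2Ind α' β') =
      (if α = α' then 1 else 0) * (if β = β' then 1 else 0) + (if α = β' then 1 else 0) * (if β = α' then 1 else 0) :=
  classInner_indFun_gl2 α β α' β'

theorem isCharacter_gl2Ind [Fintype F] [DecidableEq F] (α β : MulChar F ℂ) :
    IsCharacter (GL2 F) (gl2Ind α β) := isCharacter_indFun_gl2 α β

theorem classInner_self_eq_zero {G : Type*} [Group G] [Fintype G] (f : G → ℂ) (hf : classInner f f = 0) : f = 0 := by
  simp only [Cfsg.classInner] at hf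
  have hG : (Nat.card G : ℂ)⁻¹ ≠ 0 := by
    apply inv_ne_zero
    exact_mod_cast Nat.card_pos.ne'
  have h0 := (mul_eq_zero.mp hf).resolve_left hG
  have h1 : ∀ g, f g * (starRingEnd ℂ) (f g) = ((Complex.normSq (f g) : ℝ) : ℂ) := fun g => Complex.mul_conj _
  simp only [h1] at h0
  have h2 : ∑ g, Complex.normSq (f g) = 0 := by exact_mod_cast h0
  funext g
  have h3 := (Finset.sum_eq_zero_iff_of_nonneg (fun g _ => Complex.normSq_nonneg (f g))).mp h2 g (Finset.mem_univ g)
  simpa using h3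

theorem gl2Ind_comm [Fintype F] [DecidableEq F] (α β : MulChar F ℂ) : gl2Ind α β = gl2Ind β α := by
  classical
  have h0 := classInner_self_eq_zero (gl2Ind α β - gl2Ind β α) (by
    rw [classInner_sub_left, classInner_sub_right, classInner_sub_right,
      classInner_gl2Ind_gl2Ind, classInner_gl2Ind_gl2Ind, classInner_gl2Ind_gl2Ind, classInner_gl2Ind_gl2Ind]
    by_cases a : α = β
    · subst a; simp
    · simp [a, Ne.symm a])
  exact sub_eq_zero.mp h0

theorem gl2Ind_eq_iff [Fintype F] [DecidableEq F] (α β α' β' : MulChar F ℂ) :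
    gl2Ind α β = gl2Ind α' β' ↔ (α = α' ∧ β = β') ∨ (α = β' ∧ β = α') := by
  classical
  constructor
  · intro h
    have h1 := classInner_gl2Ind_gl2Ind α β α' β'
    rw [← h, classInner_gl2Ind_gl2Ind, if_pos rfl, if_pos rfl] at h1
    by_contra hc
    push Not at hc
    have h4 : ((if α = α' then (1 : ℂ) else 0) * (if β = β' then 1 else 0) + (if α = β' then 1 else 0) * (if β = α' then 1 else 0)) = 0 := by
      by_cases a1 : α = α' <;> by_cases a2 : β = β' <;> by_cases a3 : α = β' <;> by_cases a4 : β = α' <;> simp_all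
    rw [h4] at h1
    by_cases a5 : α = β
    · subst a5
      simp at h1
    · simp [a5, Ne.symm a5] at h1
  · rintro (⟨rfl, rfl⟩ | ⟨rfl, rfl⟩)
    · rfl
    · exact gl2Ind_comm _ _

/-! ## Steinberg twists -/

/-- If `R` is a character containing the irreducible `l` then `R - l` is a character. -/
theorem IsCharacter.sub_irr {G : Type*} [Group G] [Fintype G] {R l : G → ℂ} (hR : IsCharacter G R)
    (hl : IsIrrCharacter G l) (h : classInner R l ≠ 0) : IsCharacter G (R - l) := by
  classical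
  apply isCharacter_of_classInner_nat
    (IsClassFunction.sub (IsCharacter.isClassFunction hR) (IsCharacter.isClassFunction (IsIrrCharacter.isCharacter hl)))
  intro ψ hψ
  rw [classInner_sub_left, classInner_irr hl hψ]
  obtain ⟨n, hn⟩ := IsCharacter.classInner_irr_eq_nat hR hψ
  by_cases e : l = ψ
  · subst e
    rw [hn] at h
    have hn' : n ≠ 0 := by
      intro h0; apply h; rw [h0]; simp
    refine ⟨n - 1, ?_⟩
    rw [hn, if_pos rfl, Nat.cast_sub (Nat.one_le_iff_ne_zero.mpr hn')]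
    simp
  · exact ⟨n, by rw [hn, if_neg e]; simp⟩

/-- The twisted Steinberg character. -/
noncomputable def gl2St [Fintype F] [DecidableEq F] (α : MulChar F ℂ) : GL2 F → ℂ :=
  gl2Ind α α - gl2Lin α

theorem classInner_gl2Ind_gl2Lin [Fintype F] [DecidableEq F] (γ α β : MulChar F ℂ) [Decidable (γ = α)] [Decidable (γ = β)] :
    classInner (gl2Ind α β) (gl2Lin γ) = (if γ = α then 1 else 0) * (if γ = β then 1 else 0) := by
  rw [classInner_conj_symm, classInner_gl2Lin_gl2Ind]
  split_ifs <;> simp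

theorem classInner_gl2Lin_gl2Lin [Fintype F] [DecidableEq F] (γ δ : MulChar F ℂ) [Decidable (γ = δ)] :
    classInner (gl2Lin γ) (gl2Lin δ) = if γ = δ then 1 else 0 := by
  classical
  rw [classInner_irr (isIrr_gl2Lin γ) (isIrr_gl2Lin δ)]
  by_cases h : γ = δ
  · subst h; simp
  · rw [if_neg h, if_neg (fun hh => h (gl2Lin_injective hh))]

theorem isIrr_gl2St [Fintype F] [DecidableEq F] (α : MulChar F ℂ) : IsIrrCharacter (GL2 F) (gl2St α) := by
  classical
  have hchar : IsCharacter (GL2 F) (gl2St α) :=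
    IsCharacter.sub_irr (isCharacter_gl2Ind α α) (isIrr_gl2Lin α) (by
      rw [classInner_gl2Ind_gl2Lin]; simp)
  apply isIrrCharacter_of_classInner_self hchar
  unfold gl2St
  rw [classInner_sub_left, classInner_sub_right, classInner_sub_right, classInner_gl2Ind_gl2Ind,
    classInner_gl2Ind_gl2Lin, classInner_gl2Lin_gl2Ind, classInner_gl2Lin_gl2Lin]
  simp

theorem classInner_gl2St_gl2Ind [Fintype F] [DecidableEq F] (γ α β : MulChar F ℂ) [Decidable (γ = α)] [Decidable (γ = β)] :
    classInner (gl2St γ) (gl2Ind α β) = (if γ = α then 1 else 0) * (if γ = β then 1 else 0) := by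
  classical
  unfold gl2St
  rw [classInner_sub_left, classInner_gl2Ind_gl2Ind, classInner_gl2Lin_gl2Ind]
  by_cases h1 : γ = α <;> by_cases h2 : γ = β <;> simp [h1, h2]

theorem gl2St_injective [Fintype F] [DecidableEq F] : Function.Injective (gl2St (F := F)) := by
  classical
  intro α β h
  by_contra hne
  have h1 := classInner_gl2St_gl2Ind α α α
  rw [h, classInner_gl2St_gl2Ind, if_neg (Ne.symm hne)] at h1
  simp at h1

/-! ## Irreducible constituents of the induced characters -/

theorem gl2_eq_of_inner_ne [Fintype F] [DecidableEq F] {χ : GL2 F → ℂ} (hχ : IsIrrCharacter (GL2 F) χ)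
    (α β : MulChar F ℂ) (h : classInner χ (gl2Ind α β) ≠ 0) :
    (α = β ∧ χ = gl2Lin α) ∨ (α = β ∧ χ = gl2St α) ∨ (α ≠ β ∧ χ = gl2Ind α β) := by
  classical
  by_cases hab : α = β
  · subst hab
    have hsplit : gl2Ind α α = gl2St α + gl2Lin α := by simp [gl2St]
    rw [hsplit, classInner_add_right, classInner_irr hχ (isIrr_gl2St α), classInner_irr hχ (isIrr_gl2Lin α)] at h
    by_cases h1 : χ = gl2St α
    · exact Or.inr (Or.inl ⟨rfl, h1⟩)
    · by_cases h2 : χ = gl2Lin α
      · exact Or.inl ⟨rfl, h2⟩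
      · simp [h1, h2] at h
  · right; right
    refine ⟨hab, ?_⟩
    have hirr : IsIrrCharacter (GL2 F) (gl2Ind α β) := by
      apply isIrrCharacter_of_classInner_self (isCharacter_gl2Ind α β)
      rw [classInner_gl2Ind_gl2Ind, if_pos rfl, if_pos rfl, if_neg hab]
      simp
    rw [classInner_irr hχ hirr] at h
    by_contra hne
    rw [if_neg hne] at h
    exact h rfl

theorem isIrr_gl2Ind [Fintype F] [DecidableEq F] {α β : MulChar F ℂ} (hab : α ≠ β) :
    IsIrrCharacter (GL2 F) (gl2Ind α β) := by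
  classical
  apply isIrrCharacter_of_classInner_self (isCharacter_gl2Ind α β)
  rw [classInner_gl2Ind_gl2Ind, if_pos rfl, if_pos rfl, if_neg hab]
  simp

/-! ## Degrees -/

theorem gl2Ind_apply_one [Fintype F] [DecidableEq F] (α β : MulChar F ℂ) :
    gl2Ind α β 1 = (Fintype.card F : ℂ) + 1 := by
  classical
  unfold gl2Ind
  rw [indFun_gl2_apply, Fintype.sum_option]
  have h1 : ∀ ℓ : Option F, gl2Fix (1 : GL2 F) ℓ := by
    intro ℓ
    cases ℓ <;> simp [gl2Fix]
  simp only [h1, if_true]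
  have h2 : ∀ t : F, α (gl2Val0 (1 : GL2 F) (some t)) * β (gl2Val1 (1 : GL2 F) (some t)) = 1 := by
    intro t
    simp [gl2Val0, gl2Val1]
  simp only [h2]
  simp [gl2Val0, gl2Val1, Finset.card_univ]
  ring

theorem gl2Lin_apply_one (α : MulChar F ℂ) : gl2Lin α 1 = 1 := by
  simp [gl2Lin]

theorem gl2St_apply_one [Fintype F] [DecidableEq F] (α : MulChar F ℂ) :
    gl2St α 1 = (Fintype.card F : ℂ) := by
  simp [gl2St, gl2Ind_apply_one, gl2Lin_apply_one]

/-! ## Conjugations inside the Borel subgroup -/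

theorem gl2BorelMk_diag_conj (x y a d : Fˣ) (v : F) :
    gl2BorelMk x y 0 * gl2BorelMk a d v * (gl2BorelMk x y 0)⁻¹ = gl2BorelMk a d ((x : F) * v * ((y⁻¹ : Fˣ) : F)) := by
  apply Units.ext
  change !![(x : F), 0; 0, (y : F)] * !![(a : F), v; 0, (d : F)] * !![((x⁻¹ : Fˣ) : F), -((x⁻¹ : Fˣ) : F) * 0 * ((y⁻¹ : Fˣ) : F); 0, ((y⁻¹ : Fˣ) : F)] = !![(a : F), (x : F) * v * ((y⁻¹ : Fˣ) : F); 0, (d : F)]
  ext i j
  fin_cases i <;> fin_cases j <;> simp [Matrix.mul_apply, Fin.sum_univ_two]
  · field_simp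
  · field_simp

theorem gl2BorelMk_unip_conj (t : F) (a d : Fˣ) (v : F) :
    gl2BorelMk 1 1 t * gl2BorelMk a d v * (gl2BorelMk 1 1 t)⁻¹ = gl2BorelMk a d (v + t * ((d : F) - (a : F))) := by
  apply Units.ext
  change !![((1 : Fˣ) : F), t; 0, ((1 : Fˣ) : F)] * !![(a : F), v; 0, (d : F)] * !![(((1 : Fˣ)⁻¹ : Fˣ) : F), -(((1 : Fˣ)⁻¹ : Fˣ) : F) * t * (((1 : Fˣ)⁻¹ : Fˣ) : F); 0, (((1 : Fˣ)⁻¹ : Fˣ) : F)] = !![(a : F), v + t * ((d : F) - (a : F)); 0, (d : F)]
  ext i j
  fin_cases i <;> fin_cases j <;> simp [Matrix.mul_apply, Fin.sum_univ_two]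
  ring

theorem gl2_unip_isConj (v : F) (hv : v ≠ 0) :
    IsConj (gl2BorelMk (1 : Fˣ) 1 1) (gl2BorelMk (1 : Fˣ) 1 v) := by
  rw [isConj_iff]
  refine ⟨gl2BorelMk (Units.mk0 v hv) 1 0, ?_⟩
  rw [gl2BorelMk_diag_conj]
  simp

theorem gl2_regular_isConj (a d : Fˣ) (had : (a : F) ≠ d) (v : F) :
    IsConj (gl2BorelMk a d 0) (gl2BorelMk a d v) := by
  rw [isConj_iff]
  have hne : (d : F) - a ≠ 0 := sub_ne_zero.mpr (Ne.symm had)
  refine ⟨gl2BorelMk 1 1 (v / ((d : F) - a)), ?_⟩
  rw [gl2BorelMk_unip_conj]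
  congr 1
  field_simp
  ring

/-! ## Cuspidal characters -/

/-- A class function is cuspidal if it is orthogonal to all induced characters. -/
def gl2Cusp [Fintype F] [DecidableEq F] (χ : GL2 F → ℂ) : Prop :=
  ∀ α β : MulChar F ℂ, classInner χ (gl2Ind α β) = 0

/-- A function on the units orthogonal to all characters vanishes. -/
theorem units_fourier_inj [Fintype F] [DecidableEq F] (g : Fˣ → ℂ)
    (h : ∀ α : MulChar F ℂ, ∑ a : Fˣ, g a * conj (α (a : F)) = 0) (a₀ : Fˣ) : g a₀ = 0 := by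
  classical
  have hq1 := card_sub_one_ne_zero_complex (F := F)
  have h1 : ∑ α : MulChar F ℂ, α (a₀ : F) * ∑ a : Fˣ, g a * conj (α (a : F)) = 0 := by
    simp [h]
  have h2 : ∑ α : MulChar F ℂ, α (a₀ : F) * ∑ a : Fˣ, g a * conj (α (a : F)) =
      ∑ a : Fˣ, g a * ∑ α : MulChar F ℂ, α (a₀ : F) * conj (α (a : F)) := by
    simp only [Finset.mul_sum]
    rw [Finset.sum_comm]
    apply Finset.sum_congr rfl; intro a _
    apply Finset.sum_congr rfl; intro α _
    ring
  rw [h2] at h1
  simp only [sum_mulChar_mul_conj] at h1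
  have h3 : ∀ a : Fˣ, g a * (if a₀ = a then ((Fintype.card F : ℂ) - 1) else 0) =
      if a₀ = a then g a * ((Fintype.card F : ℂ) - 1) else 0 := by
    intro a; split_ifs <;> simp
  simp only [h3] at h1
  rw [Finset.sum_ite_eq, if_pos (Finset.mem_univ _)] at h1
  exact (mul_eq_zero.mp h1).resolve_right hq1

/-- The fibres over the diagonal of the sum of a cuspidal class function vanish. -/
theorem gl2Cusp_sum [Fintype F] [DecidableEq F] {χ : GL2 F → ℂ} (hχ : IsClassFunction (GL2 F) χ)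
    (hc : gl2Cusp χ) (a₀ d₀ : Fˣ) : ∑ v : F, χ (gl2BorelMk a₀ d₀ v) = 0 := by
  classical
  have hq := card_ne_zero_complex (F := F)
  have hq1 := card_sub_one_ne_zero_complex (F := F)
  have h1 : ∀ α β : MulChar F ℂ, ∑ a : Fˣ, ∑ d : Fˣ, ∑ v : F, χ (gl2BorelMk a d v) * conj (α (a : F) * β (d : F)) = 0 := by
    intro α β
    have := hc α β
    rw [classInner_gl2Ind_right χ hχ] at this
    have hne : (((Fintype.card F : ℂ) - 1) * (((Fintype.card F : ℂ) - 1) * (Fintype.card F : ℂ)))⁻¹ ≠ 0 := by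
      apply inv_ne_zero
      exact mul_ne_zero hq1 (mul_ne_zero hq1 hq)
    exact (mul_eq_zero.mp this).resolve_left hne
  have h3 : ∀ (β : MulChar F ℂ) (a : Fˣ), ∑ d : Fˣ, (∑ v : F, χ (gl2BorelMk a d v)) * conj (β (d : F)) = 0 := by
    intro β
    apply units_fourier_inj
    intro α
    have := h1 α β
    rw [← this]
    apply Finset.sum_congr rfl; intro a _
    simp only [Finset.sum_mul, map_mul]
    apply Finset.sum_congr rfl; intro d _
    apply Finset.sum_congr rfl; intro v _
    ring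
  have h4 : ∀ a : Fˣ, ∀ d : Fˣ, ∑ v : F, χ (gl2BorelMk a d v) = 0 := by
    intro a
    apply units_fourier_inj
    intro β
    exact h3 β a
  exact h4 a₀ d₀

/-- The unipotent value of a cuspidal class function. -/
theorem gl2Cusp_unip [Fintype F] [DecidableEq F] {χ : GL2 F → ℂ} (hχ : IsClassFunction (GL2 F) χ)
    (hc : gl2Cusp χ) : χ 1 + ((Fintype.card F : ℂ) - 1) * χ (gl2BorelMk (1 : Fˣ) 1 1) = 0 := by
  classical
  have h := gl2Cusp_sum hχ hc 1 1
  have h1 : gl2BorelMk (1 : Fˣ) 1 0 = 1 := by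
    apply Units.ext
    ext i j
    fin_cases i <;> fin_cases j <;> simp [gl2BorelMk_coe]
  rw [← Finset.add_sum_erase _ _ (Finset.mem_univ (0 : F)), h1] at h
  have h2 : ∀ v ∈ Finset.univ.erase (0 : F), χ (gl2BorelMk (1 : Fˣ) 1 v) = χ (gl2BorelMk (1 : Fˣ) 1 1) := by
    intro v hv
    have hv' : v ≠ 0 := by simpa using hv
    exact (IsClassFunction.congr_isConj hχ (gl2_unip_isConj v hv')).symm
  rw [Finset.sum_congr rfl h2] at h
  simp only [Finset.sum_const, Finset.card_erase_of_mem (Finset.mem_univ _), Finset.card_univ, nsmul_eq_mul] at h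
  rw [Nat.cast_sub Fintype.card_pos] at h
  simpa using h

/-- A cuspidal irreducible character has degree divisible by `q - 1`. -/
theorem gl2Cusp_degree [Fintype F] [DecidableEq F] {χ : GL2 F → ℂ} (hχ : IsIrrCharacter (GL2 F) χ)
    (hc : gl2Cusp χ) : ∃ k : ℕ, 1 ≤ k ∧ χ 1 = (((Fintype.card F - 1) * k : ℕ) : ℂ) := by
  classical
  have hq1 := card_sub_one_ne_zero_complex (F := F)
  have hchar := IsIrrCharacter.isCharacter hχ
  have h := gl2Cusp_unip (IsCharacter.isClassFunction hchar) hc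
  obtain ⟨n, hn⟩ := IsCharacter.apply_one hchar
  have hne := IsIrrCharacter.apply_one_ne_zero hχ
  have hx : χ (gl2BorelMk (1 : Fˣ) 1 1) = ((-(n : ℚ) / ((Fintype.card F : ℚ) - 1) : ℚ) : ℂ) := by
    push_cast
    field_simp
    linear_combination h - hn
  obtain ⟨m, hm⟩ := int_of_isIntegral_of_rat (IsCharacter.isIntegral hchar _) ⟨_, hx⟩
  have h2 : (n : ℂ) = -((Fintype.card F : ℂ) - 1) * (m : ℂ) := by
    rw [hm, hn] at h
    linear_combination h
  have h3 : (n : ℤ) = -(((Fintype.card F : ℤ) - 1) * m) := by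
    have : ((n : ℤ) : ℂ) = ((-(((Fintype.card F : ℤ) - 1) * m) : ℤ) : ℂ) := by
      push_cast
      rw [h2]; ring
    exact_mod_cast this
  have hq2 : 2 ≤ Fintype.card F := Fintype.one_lt_card
  have hn0 : n ≠ 0 := by
    intro h0
    apply hne
    rw [hn, h0]; simp
  have hpos : (0 : ℤ) < (Fintype.card F : ℤ) - 1 := by
    have : (2 : ℤ) ≤ (Fintype.card F : ℤ) := by exact_mod_cast hq2
    linarith
  have hm' : m < 0 := by
    by_contra hh
    push Not at hh
    have : (0 : ℤ) ≤ ((Fintype.card F : ℤ) - 1) * m := mul_nonneg hpos.le hh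
    have hn1 : (n : ℤ) ≤ 0 := by linarith
    have : n = 0 := by omega
    exact hn0 this
  refine ⟨(-m).toNat, ?_, ?_⟩
  · omega
  · rw [hn]
    have h5 : n = (Fintype.card F - 1) * (-m).toNat := by
      have h6 : ((-m).toNat : ℤ) = -m := Int.toNat_of_nonneg (by omega)
      have h7 : (((Fintype.card F - 1) * (-m).toNat : ℕ) : ℤ) = ((Fintype.card F : ℤ) - 1) * (-m) := by
        push_cast
        rw [h6, Nat.cast_sub Fintype.card_pos]
        simp
      have : (n : ℤ) = (((Fintype.card F - 1) * (-m).toNat : ℕ) : ℤ) := by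
        rw [h7, h3]; ring
      exact_mod_cast this
    rw [h5]

end Cfsg.Agent.Lib.Known
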