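import Mathlib
import Cfsg.Agent.Lib.Known.GL2Irr

set_option autoImplicit false

namespace Cfsg.Agent.Lib.Known

open Cfsg Cfsg.Agent.Lib.Char
open scoped ComplexConjugate

/-- The degree of an irreducible character as a natural number. -/
noncomputable def irrDeg {G : Type*} [Group G] (χ : IrrCharacter G) : ℕ :=
  Classical.choose (IsIrrCharacter.apply_one χ.2)

theorem irrDeg_pos {G : Type*} [Group G] (χ : IrrCharacter G) : 0 < irrDeg χ :=
  (Classical.choose_spec (IsIrrCharacter.apply_one χ.2)).1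

theorem irrDeg_spec {G : Type*} [Group G] (χ : IrrCharacter G) : (χ : G → ℂ) 1 = (irrDeg χ : ℂ) :=
  (Classical.choose_spec (IsIrrCharacter.apply_one χ.2)).2

theorem irrDeg_eq_iff {G : Type*} [Group G] (χ : IrrCharacter G) (n : ℕ) :
    irrDeg χ = n ↔ (χ : G → ℂ) 1 = (n : ℂ) := by
  rw [irrDeg_spec]
  exact_mod_cast Iff.rfl

theorem sum_irrDeg_sq {G : Type*} [Group G] [Fintype G] :
    ∑ χ : IrrCharacter G, irrDeg χ ^ 2 = Nat.card G := by
  have h := sum_irr_degree_sq (G := G)
  simp only [irrDeg_spec] at h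
  exact_mod_cast h

/-- If every fibre over the image has exactly two elements, the source has twice as many elements. -/
theorem card_eq_two_mul_card_image {X Y : Type*} [DecidableEq Y] (s : Finset X) (f : X → Y)
    (h : ∀ y ∈ s.image f, (s.filter (fun x => f x = y)).card = 2) :
    s.card = 2 * (s.image f).card := by
  classical
  rw [Finset.card_eq_sum_card_image f s]
  rw [Finset.sum_congr rfl h]
  simp [mul_comm]

variable {F : Type*} [Field F] [Fintype F] [DecidableEq F]

theorem gl2_irr_cases {χ : GL2 F → ℂ} (hχ : IsIrrCharacter (GL2 F) χ) :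
    (∃ α, χ = gl2Lin α) ∨ (∃ α, χ = gl2St α) ∨ (∃ α β, α ≠ β ∧ χ = gl2Ind α β) ∨ gl2Cusp χ := by
  by_cases hc : gl2Cusp χ
  · exact Or.inr (Or.inr (Or.inr hc))
  · unfold gl2Cusp at hc
    push Not at hc
    obtain ⟨α, β, h⟩ := hc
    rcases gl2_eq_of_inner_ne hχ α β h with ⟨_, h⟩ | ⟨_, h⟩ | ⟨hab, h⟩
    · exact Or.inl ⟨α, h⟩
    · exact Or.inr (Or.inl ⟨α, h⟩)
    · exact Or.inr (Or.inr (Or.inl ⟨α, β, hab, h⟩))

/-- Set of linear characters. -/
noncomputable def gl2LinSet (F : Type*) [Field F] [Fintype F] [DecidableEq F] : Finset (IrrCharacter (GL2 F)) :=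
  Finset.univ.image (fun α : MulChar F ℂ => ⟨gl2Lin α, isIrr_gl2Lin α⟩)

/-- Set of twisted Steinberg characters. -/
noncomputable def gl2StSet (F : Type*) [Field F] [Fintype F] [DecidableEq F] : Finset (IrrCharacter (GL2 F)) :=
  Finset.univ.image (fun α : MulChar F ℂ => ⟨gl2St α, isIrr_gl2St α⟩)

/-- Set of irreducible principal series characters. -/
noncomputable def gl2IndSet (F : Type*) [Field F] [Fintype F] [DecidableEq F] : Finset (IrrCharacter (GL2 F)) :=
  Finset.univ.image (fun p : {p : MulChar F ℂ × MulChar F ℂ // p.1 ≠ p.2} => ⟨gl2Ind p.1.1 p.1.2, isIrr_gl2Ind p.2⟩)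

open scoped _root_.Classical in
/-- Set of cuspidal characters. -/
noncomputable def gl2CuspSet (F : Type*) [Field F] [Fintype F] [DecidableEq F] : Finset (IrrCharacter (GL2 F)) :=
  Finset.univ.filter (fun χ => gl2Cusp (χ : GL2 F → ℂ))

theorem card_gl2LinSet : (gl2LinSet F).card = Fintype.card F - 1 := by
  unfold gl2LinSet
  rw [Finset.card_image_of_injective, Finset.card_univ, card_mulChar]
  intro α β h
  exact gl2Lin_injective (congrArg Subtype.val h)

theorem card_gl2StSet : (gl2StSet F).card = Fintype.card F - 1 := by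
  unfold gl2StSet
  rw [Finset.card_image_of_injective, Finset.card_univ, card_mulChar]
  intro α β h
  exact gl2St_injective (congrArg Subtype.val h)

theorem card_gl2IndSet : 2 * (gl2IndSet F).card = (Fintype.card F - 1) * (Fintype.card F - 2) := by
  classical
  unfold gl2IndSet
  have h1 := card_eq_two_mul_card_image (Finset.univ : Finset {p : MulChar F ℂ × MulChar F ℂ // p.1 ≠ p.2})
    (fun p => (⟨gl2Ind p.1.1 p.1.2, isIrr_gl2Ind p.2⟩ : IrrCharacter (GL2 F))) (by
      intro y hy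
      obtain ⟨⟨⟨α, β⟩, hab⟩, _, rfl⟩ := Finset.mem_image.mp hy
      rw [Finset.card_eq_two]
      simp only at hab
      refine ⟨⟨(α, β), hab⟩, ⟨(β, α), Ne.symm hab⟩, ?_, ?_⟩
      · intro h
        have h' := congrArg (fun p => p.1.1) h
        exact hab h'
      · ext ⟨⟨α', β'⟩, hab'⟩
        simp only [Finset.mem_filter, Finset.mem_univ, true_and, Finset.mem_insert, Finset.mem_singleton,
          Subtype.mk.injEq, Prod.mk.injEq]
        constructor
        · intro h
          exact (gl2Ind_eq_iff α' β' α β).mp h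
        · rintro (⟨rfl, rfl⟩ | ⟨rfl, rfl⟩)
          · rfl
          · exact gl2Ind_comm _ _)
  rw [← h1, Finset.card_univ, Fintype.card_subtype]
  have h2 : (Finset.univ.filter (fun p : MulChar F ℂ × MulChar F ℂ => p.1 ≠ p.2)) = (Finset.univ : Finset (MulChar F ℂ)).offDiag := by
    ext ⟨a, b⟩
    simp [Finset.mem_offDiag]
  rw [h2, Finset.offDiag_card, Finset.card_univ, card_mulChar]
  have h3 : 2 ≤ Fintype.card F := Fintype.one_lt_card
  obtain ⟨m, hm⟩ : ∃ m, Fintype.card F = m + 2 := ⟨Fintype.card F - 2, by omega⟩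
  rw [hm]
  simp only [Nat.add_sub_cancel]
  have : m + 2 - 1 = m + 1 := rfl
  rw [this]
  have : (m + 1) * (m + 1) - (m + 1) = (m + 1) * m := by
    rw [Nat.sub_eq_iff_eq_add (by nlinarith)]
    ring
  exact this

/-! ## Disjointness -/

theorem irrDeg_of_mem_gl2LinSet {χ : IrrCharacter (GL2 F)} (h : χ ∈ gl2LinSet F) : irrDeg χ = 1 := by
  obtain ⟨α, _, rfl⟩ := Finset.mem_image.mp h
  rw [irrDeg_eq_iff]
  simp [gl2Lin_apply_one]

theorem irrDeg_of_mem_gl2StSet {χ : IrrCharacter (GL2 F)} (h : χ ∈ gl2StSet F) : irrDeg χ = Fintype.card F := by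
  obtain ⟨α, _, rfl⟩ := Finset.mem_image.mp h
  rw [irrDeg_eq_iff]
  exact gl2St_apply_one α

theorem irrDeg_of_mem_gl2IndSet {χ : IrrCharacter (GL2 F)} (h : χ ∈ gl2IndSet F) : irrDeg χ = Fintype.card F + 1 := by
  obtain ⟨α, _, rfl⟩ := Finset.mem_image.mp h
  rw [irrDeg_eq_iff]
  push_cast
  exact gl2Ind_apply_one _ _

theorem not_cusp_of_mem_gl2LinSet {χ : IrrCharacter (GL2 F)} (h : χ ∈ gl2LinSet F) : ¬ gl2Cusp (χ : GL2 F → ℂ) := by
  classical
  obtain ⟨α, _, rfl⟩ := Finset.mem_image.mp h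
  intro hc
  have := hc α α
  simp only at this
  rw [classInner_gl2Lin_gl2Ind] at this
  simp at this

theorem not_cusp_of_mem_gl2StSet {χ : IrrCharacter (GL2 F)} (h : χ ∈ gl2StSet F) : ¬ gl2Cusp (χ : GL2 F → ℂ) := by
  classical
  obtain ⟨α, _, rfl⟩ := Finset.mem_image.mp h
  intro hc
  have := hc α α
  simp only at this
  rw [classInner_gl2St_gl2Ind] at this
  simp at this

theorem not_cusp_of_mem_gl2IndSet {χ : IrrCharacter (GL2 F)} (h : χ ∈ gl2IndSet F) : ¬ gl2Cusp (χ : GL2 F → ℂ) := by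
  classical
  obtain ⟨⟨⟨α, β⟩, hab⟩, _, rfl⟩ := Finset.mem_image.mp h
  intro hc
  have := hc α β
  simp only at this
  rw [classInner_gl2Ind_gl2Ind] at this
  simp only at hab
  simp [hab] at this

theorem gl2_card_and_sum :
    (gl2LinSet F).card + (gl2StSet F).card + (gl2IndSet F).card + (gl2CuspSet F).card = Fintype.card F ^ 2 - 1 ∧
    (gl2LinSet F).card + (gl2StSet F).card * Fintype.card F ^ 2 + (gl2IndSet F).card * (Fintype.card F + 1) ^ 2 +
      ∑ χ ∈ gl2CuspSet F, irrDeg χ ^ 2 = (Fintype.card F ^ 2 - 1) * (Fintype.card F ^ 2 - Fintype.card F) := by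
  classical
  have hq2 : 2 ≤ Fintype.card F := Fintype.one_lt_card
  -- the partition
  have hunion : (Finset.univ : Finset (IrrCharacter (GL2 F))) = gl2LinSet F ∪ gl2StSet F ∪ gl2IndSet F ∪ gl2CuspSet F := by
    ext χ
    simp only [Finset.mem_univ, true_iff, Finset.mem_union]
    rcases gl2_irr_cases χ.2 with ⟨α, h⟩ | ⟨α, h⟩ | ⟨α, β, hab, h⟩ | h
    · left; left; left
      exact Finset.mem_image.mpr ⟨α, Finset.mem_univ _, Subtype.ext h.symm⟩
    · left; left; right
      exact Finset.mem_image.mpr ⟨α, Finset.mem_univ _, Subtype.ext h.symm⟩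
    · left; right
      exact Finset.mem_image.mpr ⟨⟨(α, β), hab⟩, Finset.mem_univ _, Subtype.ext h.symm⟩
    · right
      simp [gl2CuspSet, h]
  have d1 : Disjoint (gl2LinSet F) (gl2StSet F) := by
    rw [Finset.disjoint_left]
    intro χ h1 h2
    have := irrDeg_of_mem_gl2LinSet h1
    have := irrDeg_of_mem_gl2StSet h2
    omega
  have d2 : Disjoint (gl2LinSet F ∪ gl2StSet F) (gl2IndSet F) := by
    rw [Finset.disjoint_left]
    intro χ h1 h2
    have h3 := irrDeg_of_mem_gl2IndSet h2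
    rcases Finset.mem_union.mp h1 with h | h
    · have := irrDeg_of_mem_gl2LinSet h
      omega
    · have := irrDeg_of_mem_gl2StSet h
      omega
  have d3 : Disjoint (gl2LinSet F ∪ gl2StSet F ∪ gl2IndSet F) (gl2CuspSet F) := by
    rw [Finset.disjoint_left]
    intro χ h1 h2
    have h3 : gl2Cusp (χ : GL2 F → ℂ) := by simpa [gl2CuspSet] using h2
    rcases Finset.mem_union.mp h1 with h | h
    · rcases Finset.mem_union.mp h with h | h
      · exact not_cusp_of_mem_gl2LinSet h h3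
      · exact not_cusp_of_mem_gl2StSet h h3
    · exact not_cusp_of_mem_gl2IndSet h h3
  constructor
  · have h := card_irr_eq_card_conjClasses (G := GL2 F)
    rw [card_conjClasses_gl2, Nat.card_eq_fintype_card, ← Finset.card_univ, hunion,
      Finset.card_union_of_disjoint d3, Finset.card_union_of_disjoint d2, Finset.card_union_of_disjoint d1] at h
    exact h
  · have h := sum_irrDeg_sq (G := GL2 F)
    rw [hunion, Finset.sum_union d3, Finset.sum_union d2, Finset.sum_union d1] at h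
    have hcard : Nat.card (GL2 F) = (Fintype.card F ^ 2 - 1) * (Fintype.card F ^ 2 - Fintype.card F) := by
      have := Matrix.card_GL_field (𝔽 := F) 2
      rw [this]
      simp [Fin.prod_univ_two]
    rw [hcard] at h
    rw [← h]
    congr 1
    congr 1
    congr 1
    · rw [Finset.sum_congr rfl (fun χ hχ => by rw [irrDeg_of_mem_gl2LinSet hχ])]
      simp
    · rw [Finset.sum_congr rfl (fun χ hχ => by rw [irrDeg_of_mem_gl2StSet hχ])]
      simp
    · rw [Finset.sum_congr rfl (fun χ hχ => by rw [irrDeg_of_mem_gl2IndSet hχ])]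
      simp

theorem gl2CuspSet_card_and_deg :
    2 * (gl2CuspSet F).card = Fintype.card F * (Fintype.card F - 1) ∧
    ∀ χ ∈ gl2CuspSet F, irrDeg χ = Fintype.card F - 1 := by
  classical
  obtain ⟨h1, h2⟩ := gl2_card_and_sum (F := F)
  have h3 := card_gl2LinSet (F := F)
  have h4 := card_gl2StSet (F := F)
  have h5 := card_gl2IndSet (F := F)
  have hq2 : 2 ≤ Fintype.card F := Fintype.one_lt_card
  obtain ⟨m, hm⟩ : ∃ m, Fintype.card F = m + 2 := ⟨Fintype.card F - 2, by omega⟩
  rw [hm] at h1 h2 h3 h4 h5 ⊢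
  simp only [Nat.add_sub_cancel] at h5 ⊢
  have e1 : m + 2 - 1 = m + 1 := rfl
  rw [e1] at h3 h4 h5 ⊢
  have e2 : (m + 2) ^ 2 - 1 = m ^ 2 + 4 * m + 3 := by
    rw [Nat.sub_eq_iff_eq_add (by nlinarith)]; ring
  have e3 : (m + 2) ^ 2 - (m + 2) = m ^ 2 + 3 * m + 2 := by
    rw [Nat.sub_eq_iff_eq_add (by nlinarith)]; ring
  rw [e2] at h1 h2
  rw [e3] at h2
  rw [h3, h4] at h1 h2
  set R := (gl2IndSet F).card
  set C := (gl2CuspSet F).card
  have hC : 2 * C = (m + 2) * (m + 1) := by nlinarith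
  have hD : ∑ χ ∈ gl2CuspSet F, irrDeg χ ^ 2 = C * (m + 1) ^ 2 := by
    have : 2 * (∑ χ ∈ gl2CuspSet F, irrDeg χ ^ 2) = 2 * (C * (m + 1) ^ 2) := by
      have h6 : 2 * (C * (m + 1) ^ 2) = (2 * C) * (m + 1) ^ 2 := by ring
      rw [h6, hC]
      have h7 : 2 * (R * (m + 2 + 1) ^ 2) = (2 * R) * (m + 2 + 1) ^ 2 := by ring
      nlinarith
    omega
  refine ⟨hC, ?_⟩
  have hle : ∀ χ ∈ gl2CuspSet F, (m + 1) ^ 2 ≤ irrDeg χ ^ 2 := by
    intro χ hχ
    have hc : gl2Cusp (χ : GL2 F → ℂ) := by simpa [gl2CuspSet] using hχ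
    obtain ⟨k, hk, hdeg⟩ := gl2Cusp_degree χ.2 hc
    have : irrDeg χ = (Fintype.card F - 1) * k := (irrDeg_eq_iff χ _).mpr hdeg
    rw [this, hm, e1]
    apply Nat.pow_le_pow_left
    nlinarith
  have heq := (Finset.sum_eq_sum_iff_of_le hle).mp (by
    rw [hD]; simp [C])
  intro χ hχ
  have := heq χ hχ
  exact (Nat.pow_left_injective (n := 2) (by norm_num) this).symm

theorem gl2Cusp_apply_one {χ : GL2 F → ℂ} (hχ : IsIrrCharacter (GL2 F) χ) (hc : gl2Cusp χ) :
    χ 1 = (Fintype.card F : ℂ) - 1 := by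
  classical
  have hmem : (⟨χ, hχ⟩ : IrrCharacter (GL2 F)) ∈ gl2CuspSet F := by simpa [gl2CuspSet] using hc
  have h := (gl2CuspSet_card_and_deg (F := F)).2 _ hmem
  have h2 := (irrDeg_eq_iff _ _).mp h
  change χ 1 = _ at h2
  rw [h2, Nat.cast_sub Fintype.card_pos]
  simp

/-- Degrees of irreducible characters of `GL₂`. -/
theorem gl2_irr_cases' {χ : GL2 F → ℂ} (hχ : IsIrrCharacter (GL2 F) χ) :
    (∃ α, χ = gl2Lin α) ∨ (∃ α, χ = gl2St α) ∨ (∃ α β, α ≠ β ∧ χ = gl2Ind α β) ∨
      (gl2Cusp χ ∧ χ 1 = (Fintype.card F : ℂ) - 1) := by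
  rcases gl2_irr_cases hχ with h | h | h | h
  · exact Or.inl h
  · exact Or.inr (Or.inl h)
  · exact Or.inr (Or.inr (Or.inl h))
  · exact Or.inr (Or.inr (Or.inr ⟨h, gl2Cusp_apply_one hχ h⟩))

theorem gl2_filter_deg_one (hq : 3 ≤ Fintype.card F) :
    Nat.card {χ : IrrCharacter (GL2 F) // (χ : GL2 F → ℂ) 1 = 1} = Fintype.card F - 1 := by
  classical
  rw [← card_gl2LinSet (F := F), Nat.subtype_card (gl2LinSet F)]
  intro χ
  constructor
  · intro h
    rw [irrDeg_spec, ← Nat.cast_one]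
    exact_mod_cast irrDeg_of_mem_gl2LinSet h
  · intro h
    rcases gl2_irr_cases' χ.2 with ⟨α, hα⟩ | ⟨α, hα⟩ | ⟨α, β, hab, hα⟩ | ⟨_, hd⟩
    · exact Finset.mem_image.mpr ⟨α, Finset.mem_univ _, Subtype.ext hα.symm⟩
    · exfalso
      rw [hα, gl2St_apply_one] at h
      have : Fintype.card F = 1 := by exact_mod_cast h
      omega
    · exfalso
      rw [hα, gl2Ind_apply_one] at h
      have : Fintype.card F + 1 = 1 := by exact_mod_cast h
      omega
    · exfalso
      rw [hd] at h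
      have h1 : (Fintype.card F : ℂ) = 2 := by linear_combination h
      have : Fintype.card F = 2 := by exact_mod_cast h1
      omega

theorem gl2_filter_deg_q (hq : 3 ≤ Fintype.card F) :
    Nat.card {χ : IrrCharacter (GL2 F) // (χ : GL2 F → ℂ) 1 = (Fintype.card F : ℂ)} = Fintype.card F - 1 := by
  classical
  rw [← card_gl2StSet (F := F), Nat.subtype_card (gl2StSet F)]
  intro χ
  constructor
  · intro h
    rw [irrDeg_spec]
    exact_mod_cast irrDeg_of_mem_gl2StSet h
  · intro h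
    rcases gl2_irr_cases' χ.2 with ⟨α, hα⟩ | ⟨α, hα⟩ | ⟨α, β, hab, hα⟩ | ⟨_, hd⟩
    · exfalso
      rw [hα, gl2Lin_apply_one] at h
      have : Fintype.card F = 1 := by exact_mod_cast h.symm
      omega
    · exact Finset.mem_image.mpr ⟨α, Finset.mem_univ _, Subtype.ext hα.symm⟩
    · exfalso
      rw [hα, gl2Ind_apply_one] at h
      simp at h
    · exfalso
      rw [hd] at h
      simp at h

theorem gl2_filter_deg_q_add_one :
    Nat.card {χ : IrrCharacter (GL2 F) // (χ : GL2 F → ℂ) 1 = (Fintype.card F : ℂ) + 1} =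
      (Fintype.card F - 1) * (Fintype.card F - 2) / 2 := by
  classical
  have h5 := card_gl2IndSet (F := F)
  rw [← h5, Nat.mul_div_cancel_left _ (by norm_num), Nat.subtype_card (gl2IndSet F)]
  intro χ
  constructor
  · intro h
    rw [irrDeg_spec]
    exact_mod_cast irrDeg_of_mem_gl2IndSet h
  · intro h
    rcases gl2_irr_cases' χ.2 with ⟨α, hα⟩ | ⟨α, hα⟩ | ⟨α, β, hab, hα⟩ | ⟨_, hd⟩
    · exfalso
      rw [hα, gl2Lin_apply_one] at h
      have : (Fintype.card F : ℂ) = 0 := by linear_combination -h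
      exact card_ne_zero_complex this
    · exfalso
      rw [hα, gl2St_apply_one] at h
      simp at h
    · exact Finset.mem_image.mpr ⟨⟨(α, β), hab⟩, Finset.mem_univ _, Subtype.ext hα.symm⟩
    · exfalso
      rw [hd] at h
      have : (-1 : ℂ) = 1 := by linear_combination h
      norm_num at this

theorem gl2_filter_deg_q_sub_one (hq : 3 ≤ Fintype.card F) :
    Nat.card {χ : IrrCharacter (GL2 F) // (χ : GL2 F → ℂ) 1 = (Fintype.card F : ℂ) - 1} =
      Fintype.card F * (Fintype.card F - 1) / 2 := by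
  classical
  have h5 := (gl2CuspSet_card_and_deg (F := F)).1
  rw [← h5, Nat.mul_div_cancel_left _ (by norm_num), Nat.subtype_card (gl2CuspSet F)]
  intro χ
  constructor
  · intro h
    have hc : gl2Cusp (χ : GL2 F → ℂ) := by simpa [gl2CuspSet] using h
    exact gl2Cusp_apply_one χ.2 hc
  · intro h
    rcases gl2_irr_cases' χ.2 with ⟨α, hα⟩ | ⟨α, hα⟩ | ⟨α, β, hab, hα⟩ | ⟨hc, _⟩
    · exfalso
      rw [hα, gl2Lin_apply_one] at h
      have h1 : (Fintype.card F : ℂ) = 2 := by linear_combination -h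
      have : Fintype.card F = 2 := by exact_mod_cast h1
      omega
    · exfalso
      rw [hα, gl2St_apply_one] at h
      have : (1 : ℂ) = 0 := by linear_combination h
      exact one_ne_zero this
    · exfalso
      rw [hα, gl2Ind_apply_one] at h
      have : (1 : ℂ) = -1 := by linear_combination h
      norm_num at this
    · simpa [gl2CuspSet] using hc

/-! ## Values -/

theorem gl2_no_eigenvector_not_fix (g : GL2 F)
    (hno : ∀ (c : F) (v : Fin 2 → F), v ≠ 0 → (g : Matrix (Fin 2) (Fin 2) F).mulVec v ≠ c • v) (ℓ : Option F) :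
    ¬ gl2Fix g ℓ := by
  cases ℓ with
  | none =>
    intro h10
    simp only [gl2Fix] at h10
    apply hno ((g : Matrix (Fin 2) (Fin 2) F) 0 0) ![1, 0]
    · intro h
      have := congrFun h 0
      simp at this
    · funext i
      fin_cases i <;> simp [Matrix.mulVec, dotProduct, Fin.sum_univ_two, h10]
  | some t =>
    intro hroot
    simp only [gl2Fix] at hroot
    apply hno ((g : Matrix (Fin 2) (Fin 2) F) 1 0 * t + (g : Matrix (Fin 2) (Fin 2) F) 1 1) ![t, 1]
    · intro h
      have := congrFun h 1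
      simp at this
    · funext i
      fin_cases i
      · simp [Matrix.mulVec, dotProduct, Fin.sum_univ_two]
        linear_combination -hroot
      · simp [Matrix.mulVec, dotProduct, Fin.sum_univ_two]

theorem gl2Ind_no_eigenvector (α β : MulChar F ℂ) (g : GL2 F)
    (hno : ∀ (c : F) (v : Fin 2 → F), v ≠ 0 → (g : Matrix (Fin 2) (Fin 2) F).mulVec v ≠ c • v) :
    gl2Ind α β g = 0 := by
  classical
  unfold gl2Ind
  rw [indFun_gl2_apply]
  apply Finset.sum_eq_zero
  intro ℓ _
  rw [if_neg (gl2_no_eigenvector_not_fix g hno ℓ)]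

/-- Any element with zero lower-left entry is in the range of `gl2BorelMk`. -/
theorem gl2_exists_borelMk (g : GL2 F) (h10 : (g : Matrix (Fin 2) (Fin 2) F) 1 0 = 0) :
    ∃ (a d : Fˣ) (v : F), g = gl2BorelMk a d v ∧ (a : F) = (g : Matrix (Fin 2) (Fin 2) F) 0 0 ∧
      (d : F) = (g : Matrix (Fin 2) (Fin 2) F) 1 1 ∧ v = (g : Matrix (Fin 2) (Fin 2) F) 0 1 := by
  have hd := gl2_det_ne' g
  rw [h10] at hd
  have h0 : (g : Matrix (Fin 2) (Fin 2) F) 0 0 ≠ 0 := by
    intro h; rw [h] at hd; simp at hd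
  have h1 : (g : Matrix (Fin 2) (Fin 2) F) 1 1 ≠ 0 := by
    intro h; rw [h] at hd; simp at hd
  refine ⟨Units.mk0 _ h0, Units.mk0 _ h1, (g : Matrix (Fin 2) (Fin 2) F) 0 1, ?_, rfl, rfl, rfl⟩
  apply Units.ext
  ext i j
  fin_cases i <;> fin_cases j <;> simp [gl2BorelMk_coe, h10]

theorem gl2Ind_regular (α β : MulChar F ℂ) (a d : Fˣ) (had : (a : F) ≠ d) :
    gl2Ind α β (gl2BorelMk a d 0) = α (a : F) * β (d : F) + α (d : F) * β (a : F) := by
  classical
  unfold gl2Ind
  rw [indFun_gl2_borel]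
  congr 1
  have hne : (d : F) - a ≠ 0 := sub_ne_zero.mpr (Ne.symm had)
  have h1 : ∀ t : F, (((d : F) - (a : F)) * t - 0 = 0) ↔ (t = 0) := by
    intro t
    simp [hne]
  simp only [h1]
  simp

theorem gl2Ind_unip (α β : MulChar F ℂ) :
    gl2Ind α β (gl2BorelMk (1 : Fˣ) 1 1) = 1 := by
  classical
  unfold gl2Ind
  rw [indFun_gl2_borel]
  simp

end Cfsg.Agent.Lib.Known
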