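import Mathlib
import Cfsg.Agent.Lib.Known.GL2Count
import Cfsg.Agent.Lib.Known.SL2Unip

set_option autoImplicit false

namespace Cfsg.Agent.Lib.Known

open Cfsg Cfsg.Agent.Lib.Char
open scoped ComplexConjugate

variable {F : Type*} [Field F] [Fintype F] [DecidableEq F]

/-- The character induced from the Borel subgroup of `SL₂`. -/
noncomputable def sl2Ind (α : MulChar F ℂ) : SL2 F → ℂ :=
  indFun (sl2Borel F) (fun b => α (((b : SL2 F) : Matrix (Fin 2) (Fin 2) F) 0 0))

/-- The trivial character of `SL₂` as a function. -/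
def sl2One (F : Type*) [Field F] : SL2 F → ℂ := fun _ => 1

theorem isIrr_sl2One : IsIrrCharacter (SL2 F) (sl2One F) := isIrrCharacter_one

omit [DecidableEq F] in
theorem isCharacter_sl2One : IsCharacter (SL2 F) (sl2One F) := by
  classical
  exact IsIrrCharacter.isCharacter isIrr_sl2One

theorem isClassFunction_sl2Ind (α : MulChar F ℂ) : IsClassFunction (SL2 F) (sl2Ind α) :=
  isClassFunction_indFun _ _

theorem isCharacter_sl2Ind (α : MulChar F ℂ) : IsCharacter (SL2 F) (sl2Ind α) :=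
  isCharacter_indFun_sl2 α

theorem classInner_sl2Ind_sl2Ind (α β : MulChar F ℂ) [Decidable (α = β)] [Decidable (α = β⁻¹)] :
    classInner (sl2Ind α) (sl2Ind β) = (if α = β then 1 else 0) + (if α = β⁻¹ then 1 else 0) :=
  classInner_indFun_sl2 α β

/-- The inner product with an induced character, as a sum over the Borel subgroup. -/
theorem classInner_sl2Ind_right (χ : SL2 F → ℂ) (hχ : IsClassFunction (SL2 F) χ) (α : MulChar F ℂ) :
    classInner χ (sl2Ind α) = (((Fintype.card F : ℂ) - 1) * (Fintype.card F : ℂ))⁻¹ *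
      ∑ u : Fˣ, ∑ v : F, χ (sl2BorelMk u v) * conj (α (u : F)) := by
  classical
  unfold sl2Ind
  rw [classInner_indFun_right _ _ _ hχ]
  simp only [classInner]
  rw [card_sl2Borel, ← (sl2BorelEquiv (F := F)).sum_comp, Fintype.sum_prod_type]
  rfl

theorem classInner_sl2One_sl2Ind (α : MulChar F ℂ) [Decidable ((1 : MulChar F ℂ) = α)] :
    classInner (sl2One F) (sl2Ind α) = if (1 : MulChar F ℂ) = α then 1 else 0 := by
  classical
  have hq := card_ne_zero_complex (F := F)
  have hq1 := card_sub_one_ne_zero_complex (F := F)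
  rw [classInner_sl2Ind_right _ (IsCharacter.isClassFunction isCharacter_sl2One)]
  have h1 : ∀ u : Fˣ, ∑ v : F, sl2One F (sl2BorelMk u v) * conj (α (u : F)) =
      (Fintype.card F : ℂ) * ((1 : MulChar F ℂ) (u : F) * conj (α (u : F))) := by
    intro u
    simp [sl2One, MulChar.one_apply (Units.isUnit u), Finset.card_univ]
  simp only [h1]
  rw [← Finset.mul_sum, sum_units_mulChar_mul_conj]
  split_ifs
  · field_simp
  · simp

theorem classInner_sl2Ind_sl2One (α : MulChar F ℂ) [Decidable ((1 : MulChar F ℂ) = α)] :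
    classInner (sl2Ind α) (sl2One F) = if (1 : MulChar F ℂ) = α then 1 else 0 := by
  rw [classInner_conj_symm, classInner_sl2One_sl2Ind]
  split_ifs <;> simp

/-- The Steinberg character of `SL₂`. -/
noncomputable def sl2St (F : Type*) [Field F] [Fintype F] [DecidableEq F] : SL2 F → ℂ :=
  sl2Ind (1 : MulChar F ℂ) - sl2One F

theorem isIrr_sl2St : IsIrrCharacter (SL2 F) (sl2St F) := by
  classical
  have hchar : IsCharacter (SL2 F) (sl2St F) :=
    IsCharacter.sub_irr (isCharacter_sl2Ind 1) isIrr_sl2One (by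
      rw [classInner_sl2Ind_sl2One]; simp)
  apply isIrrCharacter_of_classInner_self hchar
  unfold sl2St
  rw [classInner_sub_left, classInner_sub_right, classInner_sub_right, classInner_sl2Ind_sl2Ind,
    classInner_sl2Ind_sl2One, classInner_sl2One_sl2Ind, classInner_irr_self isIrr_sl2One]
  simp

theorem classInner_sl2St_sl2Ind (α : MulChar F ℂ) [Decidable ((1 : MulChar F ℂ) = α)] :
    classInner (sl2St F) (sl2Ind α) = if (1 : MulChar F ℂ) = α then 1 else 0 := by
  classical
  unfold sl2St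
  rw [classInner_sub_left, classInner_sl2Ind_sl2Ind, classInner_sl2One_sl2Ind]
  by_cases h : (1 : MulChar F ℂ) = α
  · subst h; simp
  · have h' : (1 : MulChar F ℂ) ≠ α⁻¹ := by
      intro h2
      apply h
      rw [eq_comm, ← inv_eq_one, ← h2]
    simp [h, h']

/-! ## Cuspidal characters of `SL₂` -/

/-- A class function is cuspidal if it is orthogonal to all induced characters. -/
def sl2Cusp (χ : SL2 F → ℂ) : Prop :=
  ∀ α : MulChar F ℂ, classInner χ (sl2Ind α) = 0

/-- The sum over fibres of a cuspidal class function vanishes. -/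
theorem sl2Cusp_sum {χ : SL2 F → ℂ} (hχ : IsClassFunction (SL2 F) χ) (hc : sl2Cusp χ) (u : Fˣ) :
    ∑ v : F, χ (sl2BorelMk u v) = 0 := by
  classical
  have hq := card_ne_zero_complex (F := F)
  have hq1 := card_sub_one_ne_zero_complex (F := F)
  revert u
  apply units_fourier_inj
  intro α
  have := hc α
  rw [classInner_sl2Ind_right χ hχ] at this
  have hne : (((Fintype.card F : ℂ) - 1) * (Fintype.card F : ℂ))⁻¹ ≠ 0 :=
    inv_ne_zero (mul_ne_zero hq1 hq)
  have h1 := (mul_eq_zero.mp this).resolve_left hne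
  rw [← h1]
  apply Finset.sum_congr rfl; intro u _
  rw [Finset.sum_mul]

omit [Fintype F] [DecidableEq F] in
theorem sl2BorelMk_one (v : F) : sl2BorelMk 1 v = sl2U v := by
  apply sl2_ext <;> simp [sl2BorelMk, sl2U]

/-- The sum over `U` of a cuspidal class function vanishes. -/
theorem sl2Cusp_sum_U {χ : SL2 F → ℂ} (hχ : IsClassFunction (SL2 F) χ) (hc : sl2Cusp χ) :
    ∑ v : F, χ (sl2U v) = 0 := by
  have := sl2Cusp_sum hχ hc 1
  simpa only [sl2BorelMk_one] using this

/-- An irreducible with a non-zero inner product with a non-self-inverse induced character equals it. -/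
theorem isIrr_sl2Ind {α : MulChar F ℂ} (hα : α ^ 2 ≠ 1) : IsIrrCharacter (SL2 F) (sl2Ind α) :=
  (isIrr_indFun_sl2_iff α).mpr hα

theorem sl2_eq_of_inner_ne {χ : SL2 F → ℂ} (hχ : IsIrrCharacter (SL2 F) χ) (α : MulChar F ℂ)
    (h : classInner χ (sl2Ind α) ≠ 0) :
    (α ^ 2 ≠ 1 ∧ χ = sl2Ind α) ∨ (α = 1 ∧ χ = sl2One F) ∨ (α = 1 ∧ χ = sl2St F) ∨ (α ^ 2 = 1 ∧ α ≠ 1) := by
  classical
  by_cases hα : α ^ 2 = 1
  · by_cases h1 : α = 1
    · subst h1
      have hsplit : sl2Ind (1 : MulChar F ℂ) = sl2St F + sl2One F := by simp [sl2St]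
      rw [hsplit, classInner_add_right, classInner_irr hχ isIrr_sl2St, classInner_irr hχ isIrr_sl2One] at h
      by_cases h2 : χ = sl2St F
      · exact Or.inr (Or.inr (Or.inl ⟨rfl, h2⟩))
      · by_cases h3 : χ = sl2One F
        · exact Or.inr (Or.inl ⟨rfl, h3⟩)
        · simp [h2, h3] at h
    · exact Or.inr (Or.inr (Or.inr ⟨hα, h1⟩))
  · left
    refine ⟨hα, ?_⟩
    rw [classInner_irr hχ (isIrr_sl2Ind hα)] at h
    by_contra hne
    rw [if_neg hne] at h
    exact h rfl

/-! ## Values -/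

theorem sl2Ind_apply_one (α : MulChar F ℂ) : sl2Ind α 1 = (Fintype.card F : ℂ) + 1 := by
  classical
  unfold sl2Ind
  rw [indFun_sl2_apply, Fintype.sum_option]
  have h1 : ∀ ℓ : Option F, sl2Fix (1 : SL2 F) ℓ := by
    intro ℓ
    cases ℓ <;> simp [sl2Fix]
  simp only [h1, if_true]
  have h2 : ∀ t : F, α (sl2Val (1 : SL2 F) (some t)) = 1 := by
    intro t
    simp [sl2Val]
  simp only [h2]
  simp [sl2Val, Finset.card_univ]
  ring

theorem sl2St_apply_one : sl2St F 1 = (Fintype.card F : ℂ) := by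
  simp [sl2St, sl2Ind_apply_one, sl2One]

theorem sl2Ind_U (α : MulChar F ℂ) {v : F} (hv : v ≠ 0) : sl2Ind α (sl2U v) = 1 := by
  classical
  unfold sl2Ind
  rw [← sl2BorelMk_one, indFun_sl2_borel]
  have h1 : ∀ t : F, ¬ ((((1 : Fˣ)⁻¹ : Fˣ) : F) * t - ((1 : Fˣ) : F) * t - v = 0) := by
    intro t h
    apply hv
    simp at h
    simpa using h
  simp [h1, hv]

theorem sl2St_U {v : F} (hv : v ≠ 0) : sl2St F (sl2U v) = 0 := by
  simp [sl2St, sl2Ind_U _ hv, sl2One]

theorem sl2Ind_regular (α : MulChar F ℂ) (a : Fˣ) (ha : (a : F) ^ 2 ≠ 1) :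
    sl2Ind α (sl2BorelMk a 0) = α (a : F) + α ((a⁻¹ : Fˣ) : F) := by
  classical
  unfold sl2Ind
  rw [indFun_sl2_borel]
  congr 1
  have hne : ((a⁻¹ : Fˣ) : F) - a ≠ 0 := by
    intro h
    apply ha
    have h1 : ((a⁻¹ : Fˣ) : F) * a = 1 := by simp
    rw [sub_eq_zero.mp h] at h1
    rw [pow_two]
    exact h1
  have h1 : ∀ t : F, (((a⁻¹ : Fˣ) : F) * t - (a : F) * t - 0 = 0) ↔ (t = 0) := by
    intro t
    have : ((a⁻¹ : Fˣ) : F) * t - (a : F) * t - 0 = (((a⁻¹ : Fˣ) : F) - a) * t := by ring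
    rw [this, mul_eq_zero]
    simp only [hne, false_or]
  simp only [h1]
  simp

theorem sl2_no_eigenvector_not_fix (g : SL2 F)
    (hno : ∀ (c : F) (v : Fin 2 → F), v ≠ 0 → (g : Matrix (Fin 2) (Fin 2) F).mulVec v ≠ c • v) (ℓ : Option F) :
    ¬ sl2Fix g ℓ := by
  cases ℓ with
  | none =>
    intro h10
    simp only [sl2Fix] at h10
    apply hno ((g : Matrix (Fin 2) (Fin 2) F) 0 0) ![1, 0]
    · intro h
      have := congrFun h 0
      simp at this
    · funext i
      fin_cases i <;> simp [Matrix.mulVec, dotProduct, Fin.sum_univ_two, h10]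
  | some t =>
    intro hroot
    simp only [sl2Fix] at hroot
    apply hno ((g : Matrix (Fin 2) (Fin 2) F) 1 0 * t + (g : Matrix (Fin 2) (Fin 2) F) 1 1) ![t, 1]
    · intro h
      have := congrFun h 1
      simp at this
    · funext i
      fin_cases i
      · simp [Matrix.mulVec, dotProduct, Fin.sum_univ_two]
        linear_combination -hroot
      · simp [Matrix.mulVec, dotProduct, Fin.sum_univ_two]

theorem sl2Ind_no_eigenvector (α : MulChar F ℂ) (g : SL2 F)
    (hno : ∀ (c : F) (v : Fin 2 → F), v ≠ 0 → (g : Matrix (Fin 2) (Fin 2) F).mulVec v ≠ c • v) :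
    sl2Ind α g = 0 := by
  classical
  unfold sl2Ind
  rw [indFun_sl2_apply]
  apply Finset.sum_eq_zero
  intro ℓ _
  rw [if_neg (sl2_no_eigenvector_not_fix g hno ℓ)]

/-- Any element with zero lower-left entry is in the range of `sl2BorelMk`. -/
theorem sl2_exists_borelMk (g : SL2 F) (h10 : (g : Matrix (Fin 2) (Fin 2) F) 1 0 = 0) :
    ∃ (a : Fˣ) (v : F), g = sl2BorelMk a v ∧ (a : F) = (g : Matrix (Fin 2) (Fin 2) F) 0 0 ∧
      v = (g : Matrix (Fin 2) (Fin 2) F) 0 1 := by
  have hd := sl2_det g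
  rw [h10] at hd
  have h0 : (g : Matrix (Fin 2) (Fin 2) F) 0 0 ≠ 0 := by
    intro h; rw [h] at hd; simp at hd
  refine ⟨Units.mk0 _ h0, (g : Matrix (Fin 2) (Fin 2) F) 0 1, ?_, rfl, rfl⟩
  apply sl2_ext
  · rfl
  · rfl
  · exact h10
  · change _ = ((Units.mk0 _ h0)⁻¹ : Fˣ).val
    simp only [Units.val_inv_eq_inv_val, Units.val_mk0]
    field_simp
    linear_combination hd

theorem sl2Ind_inv (α : MulChar F ℂ) : sl2Ind α⁻¹ = sl2Ind α := by
  classical
  have h0 := classInner_self_eq_zero (sl2Ind α⁻¹ - sl2Ind α) (by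
    rw [classInner_sub_left, classInner_sub_right, classInner_sub_right,
      classInner_sl2Ind_sl2Ind, classInner_sl2Ind_sl2Ind, classInner_sl2Ind_sl2Ind, classInner_sl2Ind_sl2Ind]
    by_cases a : α⁻¹ = α
    · have a' : α = α⁻¹ := a.symm
      simp [a, inv_inv]
    · have a' : α ≠ α⁻¹ := fun h => a h.symm
      simp [a, a', inv_inv])
  exact sub_eq_zero.mp h0

theorem sl2Ind_eq_iff (α β : MulChar F ℂ) : sl2Ind α = sl2Ind β ↔ α = β ∨ α = β⁻¹ := by
  classical
  constructor
  · intro h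
    have h1 := classInner_sl2Ind_sl2Ind α β
    rw [← h, classInner_sl2Ind_sl2Ind, if_pos rfl] at h1
    by_contra hc
    push Not at hc
    rw [if_neg hc.1, if_neg hc.2] at h1
    split_ifs at h1 <;> norm_num at h1
  · rintro (rfl | rfl)
    · rfl
    · exact sl2Ind_inv _

end Cfsg.Agent.Lib.Known
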