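import Mathlib
import Cfsg.Agent.Lib.Known.SL2Irr
import Cfsg.Agent.S2331

set_option autoImplicit false

namespace Cfsg.Agent.Lib.Known

open Cfsg Cfsg.Agent.Lib.Char
open scoped ComplexConjugate

variable {F : Type*} [Field F] [Fintype F] [DecidableEq F] [CharP F 2]

omit [DecidableEq F] in
theorem units_isSquare_of_char_two (a : Fˣ) : ∃ b : Fˣ, b * b = a := by
  obtain ⟨s, hs⟩ := FiniteField.isSquare_of_char_two (ringChar.eq F 2) (a : F)
  have hs0 : s ≠ 0 := by
    intro h
    rw [h] at hs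
    exact a.ne_zero (by simpa using hs)
  exact ⟨Units.mk0 s hs0, Units.ext (by simpa using hs.symm)⟩

omit [DecidableEq F] in
theorem mulChar_sq_eq_one_of_char_two (α : MulChar F ℂ) (h : α ^ 2 = 1) : α = 1 := by
  apply MulChar.ext
  intro a
  obtain ⟨b, rfl⟩ := units_isSquare_of_char_two a
  have h1 : (α ^ 2) (b : F) = 1 := by
    rw [h]
    exact MulChar.one_apply_coe b
  rw [pow_two, MulChar.mul_apply] at h1
  simp only [Units.val_mul, map_mul]
  rw [h1]
  simp

omit [DecidableEq F] in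
theorem sl2U_isConj_one_of_char_two {v : F} (hv : v ≠ 0) : IsConj (sl2U (1 : F)) (sl2U v) := by
  obtain ⟨b, hb⟩ := units_isSquare_of_char_two (Units.mk0 v hv)
  rw [isConj_iff]
  refine ⟨sl2D b, ?_⟩
  rw [sl2D_conj_U]
  congr 1
  have : ((b * b : Fˣ) : F) = v := by rw [hb]; rfl
  rw [← this]
  push_cast
  ring

theorem sl2_irr_cases_even {χ : SL2 F → ℂ} (hχ : IsIrrCharacter (SL2 F) χ) :
    χ = sl2One F ∨ χ = sl2St F ∨ (∃ α : MulChar F ℂ, α ≠ 1 ∧ χ = sl2Ind α) ∨ sl2Cusp χ := by
  by_cases hc : sl2Cusp χ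
  · exact Or.inr (Or.inr (Or.inr hc))
  · unfold sl2Cusp at hc
    push Not at hc
    obtain ⟨α, h⟩ := hc
    rcases sl2_eq_of_inner_ne hχ α h with ⟨h1, h2⟩ | ⟨_, h2⟩ | ⟨_, h2⟩ | ⟨h1, h2⟩
    · refine Or.inr (Or.inr (Or.inl ⟨α, ?_, h2⟩))
      rintro rfl
      exact h1 (by simp)
    · exact Or.inl h2
    · exact Or.inr (Or.inl h2)
    · exact absurd (mulChar_sq_eq_one_of_char_two α h1) h2

/-- The unipotent value of a cuspidal class function. -/
theorem sl2Cusp_unip_even {χ : SL2 F → ℂ} (hχ : IsClassFunction (SL2 F) χ)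
    (hc : sl2Cusp χ) : χ 1 + ((Fintype.card F : ℂ) - 1) * χ (sl2U 1) = 0 := by
  classical
  have h := sl2Cusp_sum_U hχ hc
  rw [← Finset.add_sum_erase _ _ (Finset.mem_univ (0 : F)), sl2U_zero] at h
  have h2 : ∀ v ∈ Finset.univ.erase (0 : F), χ (sl2U v) = χ (sl2U 1) := by
    intro v hv
    have hv' : v ≠ 0 := by simpa using hv
    exact (IsClassFunction.congr_isConj hχ (sl2U_isConj_one_of_char_two hv')).symm
  rw [Finset.sum_congr rfl h2] at h
  simp only [Finset.sum_const, Finset.card_erase_of_mem (Finset.mem_univ _), Finset.card_univ, nsmul_eq_mul] at h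
  rw [Nat.cast_sub Fintype.card_pos] at h
  simpa using h

/-- A cuspidal irreducible character has degree divisible by `q - 1`. -/
theorem sl2Cusp_degree_even {χ : SL2 F → ℂ} (hχ : IsIrrCharacter (SL2 F) χ)
    (hc : sl2Cusp χ) : ∃ k : ℕ, 1 ≤ k ∧ χ 1 = (((Fintype.card F - 1) * k : ℕ) : ℂ) := by
  classical
  have hq1 := card_sub_one_ne_zero_complex (F := F)
  have hchar := IsIrrCharacter.isCharacter hχ
  have h := sl2Cusp_unip_even (IsCharacter.isClassFunction hchar) hc
  obtain ⟨n, hn⟩ := IsCharacter.apply_one hchar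
  have hne := IsIrrCharacter.apply_one_ne_zero hχ
  have hx : χ (sl2U 1) = ((-(n : ℚ) / ((Fintype.card F : ℚ) - 1) : ℚ) : ℂ) := by
    push_cast
    field_simp
    linear_combination h - hn
  obtain ⟨m, hm⟩ := int_of_isIntegral_of_rat (IsCharacter.isIntegral hchar _) ⟨_, hx⟩
  have h2 : (n : ℂ) = -((Fintype.card F : ℂ) - 1) * (m : ℂ) := by
    rw [hm, hn] at h
    linear_combination h
  have h3 : (n : ℤ) = -(((Fintype.card F : ℤ) - 1) * m) := by
    have : ((n : ℤ) : ℂ) = ((-(((Fintype.card F : ℤ) - 1) * m) : ℤ) : ℂ) := by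
      push_cast
      rw [h2]; ring
    exact_mod_cast this
  have hq2 : 2 ≤ Fintype.card F := Fintype.one_lt_card
  have hn0 : n ≠ 0 := by
    intro h0
    apply hne
    rw [hn, h0]; simp
  have hpos : (0 : ℤ) < (Fintype.card F : ℤ) - 1 := by
    have : (2 : ℤ) ≤ (Fintype.card F : ℤ) := by exact_mod_cast hq2
    linarith
  have hm' : m < 0 := by
    by_contra hh
    push Not at hh
    have : (0 : ℤ) ≤ ((Fintype.card F : ℤ) - 1) * m := mul_nonneg hpos.le hh
    have hn1 : (n : ℤ) ≤ 0 := by linarith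
    have : n = 0 := by omega
    exact hn0 this
  refine ⟨(-m).toNat, ?_, ?_⟩
  · omega
  · rw [hn]
    have h5 : n = (Fintype.card F - 1) * (-m).toNat := by
      have h6 : ((-m).toNat : ℤ) = -m := Int.toNat_of_nonneg (by omega)
      have h7 : (((Fintype.card F - 1) * (-m).toNat : ℕ) : ℤ) = ((Fintype.card F : ℤ) - 1) * (-m) := by
        push_cast
        rw [h6, Nat.cast_sub Fintype.card_pos]
        simp
      have : (n : ℤ) = (((Fintype.card F - 1) * (-m).toNat : ℕ) : ℤ) := by
        rw [h7, h3]; ring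
      exact_mod_cast this
    rw [h5]

omit [CharP F 2] in
/-- Set of principal series characters. -/
noncomputable def sl2IndSetEven (F : Type*) [Field F] [Fintype F] [DecidableEq F] : Finset (IrrCharacter (SL2 F)) :=
  Finset.univ.filter (fun χ => ∃ α : MulChar F ℂ, α ^ 2 ≠ 1 ∧ (χ : SL2 F → ℂ) = sl2Ind α)

open scoped _root_.Classical in
/-- Set of cuspidal characters. -/
noncomputable def sl2CuspSet (F : Type*) [Field F] [Fintype F] [DecidableEq F] : Finset (IrrCharacter (SL2 F)) :=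
  Finset.univ.filter (fun χ => sl2Cusp (χ : SL2 F → ℂ))

theorem card_sl2IndSetEven : 2 * (sl2IndSetEven F).card = Fintype.card F - 2 := by
  classical
  have himg : sl2IndSetEven F = (Finset.univ : Finset {α : MulChar F ℂ // α ≠ 1}).image
      (fun p => (⟨sl2Ind p.1, isIrr_sl2Ind (fun h => p.2 (mulChar_sq_eq_one_of_char_two _ h))⟩ : IrrCharacter (SL2 F))) := by
    ext χ
    simp only [sl2IndSetEven, Finset.mem_filter, Finset.mem_univ, true_and, Finset.mem_image]
    constructor
    · rintro ⟨α, hα, h⟩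
      refine ⟨⟨α, ?_⟩, Subtype.ext h.symm⟩
      rintro rfl
      exact hα (by simp)
    · rintro ⟨⟨α, hα⟩, rfl⟩
      exact ⟨α, fun h => hα (mulChar_sq_eq_one_of_char_two _ h), rfl⟩
  have h1 := card_eq_two_mul_card_image (Finset.univ : Finset {α : MulChar F ℂ // α ≠ 1})
    (fun p => (⟨sl2Ind p.1, isIrr_sl2Ind (fun h => p.2 (mulChar_sq_eq_one_of_char_two _ h))⟩ : IrrCharacter (SL2 F))) (by
      intro y hy
      obtain ⟨⟨α, hα⟩, _, rfl⟩ := Finset.mem_image.mp hy
      rw [Finset.card_eq_two]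
      have hα' : α⁻¹ ≠ 1 := by simpa using hα
      refine ⟨⟨α, hα⟩, ⟨α⁻¹, hα'⟩, ?_, ?_⟩
      · intro h
        have h' : α = α⁻¹ := congrArg Subtype.val h
        apply hα
        apply mulChar_sq_eq_one_of_char_two
        rw [pow_two]
        nth_rewrite 1 [h']
        exact inv_mul_cancel α
      · ext ⟨β, hβ⟩
        simp only [Finset.mem_filter, Finset.mem_univ, true_and, Finset.mem_insert, Finset.mem_singleton,
          Subtype.mk.injEq]
        constructor
        · intro h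
          exact (sl2Ind_eq_iff β α).mp h
        · rintro (rfl | rfl)
          · rfl
          · exact sl2Ind_inv _)
  rw [himg, ← h1, Finset.card_univ, Fintype.card_subtype_compl]
  simp [card_mulChar]
  omega

theorem sl2_even_card_and_sum :
    2 + (sl2IndSetEven F).card + (sl2CuspSet F).card = Fintype.card F + 1 ∧
    1 + Fintype.card F ^ 2 + (sl2IndSetEven F).card * (Fintype.card F + 1) ^ 2 +
      ∑ χ ∈ sl2CuspSet F, irrDeg χ ^ 2 = Fintype.card F * (Fintype.card F ^ 2 - 1) := by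
  classical
  have hq2 : 2 ≤ Fintype.card F := Fintype.one_lt_card
  let o : IrrCharacter (SL2 F) := ⟨sl2One F, isIrr_sl2One⟩
  let s : IrrCharacter (SL2 F) := ⟨sl2St F, isIrr_sl2St⟩
  have hos : o ≠ s := by
    intro h
    have h1 : sl2One F 1 = sl2St F 1 := congrFun (congrArg Subtype.val h) 1
    rw [sl2St_apply_one] at h1
    simp only [sl2One] at h1
    have h2 : Fintype.card F = 1 := by exact_mod_cast h1.symm
    omega
  have hdo : irrDeg o = 1 := by
    rw [irrDeg_eq_iff]; simp [o, sl2One]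
  have hds : irrDeg s = Fintype.card F := by
    rw [irrDeg_eq_iff]; exact sl2St_apply_one
  have hdI : ∀ χ ∈ sl2IndSetEven F, irrDeg χ = Fintype.card F + 1 := by
    intro χ hχ
    simp only [sl2IndSetEven, Finset.mem_filter, Finset.mem_univ, true_and] at hχ
    obtain ⟨α, _, h⟩ := hχ
    rw [irrDeg_eq_iff, h]
    push_cast
    exact sl2Ind_apply_one α
  have hunion : (Finset.univ : Finset (IrrCharacter (SL2 F))) = {o, s} ∪ sl2IndSetEven F ∪ sl2CuspSet F := by
    ext χ
    simp only [Finset.mem_univ, true_iff, Finset.mem_union, Finset.mem_insert, Finset.mem_singleton]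
    rcases sl2_irr_cases_even χ.2 with h | h | ⟨α, hα, h⟩ | h
    · left; left; left; exact Subtype.ext h
    · left; left; right; exact Subtype.ext h
    · left; right
      simp only [sl2IndSetEven, Finset.mem_filter, Finset.mem_univ, true_and]
      exact ⟨α, fun h' => hα (mulChar_sq_eq_one_of_char_two _ h'), h⟩
    · right
      simp [sl2CuspSet, h]
  have d2 : Disjoint ({o, s} : Finset (IrrCharacter (SL2 F))) (sl2IndSetEven F) := by
    rw [Finset.disjoint_left]
    intro χ h1 h2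
    have h3 := hdI χ h2
    simp only [Finset.mem_insert, Finset.mem_singleton] at h1
    rcases h1 with rfl | rfl
    · omega
    · omega
  have hnc1 : ¬ sl2Cusp (sl2One F) := by
    intro hc
    have := hc 1
    rw [classInner_sl2One_sl2Ind] at this
    simp at this
  have hnc2 : ¬ sl2Cusp (sl2St F) := by
    intro hc
    have := hc 1
    rw [classInner_sl2St_sl2Ind] at this
    simp at this
  have hnc3 : ∀ α : MulChar F ℂ, α ^ 2 ≠ 1 → ¬ sl2Cusp (sl2Ind α) := by
    intro α hα hc
    have := hc α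
    rw [classInner_irr_self (isIrr_sl2Ind hα)] at this
    exact one_ne_zero this
  have d3 : Disjoint ({o, s} ∪ sl2IndSetEven F) (sl2CuspSet F) := by
    rw [Finset.disjoint_left]
    intro χ h1 h2
    have h3 : sl2Cusp (χ : SL2 F → ℂ) := by simpa [sl2CuspSet] using h2
    rcases Finset.mem_union.mp h1 with h | h
    · simp only [Finset.mem_insert, Finset.mem_singleton] at h
      rcases h with rfl | rfl
      · exact hnc1 h3
      · exact hnc2 h3
    · simp only [sl2IndSetEven, Finset.mem_filter, Finset.mem_univ, true_and] at h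
      obtain ⟨α, hα, h⟩ := h
      rw [h] at h3
      exact hnc3 α hα h3
  have hcard2 : ({o, s} : Finset (IrrCharacter (SL2 F))).card = 2 := Finset.card_pair hos
  constructor
  · have h := card_irr_eq_card_conjClasses (G := SL2 F)
    rw [Cfsg.Agent.S2331.result, Nat.card_eq_fintype_card, ← Finset.card_univ, hunion,
      Finset.card_union_of_disjoint d3, Finset.card_union_of_disjoint d2, hcard2] at h
    exact h
  · have h := sum_irrDeg_sq (G := SL2 F)
    rw [hunion, Finset.sum_union d3, Finset.sum_union d2, Finset.sum_pair hos, hdo, hds, card_sl2] at h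
    rw [← h]
    congr 2
    rw [Finset.sum_congr rfl (fun χ hχ => by rw [hdI χ hχ])]
    simp

theorem sl2CuspSet_card_and_deg_even :
    2 * (sl2CuspSet F).card = Fintype.card F ∧
    ∀ χ ∈ sl2CuspSet F, irrDeg χ = Fintype.card F - 1 := by
  classical
  obtain ⟨h1, h2⟩ := sl2_even_card_and_sum (F := F)
  have h5 := card_sl2IndSetEven (F := F)
  have hq2 : 2 ≤ Fintype.card F := Fintype.one_lt_card
  obtain ⟨m, hm⟩ : ∃ m, Fintype.card F = m + 2 := ⟨Fintype.card F - 2, by omega⟩
  rw [hm] at h1 h2 h5 ⊢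
  simp only [Nat.add_sub_cancel] at h5 ⊢
  have e1 : m + 2 - 1 = m + 1 := rfl
  rw [e1]
  have e2 : (m + 2) ^ 2 - 1 = m ^ 2 + 4 * m + 3 := by
    rw [Nat.sub_eq_iff_eq_add (by nlinarith)]; ring
  rw [e2] at h2
  set R := (sl2IndSetEven F).card
  set C := (sl2CuspSet F).card
  have hC : 2 * C = m + 2 := by omega
  have hD : ∑ χ ∈ sl2CuspSet F, irrDeg χ ^ 2 = C * (m + 1) ^ 2 := by
    have : 2 * (∑ χ ∈ sl2CuspSet F, irrDeg χ ^ 2) = 2 * (C * (m + 1) ^ 2) := by
      have h6 : 2 * (C * (m + 1) ^ 2) = (2 * C) * (m + 1) ^ 2 := by ring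
      rw [h6, hC]
      have h7 : 2 * (R * (m + 2 + 1) ^ 2) = (2 * R) * (m + 2 + 1) ^ 2 := by ring
      nlinarith
    omega
  refine ⟨hC, ?_⟩
  have hle : ∀ χ ∈ sl2CuspSet F, (m + 1) ^ 2 ≤ irrDeg χ ^ 2 := by
    intro χ hχ
    have hc : sl2Cusp (χ : SL2 F → ℂ) := by simpa [sl2CuspSet] using hχ
    obtain ⟨k, hk, hdeg⟩ := sl2Cusp_degree_even χ.2 hc
    have : irrDeg χ = (Fintype.card F - 1) * k := (irrDeg_eq_iff χ _).mpr hdeg
    rw [this, hm, e1]
    apply Nat.pow_le_pow_left
    nlinarith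
  have heq := (Finset.sum_eq_sum_iff_of_le hle).mp (by
    rw [hD]; simp [C])
  intro χ hχ
  have := heq χ hχ
  exact (Nat.pow_left_injective (n := 2) (by norm_num) this).symm

theorem sl2Cusp_apply_one_even {χ : SL2 F → ℂ} (hχ : IsIrrCharacter (SL2 F) χ) (hc : sl2Cusp χ) :
    χ 1 = (Fintype.card F : ℂ) - 1 := by
  classical
  have hmem : (⟨χ, hχ⟩ : IrrCharacter (SL2 F)) ∈ sl2CuspSet F := by simpa [sl2CuspSet] using hc
  have h := (sl2CuspSet_card_and_deg_even (F := F)).2 _ hmem
  have h2 := (irrDeg_eq_iff _ _).mp h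
  change χ 1 = _ at h2
  rw [h2, Nat.cast_sub Fintype.card_pos]
  simp

theorem sl2_irr_cases_even' {χ : SL2 F → ℂ} (hχ : IsIrrCharacter (SL2 F) χ) :
    χ = sl2One F ∨ χ = sl2St F ∨ (∃ α : MulChar F ℂ, α ≠ 1 ∧ χ = sl2Ind α) ∨
      (sl2Cusp χ ∧ χ 1 = (Fintype.card F : ℂ) - 1) := by
  rcases sl2_irr_cases_even hχ with h | h | h | h
  · exact Or.inl h
  · exact Or.inr (Or.inl h)
  · exact Or.inr (Or.inr (Or.inl h))
  · exact Or.inr (Or.inr (Or.inr ⟨h, sl2Cusp_apply_one_even hχ h⟩))

omit [CharP F 2] in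
theorem sl2One_apply_one : sl2One F 1 = 1 := rfl

end Cfsg.Agent.Lib.Known
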