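import Mathlib
import Cfsg.Agent.Lib.Known.SL2Irr
import Cfsg.Agent.Lib.Known.SL2ClassesOdd

set_option autoImplicit false

namespace Cfsg.Agent.Lib.Known

open Cfsg Cfsg.Agent.Lib.Char
open scoped ComplexConjugate

variable {F : Type*} [Field F] [Fintype F] [DecidableEq F]

theorem exists_addChar_ne_one : ∃ φ : AddChar F ℂ, φ ≠ 1 := by
  obtain ⟨φ, hφ⟩ := (AddChar.exists_apply_ne_zero (a := (1 : F))).mpr one_ne_zero
  refine ⟨φ, ?_⟩
  rintro rfl
  exact hφ (by simp)

omit [DecidableEq F] in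
theorem addChar_conj (φ : AddChar F ℂ) (x : F) : conj (φ x) = φ (-x) := by
  rw [AddChar.map_neg_eq_conj]

theorem sum_addChar_mul (φ : AddChar F ℂ) (hφ : φ ≠ 1) (b : F) :
    ∑ x : F, φ (x * b) = if b = 0 then (Fintype.card F : ℂ) else 0 := by
  have := AddChar.sum_mulShift (R := F) b (AddChar.IsPrimitive.of_ne_one hφ)
  rw [this]
  split_ifs <;> simp

/-- The multiplicity of the linear character `v ↦ φ(sv)` in the restriction of `χ` to `U`. -/
noncomputable def sl2Mult (φ : AddChar F ℂ) (χ : SL2 F → ℂ) (s : F) : ℂ :=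
  (Fintype.card F : ℂ)⁻¹ * ∑ v : F, χ (sl2U v) * conj (φ (s * v))

omit [Fintype F] [DecidableEq F] in
/-- The homomorphism from the additive group of `F` to `SL₂`. -/
def sl2UHom (F : Type*) [Field F] : Multiplicative F →* SL2 F where
  toFun x := sl2U (Multiplicative.toAdd x)
  map_one' := sl2U_zero
  map_mul' x y := (sl2U_add _ _).symm

theorem sl2Mult_nat (φ : AddChar F ℂ) {χ : SL2 F → ℂ} (hχ : IsCharacter (SL2 F) χ) (s : F) :
    ∃ n : ℕ, sl2Mult φ χ s = n := by
  classical
  let lam : Multiplicative F →* ℂˣ := (AddChar.toMonoidHom (AddChar.mulShift φ s)).toHomUnits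
  have h1 := IsIrrCharacter.isCharacter (isIrrCharacter_of_monoidHom lam)
  have h2 := IsCharacter.comp hχ (sl2UHom F)
  obtain ⟨n, hn⟩ := IsCharacter.classInner_nat h2 h1
  refine ⟨n, ?_⟩
  rw [← hn]
  simp only [sl2Mult, classInner]
  congr 1
  · have : Nat.card (Multiplicative F) = Fintype.card F := by
      rw [Nat.card_congr Multiplicative.toAdd, Nat.card_eq_fintype_card]
    rw [this]
  · refine Fintype.sum_equiv Multiplicative.ofAdd _ _ fun v => ?_
    rfl

/-- Fourier inversion on `U`. -/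
theorem sum_sl2Mult_mul (φ : AddChar F ℂ) (hφ : φ ≠ 1) (χ : SL2 F → ℂ) (w : F) :
    ∑ s : F, sl2Mult φ χ s * φ (s * w) = χ (sl2U w) := by
  classical
  have hq := card_ne_zero_complex (F := F)
  simp only [sl2Mult]
  have h1 : ∀ s : F, (Fintype.card F : ℂ)⁻¹ * (∑ v : F, χ (sl2U v) * conj (φ (s * v))) * φ (s * w) =
      (Fintype.card F : ℂ)⁻¹ * ∑ v : F, χ (sl2U v) * φ (s * (w - v)) := by
    intro s
    rw [mul_assoc, Finset.sum_mul]
    congr 1
    apply Finset.sum_congr rfl
    intro v _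
    rw [mul_assoc, addChar_conj, ← AddChar.map_add_eq_mul]
    congr 2
    ring
  simp only [h1]
  rw [← Finset.mul_sum, Finset.sum_comm]
  have h2 : ∀ v : F, ∑ s : F, χ (sl2U v) * φ (s * (w - v)) =
      if v = w then χ (sl2U w) * (Fintype.card F : ℂ) else 0 := by
    intro v
    rw [← Finset.mul_sum, sum_addChar_mul φ hφ]
    by_cases h : v = w
    · subst h; simp
    · have : w - v ≠ 0 := sub_ne_zero.mpr (Ne.symm h)
      simp [h, this]
  simp only [h2]
  rw [Finset.sum_ite_eq', if_pos (Finset.mem_univ _)]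
  field_simp

theorem sum_sl2Mult (φ : AddChar F ℂ) (hφ : φ ≠ 1) (χ : SL2 F → ℂ) :
    ∑ s : F, sl2Mult φ χ s = χ 1 := by
  have := sum_sl2Mult_mul φ hφ χ 0
  simpa using this

theorem sl2Mult_add (φ : AddChar F ℂ) (χ χ' : SL2 F → ℂ) (s : F) :
    sl2Mult φ (χ + χ') s = sl2Mult φ χ s + sl2Mult φ χ' s := by
  simp only [sl2Mult, Pi.add_apply, add_mul, Finset.sum_add_distrib, mul_add]

theorem sl2Mult_sub (φ : AddChar F ℂ) (χ χ' : SL2 F → ℂ) (s : F) :
    sl2Mult φ (χ - χ') s = sl2Mult φ χ s - sl2Mult φ χ' s := by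
  simp only [sl2Mult, Pi.sub_apply, sub_mul, Finset.sum_sub_distrib, mul_sub]

theorem sl2Mult_mul_sq (φ : AddChar F ℂ) {χ : SL2 F → ℂ} (hχ : IsClassFunction (SL2 F) χ) (a : Fˣ) (s : F) :
    sl2Mult φ χ ((a : F) * a * s) = sl2Mult φ χ s := by
  classical
  simp only [sl2Mult]
  congr 1
  refine Fintype.sum_equiv (Equiv.mulLeft₀ ((a : F) * a) (mul_ne_zero a.ne_zero a.ne_zero)) _ _ fun v => ?_
  simp only [Equiv.mulLeft₀_apply]
  have h1 : IsConj (sl2U v) (sl2U ((a : F) * a * v)) := by
    rw [isConj_iff]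
    refine ⟨sl2D a, ?_⟩
    rw [sl2D_conj_U]
    congr 1
    ring
  rw [← IsClassFunction.congr_isConj hχ h1]
  congr 3
  ring

/-- The value of `sl2Mult` for a function with constant value on `U ∖ 1`. -/
theorem sl2Mult_const (φ : AddChar F ℂ) (hφ : φ ≠ 1) (χ : SL2 F → ℂ) (x : ℂ)
    (h : ∀ v : F, v ≠ 0 → χ (sl2U v) = x) {s : F} (hs : s ≠ 0) :
    sl2Mult φ χ s = (Fintype.card F : ℂ)⁻¹ * (χ 1 - x) := by
  classical
  simp only [sl2Mult]
  congr 1
  have h1 : ∀ v : F, χ (sl2U v) * conj (φ (s * v)) =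
      (χ 1 - x) * (if v = 0 then 1 else 0) + x * φ (v * (-s)) := by
    intro v
    by_cases hv : v = 0
    · subst hv; simp
    · rw [h v hv, if_neg hv, addChar_conj]
      have : -(s * v) = v * (-s) := by ring
      rw [this]
      ring
  simp only [h1]
  rw [Finset.sum_add_distrib, ← Finset.mul_sum, ← Finset.mul_sum, sum_addChar_mul φ hφ]
  simp [hs]

/-- The value of `sl2Mult` at `s = 0` for a function with constant value on `U ∖ 1`. -/
theorem sl2Mult_const_zero (φ : AddChar F ℂ) (χ : SL2 F → ℂ) (x : ℂ)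
    (h : ∀ v : F, v ≠ 0 → χ (sl2U v) = x) :
    sl2Mult φ χ 0 = (Fintype.card F : ℂ)⁻¹ * (χ 1 + ((Fintype.card F : ℂ) - 1) * x) := by
  classical
  simp only [sl2Mult]
  congr 1
  simp only [zero_mul, AddChar.map_zero_eq_one, map_one, mul_one]
  rw [← Finset.add_sum_erase _ _ (Finset.mem_univ (0 : F)), sl2U_zero]
  have h2 : ∀ v ∈ Finset.univ.erase (0 : F), χ (sl2U v) = x := by
    intro v hv
    exact h v (by simpa using hv)
  rw [Finset.sum_congr rfl h2]
  simp only [Finset.sum_const, Finset.card_erase_of_mem (Finset.mem_univ _), Finset.card_univ, nsmul_eq_mul]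
  rw [Nat.cast_sub Fintype.card_pos]
  simp

theorem sl2One_U (v : F) : sl2One F (sl2U v) = 1 := rfl

theorem sl2Mult_sl2One (φ : AddChar F ℂ) (hφ : φ ≠ 1) {s : F} (hs : s ≠ 0) : sl2Mult φ (sl2One F) s = 0 := by
  rw [sl2Mult_const φ hφ _ 1 (fun v _ => sl2One_U v) hs]
  simp [sl2One]

theorem sl2Mult_sl2One_zero (φ : AddChar F ℂ) : sl2Mult φ (sl2One F) 0 = 1 := by
  have hq := card_ne_zero_complex (F := F)
  rw [sl2Mult_const_zero φ _ 1 (fun v _ => sl2One_U v)]
  simp [sl2One]

theorem sl2Mult_sl2Ind (φ : AddChar F ℂ) (hφ : φ ≠ 1) (α : MulChar F ℂ) {s : F} (hs : s ≠ 0) :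
    sl2Mult φ (sl2Ind α) s = 1 := by
  have hq := card_ne_zero_complex (F := F)
  rw [sl2Mult_const φ hφ _ 1 (fun v hv => sl2Ind_U α hv) hs, sl2Ind_apply_one]
  field_simp
  ring

theorem sl2Mult_sl2Ind_zero (φ : AddChar F ℂ) (α : MulChar F ℂ) :
    sl2Mult φ (sl2Ind α) 0 = 2 := by
  have hq := card_ne_zero_complex (F := F)
  rw [sl2Mult_const_zero φ _ 1 (fun v hv => sl2Ind_U α hv), sl2Ind_apply_one]
  field_simp
  ring

theorem sl2Mult_sl2St (φ : AddChar F ℂ) (hφ : φ ≠ 1) {s : F} (hs : s ≠ 0) :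
    sl2Mult φ (sl2St F) s = 1 := by
  unfold sl2St
  rw [sl2Mult_sub, sl2Mult_sl2Ind φ hφ _ hs, sl2Mult_sl2One φ hφ hs]
  simp

theorem sl2Mult_sl2St_zero (φ : AddChar F ℂ) : sl2Mult φ (sl2St F) 0 = 1 := by
  unfold sl2St
  rw [sl2Mult_sub, sl2Mult_sl2Ind_zero, sl2Mult_sl2One_zero]
  norm_num

/-- A cuspidal class function has no trivial constituent on `U`. -/
theorem sl2Mult_cusp_zero (φ : AddChar F ℂ) {χ : SL2 F → ℂ} (hχ : IsClassFunction (SL2 F) χ) (hc : sl2Cusp χ) :
    sl2Mult φ χ 0 = 0 := by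
  simp only [sl2Mult, zero_mul, AddChar.map_zero_eq_one, map_one, mul_one]
  rw [sl2Cusp_sum_U hχ hc, mul_zero]

/-- Split a sum over a finite field into the zero term and the sum over units. -/
theorem sum_field_split (f : F → ℂ) : ∑ v : F, f v = f 0 + ∑ u : Fˣ, f (u : F) := by
  classical
  rw [← Finset.add_sum_erase _ _ (Finset.mem_univ (0 : F))]
  congr 1
  symm
  refine Finset.sum_bij (fun u _ => (u : F)) ?_ ?_ ?_ ?_
  · intro u _; simp
  · intro a _ b _ h; exact Units.ext h
  · intro b hb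
    have hb' : b ≠ 0 := by simpa using hb
    exact ⟨Units.mk0 b hb', Finset.mem_univ _, rfl⟩
  · intro _ _; rfl

theorem two_ne_zero_of_odd_card (hodd : Odd (Fintype.card F)) : (2 : F) ≠ 0 :=
  two_ne_zero_of_odd hodd

theorem card_units_sq_eq_one (h2 : (2 : F) ≠ 0) : ((Finset.univ.filter (fun a : Fˣ => (a : F) * a = 1)).card) = 2 := by
  classical
  have hne : (1 : Fˣ) ≠ -1 := by
    intro h
    have h' : (1 : F) = -1 := by simpa using congrArg Units.val h
    apply h2
    linear_combination h'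
  have : Finset.univ.filter (fun a : Fˣ => (a : F) * a = 1) = {1, -1} := by
    ext a
    simp only [Finset.mem_filter, Finset.mem_univ, true_and, Finset.mem_insert, Finset.mem_singleton]
    constructor
    · intro h
      have h1 : ((a : F) - 1) * ((a : F) + 1) = 0 := by linear_combination h
      rcases mul_eq_zero.mp h1 with h2 | h2
      · left; apply Units.ext; simpa using sub_eq_zero.mp h2
      · right; apply Units.ext
        simp only [Units.val_neg, Units.val_one]
        linear_combination h2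
    · rintro (rfl | rfl) <;> simp
  rw [this, Finset.card_pair hne]

theorem sum_units_ite_sq (h2 : (2 : F) ≠ 0) (v w : Fˣ) :
    ∑ a : Fˣ, (if (a : F) * a * v = w then (1 : ℂ) else 0) = if IsSquare ((v : F) * w) then 2 else 0 := by
  classical
  split_ifs with hs
  · obtain ⟨c, hc⟩ := hs
    have hc0 : c ≠ 0 := by
      intro h
      rw [h] at hc
      simp at hc
    let b : Fˣ := Units.mk0 c hc0 * v⁻¹
    have hb : ((b : F) * b) * v = w := by
      simp only [b, Units.val_mul, Units.val_mk0, Units.val_inv_eq_inv_val]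
      have hv : (v : F) ≠ 0 := v.ne_zero
      field_simp
      linear_combination -hc
    have hne : b ≠ -b := by
      intro h
      have h' : (b : F) = -b := by simpa using congrArg Units.val h
      apply h2
      have : (2 : F) * b = 0 := by linear_combination h'
      exact (mul_eq_zero.mp this).resolve_right b.ne_zero
    have hiff : ∀ a : Fˣ, (a : F) * a * v = w ↔ a ∈ ({b, -b} : Finset Fˣ) := by
      intro a
      simp only [Finset.mem_insert, Finset.mem_singleton]
      have hv : (v : F) ≠ 0 := v.ne_zero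
      constructor
      · intro h
        have h1 : ((a : F) - b) * ((a : F) + b) = 0 := by
          have : ((a : F) * a - b * b) * v = 0 := by linear_combination h - hb
          have := (mul_eq_zero.mp this).resolve_right hv
          linear_combination this
        rcases mul_eq_zero.mp h1 with h3 | h3
        · left; exact Units.ext (sub_eq_zero.mp h3)
        · right; apply Units.ext
          simp only [Units.val_neg]
          linear_combination h3
      · rintro (rfl | rfl)
        · exact hb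
        · simp only [Units.val_neg]
          rw [← hb]; ring
    simp only [hiff]
    rw [Finset.sum_ite_mem, Finset.univ_inter, Finset.sum_pair hne]
    norm_num
  · apply Finset.sum_eq_zero
    intro a _
    rw [if_neg]
    intro h
    apply hs
    refine ⟨(a : F) * v, ?_⟩
    rw [← h]; ring

/-- The Gelfand–Graev sum. -/
theorem sum_irr_sl2Mult_sq (hodd : Odd (Fintype.card F)) (φ : AddChar F ℂ) (hφ : φ ≠ 1) :
    ∑ χ : IrrCharacter (SL2 F), sl2Mult φ (χ : SL2 F → ℂ) 1 * conj (sl2Mult φ (χ : SL2 F → ℂ) 1) =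
      (Fintype.card F : ℂ) + 1 := by
  classical
  have h2 := two_ne_zero_of_odd_card hodd
  have hq := card_ne_zero_complex (F := F)
  let K : F → F → ℂ := fun v w => ∑ χ : IrrCharacter (SL2 F), (χ : SL2 F → ℂ) (sl2U v) * conj ((χ : SL2 F → ℂ) (sl2U w))
  have hstep1 : ∑ χ : IrrCharacter (SL2 F), sl2Mult φ (χ : SL2 F → ℂ) 1 * conj (sl2Mult φ (χ : SL2 F → ℂ) 1) =
      ((Fintype.card F : ℂ)⁻¹ * (Fintype.card F : ℂ)⁻¹) * ∑ v : F, ∑ w : F, conj (φ v) * φ w * K v w := by
    have hχ : ∀ χ : IrrCharacter (SL2 F), sl2Mult φ (χ : SL2 F → ℂ) 1 * conj (sl2Mult φ (χ : SL2 F → ℂ) 1) =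
        ((Fintype.card F : ℂ)⁻¹ * (Fintype.card F : ℂ)⁻¹) * ∑ v : F, ∑ w : F,
          conj (φ v) * φ w * ((χ : SL2 F → ℂ) (sl2U v) * conj ((χ : SL2 F → ℂ) (sl2U w))) := by
      intro χ
      simp only [sl2Mult, one_mul, map_mul, map_sum, map_inv₀, map_natCast, Complex.conj_conj]
      rw [mul_mul_mul_comm, Finset.sum_mul_sum]
      congr 1
      apply Finset.sum_congr rfl; intro v _
      apply Finset.sum_congr rfl; intro w _
      ring
    simp only [hχ]
    rw [← Finset.mul_sum]
    congr 1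
    rw [Finset.sum_comm]
    apply Finset.sum_congr rfl; intro v _
    rw [Finset.sum_comm]
    apply Finset.sum_congr rfl; intro w _
    simp only [K]
    rw [Finset.mul_sum]
  rw [hstep1]
  have hK00 : K 0 0 = (Fintype.card F : ℂ) * ((Fintype.card F : ℂ) ^ 2 - 1) := by
    simp only [K, sl2U_zero]
    rw [sum_irr_mul_conj_of_isConj (IsConj.refl (1 : SL2 F))]
    have h0 : Subgroup.centralizer ({1} : Set (SL2 F)) = ⊤ := by
      ext x; simp [Subgroup.mem_centralizer_iff]
    rw [h0, Subgroup.card_top, card_sl2]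
    have hq1 : 1 ≤ Fintype.card F ^ 2 := Nat.one_le_pow _ _ Fintype.card_pos
    push_cast [Nat.cast_sub hq1]
    ring
  have hK0 : ∀ w : F, w ≠ 0 → K 0 w = 0 := by
    intro w hw
    simp only [K, sl2U_zero]
    apply sum_irr_mul_conj_of_not_isConj
    rw [isConj_one_right]
    exact sl2U_ne_one hw
  have hK0' : ∀ v : F, v ≠ 0 → K v 0 = 0 := by
    intro v hv
    simp only [K, sl2U_zero]
    apply sum_irr_mul_conj_of_not_isConj
    rw [isConj_one_left]
    exact sl2U_ne_one hv
  have hcent : ∀ v : F, v ≠ 0 → (Nat.card (Subgroup.centralizer ({sl2U v} : Set (SL2 F))) : ℂ) = 2 * (Fintype.card F : ℂ) := by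
    intro v hv
    rw [card_centralizer_sl2U hv, card_sqrt_one_of_two_ne_zero h2, Nat.card_eq_fintype_card]
    push_cast
    ring
  have hKuu : ∀ v w : Fˣ, K v w = (Fintype.card F : ℂ) * ∑ a : Fˣ, (if (a : F) * a * v = w then (1 : ℂ) else 0) := by
    intro v w
    rw [sum_units_ite_sq h2]
    by_cases hs : IsSquare ((v : F) * w)
    · rw [if_pos hs]
      have hc := (isConj_sl2U_iff v.ne_zero w.ne_zero).mpr hs
      simp only [K]
      rw [sum_irr_mul_conj_of_isConj hc, hcent v v.ne_zero]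
      ring
    · rw [if_neg hs]
      have hc : ¬ IsConj (sl2U (v : F)) (sl2U (w : F)) := fun h => hs ((isConj_sl2U_iff v.ne_zero w.ne_zero).mp h)
      simp only [K]
      rw [sum_irr_mul_conj_of_not_isConj hc]
      simp
  have hsum : ∑ v : F, ∑ w : F, conj (φ v) * φ w * K v w =
      (Fintype.card F : ℂ) * ((Fintype.card F : ℂ) ^ 2 - 1) + (Fintype.card F : ℂ) * ((Fintype.card F : ℂ) + 1) := by
    rw [sum_field_split]
    simp only [sum_field_split (fun w => conj (φ _) * φ w * K _ w)]
    rw [hK00]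
    simp only [AddChar.map_zero_eq_one, map_one, one_mul]
    have h3 : ∀ w : Fˣ, K 0 (w : F) = 0 := fun w => hK0 _ w.ne_zero
    have h4 : ∀ v : Fˣ, K (v : F) 0 = 0 := fun v => hK0' _ v.ne_zero
    simp only [h3, h4, mul_zero, Finset.sum_const_zero, add_zero, zero_add]
    congr 1
    -- the main double sum
    have h5 : ∀ v w : Fˣ, conj (φ (v : F)) * φ (w : F) * K (v : F) (w : F) =
        (Fintype.card F : ℂ) * ∑ a : Fˣ, (if (a : F) * a * v = w then conj (φ (v : F)) * φ (w : F) else 0) := by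
      intro v w
      rw [hKuu, Finset.mul_sum, Finset.mul_sum, Finset.mul_sum]
      apply Finset.sum_congr rfl; intro a _
      split_ifs <;> ring
    simp only [h5]
    simp only [← Finset.mul_sum]
    have h6 : ∀ v : Fˣ, ∑ w : Fˣ, ∑ a : Fˣ, (if (a : F) * a * v = w then conj (φ (v : F)) * φ (w : F) else 0) =
        ∑ a : Fˣ, conj (φ (v : F)) * φ ((a : F) * a * v) := by
      intro v
      rw [Finset.sum_comm]
      apply Finset.sum_congr rfl; intro a _
      have h7 : ∀ w : Fˣ, (if (a : F) * a * v = w then conj (φ (v : F)) * φ (w : F) else 0) =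
          (if (a * a * v : Fˣ) = w then conj (φ (v : F)) * φ (((a * a * v : Fˣ)) : F) else 0) := by
        intro w
        by_cases h : (a : F) * a * v = w
        · have h' : (a * a * v : Fˣ) = w := Units.ext (by simpa using h)
          rw [if_pos h, if_pos h', h']
        · have h' : (a * a * v : Fˣ) ≠ w := fun hh => h (by rw [← hh]; simp)
          rw [if_neg h, if_neg h']
      simp only [h7]
      rw [Finset.sum_ite_eq, if_pos (Finset.mem_univ _)]
      simp
    simp only [h6]
    rw [Finset.sum_comm]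
    have h8 : ∀ a : Fˣ, ∑ v : Fˣ, conj (φ (v : F)) * φ ((a : F) * a * v) =
        (if (a : F) * a = 1 then (Fintype.card F : ℂ) else 0) - 1 := by
      intro a
      have h9 : ∀ v : Fˣ, conj (φ (v : F)) * φ ((a : F) * a * v) = φ ((v : F) * ((a : F) * a - 1)) := by
        intro v
        rw [addChar_conj, ← AddChar.map_add_eq_mul]
        congr 1
        ring
      simp only [h9]
      have h10 := sum_field_split (fun v => φ (v * ((a : F) * a - 1)))
      rw [sum_addChar_mul φ hφ] at h10
      simp only [zero_mul, AddChar.map_zero_eq_one] at h10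
      have h11 : ∑ u : Fˣ, φ ((u : F) * ((a : F) * a - 1)) = (if (a : F) * a - 1 = 0 then (Fintype.card F : ℂ) else 0) - 1 := by
        rw [h10]; ring
      rw [h11]
      simp only [sub_eq_zero]
    simp only [h8]
    rw [Finset.sum_sub_distrib, Finset.sum_ite, Finset.sum_const, Finset.sum_const_zero, add_zero,
      card_units_sq_eq_one h2]
    simp only [Finset.sum_const, Finset.card_univ, Fintype.card_units, nsmul_eq_mul, mul_one]
    rw [Nat.cast_sub Fintype.card_pos]
    push_cast
    congr 1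
    ring
  rw [hsum]
  field_simp
  ring

end Cfsg.Agent.Lib.Known
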