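import Mathlib
import Cfsg.Agent.Lib.Known.SL2Add
import Cfsg.Agent.Lib.Char.Kernel
import Cfsg.Agent.Lib.Char.BrauerPerm

set_option autoImplicit false

namespace Cfsg.Agent.Lib.Known

open Cfsg Cfsg.Agent.Lib.Char
open scoped ComplexConjugate

/-- A character of norm two is a sum of two different irreducible characters. -/
theorem exists_two_of_norm_two {G : Type*} [Group G] [Fintype G] {R : G → ℂ} (hR : IsCharacter G R)
    (h : classInner R R = 2) :
    ∃ ξ₁ ξ₂ : G → ℂ, IsIrrCharacter G ξ₁ ∧ IsIrrCharacter G ξ₂ ∧ ξ₁ ≠ ξ₂ ∧ R = ξ₁ + ξ₂ := by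
  classical
  obtain ⟨m, hm, hsum⟩ := IsCharacter.exists_eq_sum hR
  have hex : ∃ ψ, m ψ ≠ 0 := by
    by_contra hc
    push Not at hc
    have h0 : R = 0 := by
      rw [hsum]
      apply Finset.sum_eq_zero
      intro ψ _
      rw [hc ψ]
      simp
    rw [h0, classInner_zero_left] at h
    norm_num at h
  obtain ⟨ξ, hξ⟩ := hex
  have hinner : classInner R (ξ : G → ℂ) = m ξ := hm ξ
  have hinner' : classInner (ξ : G → ℂ) R = m ξ := by
    rw [classInner_conj_symm, hinner, map_natCast]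
  have hchar : IsCharacter G (R - (ξ : G → ℂ)) :=
    IsCharacter.sub_irr hR ξ.2 (by rw [hinner]; exact_mod_cast hξ)
  have hnorm : classInner (R - (ξ : G → ℂ)) (R - (ξ : G → ℂ)) = 3 - 2 * (m ξ : ℂ) := by
    rw [classInner_sub_left, classInner_sub_right, classInner_sub_right, h, hinner, hinner',
      classInner_irr_self ξ.2]
    ring
  obtain ⟨k, hk⟩ := IsCharacter.classInner_nat hchar hchar
  rw [hnorm] at hk
  have hk' : (3 : ℤ) - 2 * (m ξ : ℤ) = k := by
    have : ((3 - 2 * (m ξ : ℤ) : ℤ) : ℂ) = (k : ℂ) := by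
      push_cast
      exact hk
    exact_mod_cast this
  have hm1 : m ξ = 1 := by omega
  have hk1 : (k : ℂ) = 1 := by
    have : k = 1 := by omega
    rw [this]; simp
  have hirr : IsIrrCharacter G (R - (ξ : G → ℂ)) := by
    apply isIrrCharacter_of_classInner_self hchar
    rw [hnorm, hm1]
    norm_num
  refine ⟨ξ, R - ξ, ξ.2, hirr, ?_, by simp⟩
  intro he
  have h1 : classInner (R - (ξ : G → ℂ)) (ξ : G → ℂ) = 0 := by
    rw [classInner_sub_left, hinner, hm1, classInner_irr_self ξ.2]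
    norm_num
  rw [← he, classInner_irr_self ξ.2] at h1
  exact one_ne_zero h1

/-- Induced functions are preserved by an automorphism preserving the subgroup and the function. -/
theorem indFun_comp_mulEquiv {G : Type*} [Group G] [Fintype G] (H : Subgroup G) (θ : H → ℂ) (σ : G ≃* G)
    (hH : ∀ z, σ z ∈ H ↔ z ∈ H) (hθ : ∀ b : H, θ ⟨σ b, (hH b).mpr b.2⟩ = θ b) (g : G) :
    indFun H θ (σ g) = indFun H θ g := by
  classical
  simp only [indFun_apply]
  congr 1
  symm
  refine Fintype.sum_equiv σ.toEquiv _ _ fun x => ?_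
  have h1 : (σ x)⁻¹ * σ g * σ x = σ (x⁻¹ * g * x) := by simp
  change extendByZero H θ (x⁻¹ * g * x) = extendByZero H θ ((σ x)⁻¹ * σ g * σ x)
  rw [h1]
  by_cases hz : x⁻¹ * g * x ∈ H
  · rw [extendByZero_of_mem H θ hz, extendByZero_of_mem H θ ((hH _).mpr hz)]
    exact (hθ ⟨_, hz⟩).symm
  · rw [extendByZero_of_notMem H θ hz, extendByZero_of_notMem H θ (fun h => hz ((hH _).mp h))]

variable {F : Type*} [Field F]

/-- The lower unipotent element. -/
def sl2L (c : F) : SL2 F := sl2Mk 1 0 c 1 (by ring)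

theorem sl2L_eq_conj (c : F) : sl2L c = sl2W * sl2U (-c) * sl2W⁻¹ := by
  apply sl2_ext <;>
    simp [sl2L, sl2W, sl2U, sl2_mul_apply, sl2_inv_00, sl2_inv_01, sl2_inv_10, sl2_inv_11]

/-- A normal subgroup of `SL₂` containing `U` is everything. -/
theorem sl2_eq_top_of_normal_U (N : Subgroup (SL2 F)) (hN : N.Normal) (h : ∀ v : F, sl2U v ∈ N) : N = ⊤ := by
  have hL : ∀ c : F, sl2L c ∈ N := by
    intro c
    rw [sl2L_eq_conj]
    exact hN.conj_mem _ (h _) _
  have hc : ∀ g : SL2 F, (g : Matrix (Fin 2) (Fin 2) F) 1 0 ≠ 0 → g ∈ N := by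
    intro g hg
    set a := (g : Matrix (Fin 2) (Fin 2) F) 0 0 with ha
    set b := (g : Matrix (Fin 2) (Fin 2) F) 0 1 with hb
    set c := (g : Matrix (Fin 2) (Fin 2) F) 1 0 with hc
    set d := (g : Matrix (Fin 2) (Fin 2) F) 1 1 with hd
    have hdet : a * d - b * c = 1 := sl2_det g
    have : g = sl2U ((a - 1) / c) * sl2L c * sl2U ((d - 1) / c) := by
      apply sl2_ext <;> simp [sl2L, sl2U, sl2_mul_apply, ← ha, ← hb, ← hc, ← hd]
      · field_simp; ring
      · field_simp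
        linear_combination -hdet
      · field_simp; ring
    rw [this]
    exact N.mul_mem (N.mul_mem (h _) (hL _)) (h _)
  rw [eq_top_iff]
  intro g _
  by_cases hg : (g : Matrix (Fin 2) (Fin 2) F) 1 0 = 0
  · have hd := sl2_det g
    rw [hg] at hd
    have h00 : (g : Matrix (Fin 2) (Fin 2) F) 0 0 ≠ 0 := by
      intro h0
      rw [h0] at hd
      simp at hd
    have h1 : sl2L 1 * g ∈ N := by
      apply hc
      simp [sl2_mul_apply, sl2L, hg, h00]
    have h2 : g = (sl2L 1)⁻¹ * (sl2L 1 * g) := by group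
    rw [h2]
    exact N.mul_mem (N.inv_mem (hL 1)) h1
  · exact hc g hg

/-- If a character is constant on `U` it is trivial on `SL₂`. -/
theorem sl2_const_of_U [Finite F] {χ : SL2 F → ℂ} (hχ : IsCharacter (SL2 F) χ) (h : ∀ v : F, χ (sl2U v) = χ 1) (g : SL2 F) :
    χ g = χ 1 := by
  have hN := charKer_normal hχ
  have hU : ∀ v : F, sl2U v ∈ charKer χ := fun v => (mem_charKer hχ).mpr (h v)
  have htop := sl2_eq_top_of_normal_U _ hN hU
  have hg : g ∈ charKer χ := by rw [htop]; trivial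
  exact (mem_charKer hχ).mp hg

theorem sl2_eq_one_of_U [Fintype F] [DecidableEq F] {χ : SL2 F → ℂ} (hχ : IsIrrCharacter (SL2 F) χ)
    (h : ∀ v : F, χ (sl2U v) = χ 1) : χ = sl2One F := by
  classical
  have hchar := IsIrrCharacter.isCharacter hχ
  have hconst := sl2_const_of_U hchar h
  have hinner : classInner χ (sl2One F) = χ 1 := by
    simp only [classInner, sl2One, map_one, mul_one, hconst, Finset.sum_const, Finset.card_univ, nsmul_eq_mul]
    rw [Nat.card_eq_fintype_card]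
    have : (Fintype.card (SL2 F) : ℂ) ≠ 0 := by
      exact_mod_cast Fintype.card_ne_zero
    field_simp
  rw [classInner_irr hχ isIrr_sl2One] at hinner
  by_contra hne
  rw [if_neg hne] at hinner
  exact IsIrrCharacter.apply_one_ne_zero hχ hinner.symm

/-! ## Twisting by a diagonal element of `GL₂` -/

/-- The automorphism of `SL₂` given by conjugation by `diag(n, 1)`. -/
def sl2Twist (n : Fˣ) : SL2 F ≃* SL2 F where
  toFun g := sl2Mk ((g : Matrix (Fin 2) (Fin 2) F) 0 0) ((n : F) * (g : Matrix (Fin 2) (Fin 2) F) 0 1)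
    (((n⁻¹ : Fˣ) : F) * (g : Matrix (Fin 2) (Fin 2) F) 1 0) ((g : Matrix (Fin 2) (Fin 2) F) 1 1) (by
      have := sl2_det g
      have hn : (n : F) * ((n⁻¹ : Fˣ) : F) = 1 := by simp
      linear_combination this + (g : Matrix (Fin 2) (Fin 2) F) 0 1 * (g : Matrix (Fin 2) (Fin 2) F) 1 0 * (-hn))
  invFun g := sl2Mk ((g : Matrix (Fin 2) (Fin 2) F) 0 0) (((n⁻¹ : Fˣ) : F) * (g : Matrix (Fin 2) (Fin 2) F) 0 1)
    ((n : F) * (g : Matrix (Fin 2) (Fin 2) F) 1 0) ((g : Matrix (Fin 2) (Fin 2) F) 1 1) (by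
      have := sl2_det g
      have hn : (n : F) * ((n⁻¹ : Fˣ) : F) = 1 := by simp
      linear_combination this + (g : Matrix (Fin 2) (Fin 2) F) 0 1 * (g : Matrix (Fin 2) (Fin 2) F) 1 0 * (-hn))
  left_inv g := by
    apply sl2_ext <;> simp [← mul_assoc]
  right_inv g := by
    apply sl2_ext <;> simp [← mul_assoc]
  map_mul' x y := by
    have hn : ((n⁻¹ : Fˣ) : F) * (n : F) = 1 := by simp
    apply sl2_ext <;> simp only [sl2_mul_apply, sl2Mk_00, sl2Mk_01, sl2Mk_10, sl2Mk_11]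
    · linear_combination (x : Matrix (Fin 2) (Fin 2) F) 0 1 * (y : Matrix (Fin 2) (Fin 2) F) 1 0 * (-hn)
    · ring
    · ring
    · linear_combination (x : Matrix (Fin 2) (Fin 2) F) 1 0 * (y : Matrix (Fin 2) (Fin 2) F) 0 1 * (-hn)

@[simp] theorem sl2Twist_00 (n : Fˣ) (g : SL2 F) : (sl2Twist n g : Matrix (Fin 2) (Fin 2) F) 0 0 = (g : Matrix (Fin 2) (Fin 2) F) 0 0 := rfl
@[simp] theorem sl2Twist_01 (n : Fˣ) (g : SL2 F) : (sl2Twist n g : Matrix (Fin 2) (Fin 2) F) 0 1 = (n : F) * (g : Matrix (Fin 2) (Fin 2) F) 0 1 := rfl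
@[simp] theorem sl2Twist_10 (n : Fˣ) (g : SL2 F) : (sl2Twist n g : Matrix (Fin 2) (Fin 2) F) 1 0 = ((n⁻¹ : Fˣ) : F) * (g : Matrix (Fin 2) (Fin 2) F) 1 0 := rfl
@[simp] theorem sl2Twist_11 (n : Fˣ) (g : SL2 F) : (sl2Twist n g : Matrix (Fin 2) (Fin 2) F) 1 1 = (g : Matrix (Fin 2) (Fin 2) F) 1 1 := rfl

theorem sl2Twist_U (n : Fˣ) (v : F) : sl2Twist n (sl2U v) = sl2U ((n : F) * v) := by
  apply sl2_ext <;> simp

theorem sl2Ind_twist [Fintype F] [DecidableEq F] (α : MulChar F ℂ) (n : Fˣ) (g : SL2 F) :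
    sl2Ind α (sl2Twist n g) = sl2Ind α g := by
  unfold sl2Ind
  refine indFun_comp_mulEquiv _ _ (sl2Twist n) ?_ ?_ g
  · intro z
    rw [mem_sl2Borel_iff, mem_sl2Borel_iff, sl2Twist_10]
    simp
  · intro b
    rfl

theorem sl2Mult_twist [Fintype F] [DecidableEq F] (φ : AddChar F ℂ) (χ : SL2 F → ℂ) (n : Fˣ) (s : F) :
    sl2Mult φ (χ ∘ sl2Twist n) s = sl2Mult φ χ (s * ((n⁻¹ : Fˣ) : F)) := by
  classical
  simp only [sl2Mult, Function.comp]
  congr 1
  refine Fintype.sum_equiv (Equiv.mulLeft₀ (n : F) n.ne_zero) _ _ fun v => ?_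
  simp only [Equiv.mulLeft₀_apply, sl2Twist_U]
  congr 3
  have : ((n⁻¹ : Fˣ) : F) * (n : F) = 1 := by simp
  linear_combination (-s * v) * this

end Cfsg.Agent.Lib.Known
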