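import Mathlib
import Cfsg.Agent.Lib.Known.CharHelp
import Cfsg.Agent.S2325

set_option autoImplicit false

namespace Cfsg.Agent.Lib.Known

open Cfsg Cfsg.Agent.Lib.Char
open scoped ComplexConjugate

variable {F : Type*} [Field F] [Fintype F] [DecidableEq F]

/-- The quadratic character as a complex multiplicative character. -/
noncomputable def quadC (F : Type*) [Field F] [Fintype F] [DecidableEq F] : MulChar F ℂ :=
  (quadraticChar F).ringHomComp (Int.castRingHom ℂ)

theorem quadC_apply (a : F) : quadC F a = (quadraticChar F a : ℂ) := rfl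

theorem quadC_of_isSquare {a : F} (ha : a ≠ 0) (h : IsSquare a) : quadC F a = 1 := by
  rw [quadC_apply, (quadraticChar_one_iff_isSquare ha).mpr h]
  simp

theorem quadC_of_not_isSquare {a : F} (h : ¬ IsSquare a) : quadC F a = -1 := by
  rw [quadC_apply, quadraticChar_neg_one_iff_not_isSquare.mpr h]
  simp

theorem quadC_sq : quadC F ^ 2 = 1 := by
  apply MulChar.ext
  intro a
  have h := quadraticChar_dichotomy (F := F) a.ne_zero
  rw [pow_two, MulChar.mul_apply, MulChar.one_apply_coe, quadC_apply]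
  rcases h with h | h <;> simp [h]

theorem quadC_inv : (quadC F)⁻¹ = quadC F := by
  have h := quadC_sq (F := F)
  rw [pow_two] at h
  exact inv_eq_of_mul_eq_one_left h

theorem exists_nonsquare_unit (hodd : Odd (Fintype.card F)) : ∃ ε : Fˣ, ¬ IsSquare (ε : F) := by
  obtain ⟨a, ha⟩ := FiniteField.exists_nonsquare (ringChar_ne_two_of_odd hodd)
  have h0 : a ≠ 0 := by
    rintro rfl
    exact ha (IsSquare.zero)
  exact ⟨Units.mk0 a h0, ha⟩

theorem quadC_ne_one (hodd : Odd (Fintype.card F)) : quadC F ≠ 1 := by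
  intro h
  obtain ⟨ε, hε⟩ := exists_nonsquare_unit (F := F) hodd
  have h1 := quadC_of_not_isSquare hε
  rw [h, MulChar.one_apply_coe] at h1
  have : (2 : ℂ) = 0 := by linear_combination h1
  norm_num at this

omit [DecidableEq F] in
theorem unit_eq_sq_mul_of_not_isSquare (hodd : Odd (Fintype.card F)) {ε s : Fˣ} (hε : ¬ IsSquare (ε : F)) (hs : ¬ IsSquare (s : F)) :
    ∃ a : Fˣ, (s : F) = a * a * ε := by
  classical
  have h1 : ((s * ε⁻¹ : Fˣ) : F) ≠ 0 := Units.ne_zero _
  have h2 : IsSquare ((s * ε⁻¹ : Fˣ) : F) := by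
    rw [← quadraticChar_one_iff_isSquare h1]
    have h3 : ((s * ε⁻¹ : Fˣ) : F) * (ε : F) = (s : F) := by simp
    have h4 : quadraticChar F ((s * ε⁻¹ : Fˣ) : F) * quadraticChar F (ε : F) = quadraticChar F (s : F) := by
      rw [← map_mul, h3]
    rw [quadraticChar_neg_one_iff_not_isSquare.mpr hs, quadraticChar_neg_one_iff_not_isSquare.mpr hε] at h4
    linarith
  obtain ⟨c, hc⟩ := h2
  have hc0 : c ≠ 0 := by
    rintro rfl
    exact h1 (by simpa using hc)
  refine ⟨Units.mk0 c hc0, ?_⟩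
  simp only [Units.val_mk0]
  rw [← hc]
  simp

omit [DecidableEq F] in
theorem unit_eq_sq_of_isSquare {s : Fˣ} (hs : IsSquare (s : F)) : ∃ a : Fˣ, (s : F) = a * a * 1 := by
  obtain ⟨c, hc⟩ := hs
  have hc0 : c ≠ 0 := by
    rintro rfl
    exact s.ne_zero (by simpa using hc)
  exact ⟨Units.mk0 c hc0, by simpa using hc⟩

theorem mulChar_sq_one_cases (hodd : Odd (Fintype.card F)) (α : MulChar F ℂ) (h : α ^ 2 = 1) :
    α = 1 ∨ α = quadC F := by
  classical
  obtain ⟨ε, hε⟩ := exists_nonsquare_unit (F := F) hodd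
  have hsq : ∀ a : Fˣ, α ((a : F) * a) = 1 := by
    intro a
    have h1 : (α ^ 2) (a : F) = 1 := by rw [h]; exact MulChar.one_apply_coe a
    rwa [pow_two, MulChar.mul_apply, ← map_mul] at h1
  have hε2 : α (ε : F) ^ 2 = 1 := by
    have := hsq ε
    rwa [map_mul, ← pow_two] at this
  have hval : ∀ s : Fˣ, α (s : F) = if IsSquare (s : F) then 1 else α (ε : F) := by
    intro s
    split_ifs with hs
    · obtain ⟨a, ha⟩ := unit_eq_sq_of_isSquare hs
      rw [ha, mul_one, hsq a]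
    · obtain ⟨a, ha⟩ := unit_eq_sq_mul_of_not_isSquare hodd hε hs
      rw [ha, map_mul, hsq a, one_mul]
  have hε3 : α (ε : F) = 1 ∨ α (ε : F) = -1 := by
    have : (α (ε : F) - 1) * (α (ε : F) + 1) = 0 := by linear_combination hε2
    rcases mul_eq_zero.mp this with h1 | h1
    · left; linear_combination h1
    · right; linear_combination h1
  rcases hε3 with h1 | h1
  · left
    apply MulChar.ext
    intro s
    rw [hval, h1, MulChar.one_apply_coe]
    simp
  · right
    apply MulChar.ext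
    intro s
    rw [hval, h1]
    split_ifs with hs
    · rw [quadC_of_isSquare s.ne_zero hs]
    · rw [quadC_of_not_isSquare hs]

/-- The number of multiplicative characters with non-trivial square. -/
theorem card_mulChar_sq_ne_one (hodd : Odd (Fintype.card F)) :
    Fintype.card {α : MulChar F ℂ // α ^ 2 ≠ 1} = Fintype.card F - 3 := by
  classical
  rw [Fintype.card_subtype_compl, card_mulChar]
  have h1 : Fintype.card {α : MulChar F ℂ // α ^ 2 = 1} = 2 := by
    rw [Fintype.card_subtype]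
    have : Finset.univ.filter (fun α : MulChar F ℂ => α ^ 2 = 1) = {1, quadC F} := by
      ext α
      simp only [Finset.mem_filter, Finset.mem_univ, true_and, Finset.mem_insert, Finset.mem_singleton]
      constructor
      · exact mulChar_sq_one_cases hodd α
      · rintro (rfl | rfl)
        · simp
        · exact quadC_sq
    rw [this, Finset.card_pair (Ne.symm (quadC_ne_one hodd))]
  rw [h1]
  omega

theorem sum_units_quadC (hodd : Odd (Fintype.card F)) : ∑ u : Fˣ, quadC F (u : F) = 0 := by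
  rw [sum_units_eq_sum (fun a => quadC F a) (MulChar.map_nonunit _ not_isUnit_zero)]
  exact MulChar.sum_eq_zero_of_ne_one (quadC_ne_one hodd)

/-- `sl2Mult` is constant on square classes. -/
theorem sl2Mult_of_isSquare (φ : AddChar F ℂ) {χ : SL2 F → ℂ} (hχ : IsClassFunction (SL2 F) χ) {s : Fˣ} (hs : IsSquare (s : F)) :
    sl2Mult φ χ (s : F) = sl2Mult φ χ 1 := by
  obtain ⟨a, ha⟩ := unit_eq_sq_of_isSquare hs
  rw [ha]
  exact sl2Mult_mul_sq φ hχ a 1

theorem sl2Mult_of_not_isSquare (hodd : Odd (Fintype.card F)) (φ : AddChar F ℂ) {χ : SL2 F → ℂ} (hχ : IsClassFunction (SL2 F) χ)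
    {ε s : Fˣ} (hε : ¬ IsSquare (ε : F)) (hs : ¬ IsSquare (s : F)) :
    sl2Mult φ χ (s : F) = sl2Mult φ χ ε := by
  obtain ⟨a, ha⟩ := unit_eq_sq_mul_of_not_isSquare hodd hε hs
  rw [ha]
  exact sl2Mult_mul_sq φ hχ a _

/-- The degree formula. -/
theorem sl2Mult_degree (hodd : Odd (Fintype.card F)) (φ : AddChar F ℂ) (hφ : φ ≠ 1) {χ : SL2 F → ℂ} (hχ : IsClassFunction (SL2 F) χ)
    {ε : Fˣ} (hε : ¬ IsSquare (ε : F)) :
    χ 1 = sl2Mult φ χ 0 + ((Fintype.card F : ℂ) - 1) / 2 * (sl2Mult φ χ 1 + sl2Mult φ χ ε) := by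
  classical
  rw [← sum_sl2Mult φ hφ χ, sum_field_split]
  congr 1
  have h1 : ∀ u : Fˣ, sl2Mult φ χ (u : F) =
      (sl2Mult φ χ 1 + sl2Mult φ χ ε) / 2 + (sl2Mult φ χ 1 - sl2Mult φ χ ε) / 2 * quadC F (u : F) := by
    intro u
    by_cases hs : IsSquare (u : F)
    · rw [sl2Mult_of_isSquare φ hχ hs, quadC_of_isSquare u.ne_zero hs]
      ring
    · rw [sl2Mult_of_not_isSquare hodd φ hχ hε hs, quadC_of_not_isSquare hs]
      ring
  rw [Finset.sum_congr rfl (fun u _ => h1 u)]
  rw [Finset.sum_add_distrib, ← Finset.mul_sum, sum_units_quadC hodd]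
  simp only [Finset.sum_const, Finset.card_univ, Fintype.card_units, nsmul_eq_mul, mul_zero, add_zero]
  rw [Nat.cast_sub Fintype.card_pos]
  push_cast
  ring

/-- The natural number behind `sl2Mult` for an irreducible character. -/
noncomputable def multN (φ : AddChar F ℂ) (s : F) (χ : IrrCharacter (SL2 F)) : ℕ :=
  Classical.choose (sl2Mult_nat φ (IsIrrCharacter.isCharacter χ.2) s)

theorem multN_spec (φ : AddChar F ℂ) (s : F) (χ : IrrCharacter (SL2 F)) :
    sl2Mult φ (χ : SL2 F → ℂ) s = (multN φ s χ : ℂ) :=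
  Classical.choose_spec (sl2Mult_nat φ (IsIrrCharacter.isCharacter χ.2) s)

theorem sum_multN_sq_one (hodd : Odd (Fintype.card F)) (φ : AddChar F ℂ) (hφ : φ ≠ 1) :
    ∑ χ : IrrCharacter (SL2 F), multN φ 1 χ ^ 2 = Fintype.card F + 1 := by
  have h := sum_irr_sl2Mult_sq hodd φ hφ
  simp only [multN_spec, map_natCast] at h
  have h2 : ((∑ χ : IrrCharacter (SL2 F), multN φ 1 χ ^ 2 : ℕ) : ℂ) = ((Fintype.card F + 1 : ℕ) : ℂ) := by
    push_cast
    rw [← h]
    apply Finset.sum_congr rfl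
    intro χ _
    ring
  exact_mod_cast h2

theorem sl2Mult_mulShift (φ : AddChar F ℂ) (χ : SL2 F → ℂ) (s t : F) :
    sl2Mult (AddChar.mulShift φ s) χ t = sl2Mult φ χ (s * t) := by
  simp only [sl2Mult, AddChar.mulShift_apply, mul_assoc]

theorem sum_multN_sq (hodd : Odd (Fintype.card F)) (φ : AddChar F ℂ) (hφ : φ ≠ 1) {s : F} (hs : s ≠ 0) :
    ∑ χ : IrrCharacter (SL2 F), multN φ s χ ^ 2 = Fintype.card F + 1 := by
  have hφ' : AddChar.mulShift φ s ≠ 1 := AddChar.IsPrimitive.of_ne_one hφ hs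
  have h := sum_multN_sq_one hodd (AddChar.mulShift φ s) hφ'
  rw [← h]
  apply Finset.sum_congr rfl
  intro χ _
  have h1 := multN_spec (AddChar.mulShift φ s) 1 χ
  rw [sl2Mult_mulShift, mul_one, multN_spec] at h1
  have h2 : multN φ s χ = multN (AddChar.mulShift φ s) 1 χ := by exact_mod_cast h1
  rw [h2]

/-- The data of the two half-principal series characters. -/
structure SL2OddData (F : Type*) [Field F] [Fintype F] [DecidableEq F] where
  φ : AddChar F ℂ
  hφ : φ ≠ 1
  ε : Fˣ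
  hε : ¬ IsSquare (ε : F)
  ξ₁ : SL2 F → ℂ
  ξ₂ : SL2 F → ℂ
  irr₁ : IsIrrCharacter (SL2 F) ξ₁
  irr₂ : IsIrrCharacter (SL2 F) ξ₂
  ne : ξ₁ ≠ ξ₂
  sum : sl2Ind (quadC F) = ξ₁ + ξ₂
  m11 : sl2Mult φ ξ₁ 1 = 1
  m12 : sl2Mult φ ξ₁ ε = 0
  m21 : sl2Mult φ ξ₂ 1 = 0
  m22 : sl2Mult φ ξ₂ ε = 1
  swap₁ : ξ₁ ∘ sl2Twist ε = ξ₂
  swap₂ : ξ₂ ∘ sl2Twist ε = ξ₁

theorem sl2_ne_one_of_inner_zero {ξ ξ' : SL2 F → ℂ} (h1 : IsIrrCharacter (SL2 F) ξ) (h2 : IsIrrCharacter (SL2 F) ξ')
    (hne : ξ ≠ ξ') (hsum : sl2Ind (quadC F) = ξ + ξ') (hodd : Odd (Fintype.card F)) : ξ ≠ sl2One F := by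
  classical
  rintro rfl
  have h := classInner_sl2Ind_sl2One (quadC F)
  rw [hsum, classInner_add_left, classInner_irr_self h1, classInner_irr h2 h1, if_neg (Ne.symm hne),
    if_neg (Ne.symm (quadC_ne_one hodd))] at h
  simp at h

/-- An irreducible character other than `1` has a non-trivial additive constituent. -/
theorem sl2Mult_ne_zero_of_ne_one (hodd : Odd (Fintype.card F)) (φ : AddChar F ℂ) (hφ : φ ≠ 1)
    {χ : SL2 F → ℂ} (hχ : IsIrrCharacter (SL2 F) χ) (hne : χ ≠ sl2One F) {ε : Fˣ} (hε : ¬ IsSquare (ε : F)) :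
    sl2Mult φ χ 1 ≠ 0 ∨ sl2Mult φ χ ε ≠ 0 := by
  classical
  by_contra hc
  push Not at hc
  apply hne
  have hclass := IsCharacter.isClassFunction (IsIrrCharacter.isCharacter hχ)
  apply sl2_eq_one_of_U hχ
  have hall : ∀ s : Fˣ, sl2Mult φ χ (s : F) = 0 := by
    intro s
    by_cases hs : IsSquare (s : F)
    · rw [sl2Mult_of_isSquare φ hclass hs, hc.1]
    · rw [sl2Mult_of_not_isSquare hodd φ hclass hε hs, hc.2]
  have hval : ∀ v : F, χ (sl2U v) = sl2Mult φ χ 0 := by
    intro v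
    rw [← sum_sl2Mult_mul φ hφ χ v, sum_field_split]
    simp [hall]
  intro v
  have h0 := hval 0
  rw [sl2U_zero] at h0
  rw [hval v, h0]

theorem exists_SL2OddData (hodd : Odd (Fintype.card F)) : Nonempty (SL2OddData F) := by
  classical
  obtain ⟨φ, hφ⟩ := exists_addChar_ne_one (F := F)
  obtain ⟨ε, hε⟩ := exists_nonsquare_unit (F := F) hodd
  have hnorm : classInner (sl2Ind (quadC F)) (sl2Ind (quadC F)) = 2 := by
    rw [classInner_sl2Ind_sl2Ind, if_pos rfl, if_pos quadC_inv.symm]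
    norm_num
  obtain ⟨ξ, ξ', h1, h2, hne, hsum⟩ := exists_two_of_norm_two (isCharacter_sl2Ind _) hnorm
  obtain ⟨a, ha⟩ := sl2Mult_nat φ (IsIrrCharacter.isCharacter h1) 1
  obtain ⟨b, hb⟩ := sl2Mult_nat φ (IsIrrCharacter.isCharacter h1) (ε : F)
  obtain ⟨a', ha'⟩ := sl2Mult_nat φ (IsIrrCharacter.isCharacter h2) 1
  obtain ⟨b', hb'⟩ := sl2Mult_nat φ (IsIrrCharacter.isCharacter h2) (ε : F)
  have hs1 : a + a' = 1 := by
    have := sl2Mult_sl2Ind φ hφ (quadC F) (one_ne_zero (α := F))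
    rw [hsum, sl2Mult_add, ha, ha'] at this
    exact_mod_cast this
  have hs2 : b + b' = 1 := by
    have := sl2Mult_sl2Ind φ hφ (quadC F) ε.ne_zero
    rw [hsum, sl2Mult_add, hb, hb'] at this
    exact_mod_cast this
  have hn1 := sl2Mult_ne_zero_of_ne_one hodd φ hφ h1 (sl2_ne_one_of_inner_zero h1 h2 hne hsum hodd) hε
  have hn2 := sl2Mult_ne_zero_of_ne_one hodd φ hφ h2 (sl2_ne_one_of_inner_zero h2 h1 (Ne.symm hne) (by rw [hsum, add_comm]) hodd) hε
  rw [ha, hb] at hn1
  rw [ha', hb'] at hn2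
  have hn1' : a ≠ 0 ∨ b ≠ 0 := hn1.imp (fun h h0 => h (by rw [h0]; simp)) (fun h h0 => h (by rw [h0]; simp))
  have hn2' : a' ≠ 0 ∨ b' ≠ 0 := hn2.imp (fun h h0 => h (by rw [h0]; simp)) (fun h h0 => h (by rw [h0]; simp))
  -- a general construction in the good order
  have build : ∀ (ξ ξ' : SL2 F → ℂ), IsIrrCharacter (SL2 F) ξ → IsIrrCharacter (SL2 F) ξ' → ξ ≠ ξ' →
      sl2Ind (quadC F) = ξ + ξ' → sl2Mult φ ξ 1 = 1 → sl2Mult φ ξ ε = 0 → sl2Mult φ ξ' 1 = 0 → sl2Mult φ ξ' ε = 1 →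
      Nonempty (SL2OddData F) := by
    intro ξ ξ' h1 h2 hne hsum m11 m12 m21 m22
    have hε' : ¬ IsSquare (((ε⁻¹ : Fˣ)) : F) := by
      intro hh
      apply hε
      obtain ⟨c, hc⟩ := hh
      refine ⟨c⁻¹, ?_⟩
      have : (ε : F) = (((ε⁻¹ : Fˣ)) : F)⁻¹ := by simp
      rw [this, hc]
      exact mul_inv _ _
    have hcomp : ∀ (η : SL2 F → ℂ), IsIrrCharacter (SL2 F) η →
        sl2Mult φ (η ∘ sl2Twist ε) 1 = sl2Mult φ η ε ∧ sl2Mult φ (η ∘ sl2Twist ε) ε = sl2Mult φ η 1 := by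
      intro η hη
      have hclass := IsCharacter.isClassFunction (IsIrrCharacter.isCharacter hη)
      constructor
      · rw [sl2Mult_twist, one_mul]
        exact sl2Mult_of_not_isSquare hodd φ hclass hε hε'
      · rw [sl2Mult_twist]
        congr 1
        simp
    have hmem : ∀ (η : SL2 F → ℂ), IsIrrCharacter (SL2 F) η → classInner η (sl2Ind (quadC F)) ≠ 0 →
        η = ξ ∨ η = ξ' := by
      intro η hη hin
      rw [hsum, classInner_add_right, classInner_irr hη h1, classInner_irr hη h2] at hin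
      by_cases e1 : η = ξ
      · exact Or.inl e1
      · by_cases e2 : η = ξ'
        · exact Or.inr e2
        · simp [e1, e2] at hin
    have hinv : ∀ (η : SL2 F → ℂ), classInner (η ∘ sl2Twist ε) (sl2Ind (quadC F)) = classInner η (sl2Ind (quadC F)) := by
      intro η
      simp only [classInner]
      congr 1
      refine Fintype.sum_equiv (sl2Twist ε).toEquiv _ _ fun g => ?_
      simp only [Function.comp, MulEquiv.toEquiv_eq_coe, EquivLike.coe_coe]
      rw [sl2Ind_twist]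
    have hinξ : classInner ξ (sl2Ind (quadC F)) ≠ 0 := by
      rw [hsum, classInner_add_right, classInner_irr_self h1, classInner_irr h1 h2, if_neg hne]
      simp
    have hinξ' : classInner ξ' (sl2Ind (quadC F)) ≠ 0 := by
      rw [hsum, classInner_add_right, classInner_irr_self h2, classInner_irr h2 h1, if_neg (Ne.symm hne)]
      simp
    have hs1 : ξ ∘ sl2Twist ε = ξ' := by
      have hm := hmem _ (IsIrrCharacter.comp_mulEquiv h1 _) (by rw [hinv]; exact hinξ)
      rcases hm with hm | hm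
      · exfalso
        have := (hcomp ξ h1).1
        rw [hm, m11, m12] at this
        exact one_ne_zero this
      · exact hm
    have hs2 : ξ' ∘ sl2Twist ε = ξ := by
      have hm := hmem _ (IsIrrCharacter.comp_mulEquiv h2 _) (by rw [hinv]; exact hinξ')
      rcases hm with hm | hm
      · exact hm
      · exfalso
        have := (hcomp ξ' h2).1
        rw [hm, m21, m22] at this
        exact zero_ne_one this
    exact ⟨⟨φ, hφ, ε, hε, ξ, ξ', h1, h2, hne, hsum, m11, m12, m21, m22, hs1, hs2⟩⟩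
  by_cases h0 : a = 0
  · -- a = 0, a' = 1
    have ha1 : a' = 1 := by omega
    have hb1 : b ≠ 0 := by
      rcases hn1' with h | h
      · exact absurd h0 h
      · exact h
    have hb2 : b = 1 := by omega
    have hb3 : b' = 0 := by omega
    subst h0 ha1 hb2 hb3
    refine build ξ' ξ h2 h1 (Ne.symm hne) (by rw [hsum, add_comm]) ?_ ?_ ?_ ?_
    · rw [ha']; simp
    · rw [hb']; simp
    · rw [ha]; simp
    · rw [hb]; simp
  · have ha1 : a = 1 := by omega
    have ha2 : a' = 0 := by omega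
    have hb1 : b' ≠ 0 := by
      rcases hn2' with h | h
      · exact absurd ha2 h
      · exact h
    have hb2 : b' = 1 := by omega
    have hb3 : b = 0 := by omega
    subst ha1 ha2 hb2 hb3
    refine build ξ ξ' h1 h2 hne hsum ?_ ?_ ?_ ?_
    · rw [ha]; simp
    · rw [hb]; simp
    · rw [ha']; simp
    · rw [hb']; simp

end Cfsg.Agent.Lib.Known
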