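import Mathlib
import Cfsg.Agent.Lib.Known.SL2IrrOdd
import Cfsg.Agent.Lib.Known.SL2IrrEven

set_option autoImplicit false

namespace Cfsg.Agent.Lib.Known

open Cfsg Cfsg.Agent.Lib.Char
open scoped ComplexConjugate

variable {F : Type*} [Field F] [Fintype F] [DecidableEq F]

namespace SL2OddData

variable (D : SL2OddData F)

theorem eq_or_eq_of_inner_ne {χ : SL2 F → ℂ} (hχ : IsIrrCharacter (SL2 F) χ)
    (h : classInner χ (sl2Ind (quadC F)) ≠ 0) : χ = D.ξ₁ ∨ χ = D.ξ₂ := by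
  classical
  rw [D.sum, classInner_add_right, classInner_irr hχ D.irr₁, classInner_irr hχ D.irr₂] at h
  by_cases e1 : χ = D.ξ₁
  · exact Or.inl e1
  · by_cases e2 : χ = D.ξ₂
    · exact Or.inr e2
    · simp [e1, e2] at h

theorem irr_cases (hodd : Odd (Fintype.card F)) {χ : SL2 F → ℂ} (hχ : IsIrrCharacter (SL2 F) χ) :
    χ = sl2One F ∨ χ = sl2St F ∨ (∃ α : MulChar F ℂ, α ^ 2 ≠ 1 ∧ χ = sl2Ind α) ∨ χ = D.ξ₁ ∨ χ = D.ξ₂ ∨ sl2Cusp χ := by
  by_cases hc : sl2Cusp χ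
  · exact Or.inr (Or.inr (Or.inr (Or.inr (Or.inr hc))))
  · unfold sl2Cusp at hc
    push Not at hc
    obtain ⟨α, h⟩ := hc
    rcases sl2_eq_of_inner_ne hχ α h with ⟨h1, h2⟩ | ⟨_, h2⟩ | ⟨_, h2⟩ | ⟨h1, h2⟩
    · exact Or.inr (Or.inr (Or.inl ⟨α, h1, h2⟩))
    · exact Or.inl h2
    · exact Or.inr (Or.inl h2)
    · have := (mulChar_sq_one_cases hodd α h1).resolve_left h2
      subst this
      rcases D.eq_or_eq_of_inner_ne hχ h with h3 | h3
      · exact Or.inr (Or.inr (Or.inr (Or.inl h3)))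
      · exact Or.inr (Or.inr (Or.inr (Or.inr (Or.inl h3))))

theorem apply_one_eq : D.ξ₂ 1 = D.ξ₁ 1 := by
  have := congrFun D.swap₁ 1
  simp only [Function.comp, map_one] at this
  exact this.symm

theorem two_mul_apply_one : 2 * D.ξ₁ 1 = (Fintype.card F : ℂ) + 1 := by
  have h := congrFun D.sum 1
  rw [sl2Ind_apply_one, Pi.add_apply, D.apply_one_eq] at h
  rw [h]; ring

theorem odd_eq (hodd : Odd (Fintype.card F)) : ∃ r : ℕ, Fintype.card F = 2 * r + 3 := by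
  obtain ⟨k, hk⟩ := hodd
  have h2 : 2 ≤ Fintype.card F := Fintype.one_lt_card
  exact ⟨k - 1, by omega⟩

theorem apply_one₁ (hodd : Odd (Fintype.card F)) : D.ξ₁ 1 = (((Fintype.card F + 1) / 2 : ℕ) : ℂ) := by
  obtain ⟨r, hr⟩ := odd_eq hodd
  have h := D.two_mul_apply_one
  rw [hr] at h ⊢
  have e : (2 * r + 3 + 1) / 2 = r + 2 := by omega
  rw [e]
  push_cast at h ⊢
  linear_combination h / 2

theorem apply_one₂ (hodd : Odd (Fintype.card F)) : D.ξ₂ 1 = (((Fintype.card F + 1) / 2 : ℕ) : ℂ) := by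
  rw [D.apply_one_eq, D.apply_one₁ hodd]

/-- Abbreviation for the first multiplicity. -/
noncomputable def N1 (χ : IrrCharacter (SL2 F)) : ℕ := multN D.φ 1 χ

/-- Abbreviation for the second multiplicity. -/
noncomputable def N2 (χ : IrrCharacter (SL2 F)) : ℕ := multN D.φ (D.ε : F) χ

theorem N1_eq (χ : IrrCharacter (SL2 F)) : sl2Mult D.φ (χ : SL2 F → ℂ) 1 = (D.N1 χ : ℂ) := multN_spec _ _ _

theorem N2_eq (χ : IrrCharacter (SL2 F)) : sl2Mult D.φ (χ : SL2 F → ℂ) (D.ε : F) = (D.N2 χ : ℂ) := multN_spec _ _ _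

theorem N1_of_eq {χ : IrrCharacter (SL2 F)} {n : ℕ} (h : sl2Mult D.φ (χ : SL2 F → ℂ) 1 = n) : D.N1 χ = n := by
  rw [D.N1_eq] at h
  exact_mod_cast h

theorem N2_of_eq {χ : IrrCharacter (SL2 F)} {n : ℕ} (h : sl2Mult D.φ (χ : SL2 F → ℂ) (D.ε : F) = n) : D.N2 χ = n := by
  rw [D.N2_eq] at h
  exact_mod_cast h

/-- Irreducible characters of the form `R(α)`. -/
noncomputable def indSet (F : Type*) [Field F] [Fintype F] [DecidableEq F] : Finset (IrrCharacter (SL2 F)) :=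
  sl2IndSetEven F

theorem mem_indSet {χ : IrrCharacter (SL2 F)} :
    χ ∈ indSet F ↔ ∃ α : MulChar F ℂ, α ^ 2 ≠ 1 ∧ (χ : SL2 F → ℂ) = sl2Ind α := by
  simp [indSet, sl2IndSetEven]

theorem card_indSet (hodd : Odd (Fintype.card F)) : 2 * (indSet F).card = Fintype.card F - 3 := by
  classical
  have himg : indSet F = (Finset.univ : Finset {α : MulChar F ℂ // α ^ 2 ≠ 1}).image
      (fun p => (⟨sl2Ind p.1, isIrr_sl2Ind p.2⟩ : IrrCharacter (SL2 F))) := by
    ext χ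
    rw [mem_indSet]
    simp only [Finset.mem_image, Finset.mem_univ, true_and]
    constructor
    · rintro ⟨α, hα, h⟩
      exact ⟨⟨α, hα⟩, Subtype.ext h.symm⟩
    · rintro ⟨⟨α, hα⟩, rfl⟩
      exact ⟨α, hα, rfl⟩
  have h1 := card_eq_two_mul_card_image (Finset.univ : Finset {α : MulChar F ℂ // α ^ 2 ≠ 1})
    (fun p => (⟨sl2Ind p.1, isIrr_sl2Ind p.2⟩ : IrrCharacter (SL2 F))) (by
      intro y hy
      obtain ⟨⟨α, hα⟩, _, rfl⟩ := Finset.mem_image.mp hy
      rw [Finset.card_eq_two]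
      have hα' : α⁻¹ ^ 2 ≠ 1 := by
        intro h
        apply hα
        rw [inv_pow, inv_eq_one] at h
        exact h
      refine ⟨⟨α, hα⟩, ⟨α⁻¹, hα'⟩, ?_, ?_⟩
      · intro h
        have h' : α = α⁻¹ := congrArg Subtype.val h
        apply hα
        rw [pow_two]
        nth_rewrite 1 [h']
        exact inv_mul_cancel α
      · ext ⟨β, hβ⟩
        simp only [Finset.mem_filter, Finset.mem_univ, true_and, Finset.mem_insert, Finset.mem_singleton,
          Subtype.mk.injEq]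
        constructor
        · intro h
          exact (sl2Ind_eq_iff β α).mp h
        · rintro (rfl | rfl)
          · rfl
          · exact sl2Ind_inv _)
  rw [himg, ← h1, Finset.card_univ]
  exact card_mulChar_sq_ne_one hodd

/-- The irreducible character as an element. -/
def o (F : Type*) [Field F] [Fintype F] [DecidableEq F] : IrrCharacter (SL2 F) := ⟨sl2One F, isIrr_sl2One⟩
/-- The Steinberg character as an element. -/
noncomputable def s (F : Type*) [Field F] [Fintype F] [DecidableEq F] : IrrCharacter (SL2 F) := ⟨sl2St F, isIrr_sl2St⟩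
/-- The first half character as an element. -/
def x₁ : IrrCharacter (SL2 F) := ⟨D.ξ₁, D.irr₁⟩
/-- The second half character as an element. -/
def x₂ : IrrCharacter (SL2 F) := ⟨D.ξ₂, D.irr₂⟩

theorem irrDeg_o : irrDeg (o F) = 1 := by
  rw [irrDeg_eq_iff]; simp [o, sl2One]

theorem irrDeg_s : irrDeg (s F) = Fintype.card F := by
  rw [irrDeg_eq_iff]; exact sl2St_apply_one

theorem irrDeg_x₁ (hodd : Odd (Fintype.card F)) : irrDeg D.x₁ = (Fintype.card F + 1) / 2 := by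
  rw [irrDeg_eq_iff]; exact D.apply_one₁ hodd

theorem irrDeg_x₂ (hodd : Odd (Fintype.card F)) : irrDeg D.x₂ = (Fintype.card F + 1) / 2 := by
  rw [irrDeg_eq_iff]; exact D.apply_one₂ hodd

theorem irrDeg_ind {χ : IrrCharacter (SL2 F)} (h : χ ∈ indSet F) : irrDeg χ = Fintype.card F + 1 := by
  obtain ⟨α, _, h⟩ := mem_indSet.mp h
  rw [irrDeg_eq_iff, h]
  push_cast
  exact sl2Ind_apply_one α

/-- The first four elements. -/
noncomputable def fourSet : Finset (IrrCharacter (SL2 F)) := {o F, s F, D.x₁, D.x₂}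

theorem x₁_ne_x₂ : D.x₁ ≠ D.x₂ := fun h => D.ne (congrArg Subtype.val h)

theorem four_distinct (hodd : Odd (Fintype.card F)) :
    o F ≠ s F ∧ o F ≠ D.x₁ ∧ o F ≠ D.x₂ ∧ s F ≠ D.x₁ ∧ s F ≠ D.x₂ := by
  obtain ⟨r, hr⟩ := odd_eq hodd
  have h1 := irrDeg_o (F := F)
  have h2 := irrDeg_s (F := F)
  have h3 := D.irrDeg_x₁ hodd
  have h4 := D.irrDeg_x₂ hodd
  rw [hr] at h2 h3 h4
  refine ⟨?_, ?_, ?_, ?_, ?_⟩ <;> (intro he; have := congrArg irrDeg he; omega)

theorem card_fourSet (hodd : Odd (Fintype.card F)) : (D.fourSet).card = 4 := by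
  obtain ⟨a, b, c, d, e⟩ := D.four_distinct hodd
  unfold fourSet
  rw [Finset.card_insert_of_notMem, Finset.card_insert_of_notMem, Finset.card_pair D.x₁_ne_x₂]
  · simp [d, e]
  · simp [a, b, c]

theorem sum_fourSet (hodd : Odd (Fintype.card F)) (f : IrrCharacter (SL2 F) → ℕ) :
    ∑ χ ∈ D.fourSet, f χ = f (o F) + f (s F) + f D.x₁ + f D.x₂ := by
  obtain ⟨a, b, c, d, e⟩ := D.four_distinct hodd
  unfold fourSet
  rw [Finset.sum_insert, Finset.sum_insert, Finset.sum_pair D.x₁_ne_x₂]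
  · ring
  · simp [d, e]
  · simp [a, b, c]

theorem partition (hodd : Odd (Fintype.card F)) :
    (Finset.univ : Finset (IrrCharacter (SL2 F))) = D.fourSet ∪ indSet F ∪ sl2CuspSet F ∧
    Disjoint D.fourSet (indSet F) ∧ Disjoint (D.fourSet ∪ indSet F) (sl2CuspSet F) := by
  classical
  obtain ⟨r, hr⟩ := odd_eq hodd
  refine ⟨?_, ?_, ?_⟩
  · ext χ
    simp only [Finset.mem_univ, true_iff, Finset.mem_union]
    rcases D.irr_cases hodd χ.2 with h | h | h | h | h | h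
    · left; left; simp only [fourSet, Finset.mem_insert, Finset.mem_singleton]; left; exact Subtype.ext h
    · left; left; simp only [fourSet, Finset.mem_insert, Finset.mem_singleton]; right; left; exact Subtype.ext h
    · left; right; exact mem_indSet.mpr h
    · left; left; simp only [fourSet, Finset.mem_insert, Finset.mem_singleton]; right; right; left; exact Subtype.ext h
    · left; left; simp only [fourSet, Finset.mem_insert, Finset.mem_singleton]; right; right; right; exact Subtype.ext h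
    · right; simp [sl2CuspSet, h]
  · rw [Finset.disjoint_left]
    intro χ h1 h2
    have h3 := irrDeg_ind h2
    simp only [fourSet, Finset.mem_insert, Finset.mem_singleton] at h1
    rw [hr] at h3
    rcases h1 with rfl | rfl | rfl | rfl
    · have := irrDeg_o (F := F); omega
    · have := irrDeg_s (F := F); rw [hr] at this; omega
    · have := D.irrDeg_x₁ hodd; rw [hr] at this; omega
    · have := D.irrDeg_x₂ hodd; rw [hr] at this; omega
  · rw [Finset.disjoint_left]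
    intro χ h1 h2
    have h3 : sl2Cusp (χ : SL2 F → ℂ) := by simpa [sl2CuspSet] using h2
    have hinξ₁ : classInner D.ξ₁ (sl2Ind (quadC F)) ≠ 0 := by
      rw [D.sum, classInner_add_right, classInner_irr_self D.irr₁, classInner_irr D.irr₁ D.irr₂, if_neg D.ne]
      simp
    have hinξ₂ : classInner D.ξ₂ (sl2Ind (quadC F)) ≠ 0 := by
      rw [D.sum, classInner_add_right, classInner_irr_self D.irr₂, classInner_irr D.irr₂ D.irr₁, if_neg (Ne.symm D.ne)]
      simp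
    rcases Finset.mem_union.mp h1 with h | h
    · simp only [fourSet, Finset.mem_insert, Finset.mem_singleton] at h
      rcases h with rfl | rfl | rfl | rfl
      · have := h3 1
        change classInner (sl2One F) _ = 0 at this
        rw [classInner_sl2One_sl2Ind] at this
        simp at this
      · have := h3 1
        change classInner (sl2St F) _ = 0 at this
        rw [classInner_sl2St_sl2Ind] at this
        simp at this
      · exact hinξ₁ (h3 _)
      · exact hinξ₂ (h3 _)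
    · obtain ⟨α, hα, h'⟩ := mem_indSet.mp h
      have := h3 α
      rw [h', classInner_irr_self (isIrr_sl2Ind hα)] at this
      exact one_ne_zero this

/-- The table of multiplicities. -/
theorem N_table (hodd : Odd (Fintype.card F)) :
    D.N1 (o F) = 0 ∧ D.N2 (o F) = 0 ∧ D.N1 (s F) = 1 ∧ D.N2 (s F) = 1 ∧
    D.N1 D.x₁ = 1 ∧ D.N2 D.x₁ = 0 ∧ D.N1 D.x₂ = 0 ∧ D.N2 D.x₂ = 1 ∧
    (∀ χ ∈ indSet F, D.N1 χ = 1 ∧ D.N2 χ = 1) := by
  refine ⟨?_, ?_, ?_, ?_, ?_, ?_, ?_, ?_, ?_⟩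
  · apply D.N1_of_eq
    rw [Nat.cast_zero]
    exact sl2Mult_sl2One D.φ D.hφ one_ne_zero
  · apply D.N2_of_eq
    rw [Nat.cast_zero]
    exact sl2Mult_sl2One D.φ D.hφ D.ε.ne_zero
  · apply D.N1_of_eq
    rw [Nat.cast_one]
    exact sl2Mult_sl2St D.φ D.hφ one_ne_zero
  · apply D.N2_of_eq
    rw [Nat.cast_one]
    exact sl2Mult_sl2St D.φ D.hφ D.ε.ne_zero
  · apply D.N1_of_eq; rw [Nat.cast_one]; exact D.m11
  · apply D.N2_of_eq; rw [Nat.cast_zero]; exact D.m12
  · apply D.N1_of_eq; rw [Nat.cast_zero]; exact D.m21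
  · apply D.N2_of_eq; rw [Nat.cast_one]; exact D.m22
  · intro χ hχ
    obtain ⟨α, _, h⟩ := mem_indSet.mp hχ
    constructor
    · apply D.N1_of_eq
      rw [h, Nat.cast_one]
      exact sl2Mult_sl2Ind D.φ D.hφ α one_ne_zero
    · apply D.N2_of_eq
      rw [h, Nat.cast_one]
      exact sl2Mult_sl2Ind D.φ D.hφ α D.ε.ne_zero

theorem cusp_deg (hodd : Odd (Fintype.card F)) {χ : IrrCharacter (SL2 F)} (h : χ ∈ sl2CuspSet F) (r : ℕ)
    (hr : Fintype.card F = 2 * r + 3) : irrDeg χ = (r + 1) * (D.N1 χ + D.N2 χ) := by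
  have hc : sl2Cusp (χ : SL2 F → ℂ) := by simpa [sl2CuspSet] using h
  have hclass := IsCharacter.isClassFunction (IsIrrCharacter.isCharacter χ.2)
  have h1 := sl2Mult_degree hodd D.φ D.hφ hclass D.hε
  rw [sl2Mult_cusp_zero D.φ hclass hc, D.N1_eq, D.N2_eq, hr] at h1
  rw [irrDeg_eq_iff, h1]
  push_cast
  ring

/-- The basic counting identities. -/
theorem counting (hodd : Odd (Fintype.card F)) (r : ℕ) (hr : Fintype.card F = 2 * r + 3) :
    (indSet F).card = r ∧ (sl2CuspSet F).card = r + 3 ∧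
    ∑ χ ∈ sl2CuspSet F, D.N1 χ ^ 2 = r + 2 ∧ ∑ χ ∈ sl2CuspSet F, D.N2 χ ^ 2 = r + 2 ∧
    ∑ χ ∈ sl2CuspSet F, (D.N1 χ + D.N2 χ) ^ 2 = 4 * r + 6 := by
  classical
  obtain ⟨hu, d1, d2⟩ := D.partition hodd
  obtain ⟨t1, t2, t3, t4, t5, t6, t7, t8, t9⟩ := D.N_table hodd
  have hT : (indSet F).card = r := by
    have := card_indSet (F := F) hodd
    omega
  have hC : (sl2CuspSet F).card = r + 3 := by
    have h := card_irr_eq_card_conjClasses (G := SL2 F)
    rw [Cfsg.Agent.S2325.result hodd, Nat.card_eq_fintype_card, ← Finset.card_univ, hu,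
      Finset.card_union_of_disjoint d2, Finset.card_union_of_disjoint d1, D.card_fourSet hodd, hT] at h
    omega
  have hS : ∀ f : IrrCharacter (SL2 F) → ℕ, ∑ χ, f χ =
      f (o F) + f (s F) + f D.x₁ + f D.x₂ + ∑ χ ∈ indSet F, f χ + ∑ χ ∈ sl2CuspSet F, f χ := by
    intro f
    rw [hu, Finset.sum_union d2, Finset.sum_union d1, D.sum_fourSet hodd]
  have hT1 : ∑ χ ∈ indSet F, D.N1 χ ^ 2 = r := by
    rw [Finset.sum_congr rfl (fun χ hχ => by rw [(t9 χ hχ).1]), ← hT]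
    simp
  have hT2 : ∑ χ ∈ indSet F, D.N2 χ ^ 2 = r := by
    rw [Finset.sum_congr rfl (fun χ hχ => by rw [(t9 χ hχ).2]), ← hT]
    simp
  refine ⟨hT, hC, ?_, ?_, ?_⟩
  · have h := sum_multN_sq hodd D.φ D.hφ (one_ne_zero (α := F))
    change ∑ χ, D.N1 χ ^ 2 = _ at h
    rw [hS, t1, t3, t5, t7, hT1, hr] at h
    omega
  · have h := sum_multN_sq hodd D.φ D.hφ D.ε.ne_zero
    change ∑ χ, D.N2 χ ^ 2 = _ at h
    rw [hS, t2, t4, t6, t8, hT2, hr] at h
    omega
  · have h := sum_irrDeg_sq (G := SL2 F)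
    rw [hS, irrDeg_o, irrDeg_s, D.irrDeg_x₁ hodd, D.irrDeg_x₂ hodd, card_sl2, hr] at h
    have hT3 : ∑ χ ∈ indSet F, irrDeg χ ^ 2 = r * (2 * r + 4) ^ 2 := by
      rw [Finset.sum_congr rfl (fun χ hχ => by rw [irrDeg_ind hχ]), hr]
      simp [hT]
    have hC3 : ∑ χ ∈ sl2CuspSet F, irrDeg χ ^ 2 = (r + 1) ^ 2 * ∑ χ ∈ sl2CuspSet F, (D.N1 χ + D.N2 χ) ^ 2 := by
      rw [Finset.sum_congr rfl (fun χ hχ => by rw [D.cusp_deg hodd hχ r hr]), Finset.mul_sum]
      apply Finset.sum_congr rfl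
      intro χ _
      ring
    rw [hT3, hC3] at h
    have e1 : (2 * r + 3 + 1) / 2 = r + 2 := by omega
    have e2 : (2 * r + 3) ^ 2 - 1 = 4 * r ^ 2 + 12 * r + 8 := by
      rw [Nat.sub_eq_iff_eq_add (by nlinarith)]; ring
    rw [e1, e2] at h
    set X := ∑ χ ∈ sl2CuspSet F, (D.N1 χ + D.N2 χ) ^ 2
    have h3 : (r + 1) ^ 2 * X = (r + 1) ^ 2 * (4 * r + 6) := by nlinarith
    exact Nat.eq_of_mul_eq_mul_left (by positivity) h3

/-- On cuspidal characters the multiplicities are `(1,1)`, `(1,0)` or `(0,1)`. -/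
theorem cusp_types (hodd : Odd (Fintype.card F)) {χ : IrrCharacter (SL2 F)} (hχ : χ ∈ sl2CuspSet F) :
    (D.N1 χ = 1 ∧ D.N2 χ = 1) ∨ (D.N1 χ = 1 ∧ D.N2 χ = 0) ∨ (D.N1 χ = 0 ∧ D.N2 χ = 1) := by
  classical
  obtain ⟨r, hr⟩ := odd_eq hodd
  obtain ⟨_, hC, h1, h2, h3⟩ := D.counting hodd r hr
  -- non-vanishing
  have hnz : ∀ χ ∈ sl2CuspSet F, D.N1 χ ≠ 0 ∨ D.N2 χ ≠ 0 := by
    intro χ hχ
    have hd := D.cusp_deg hodd hχ r hr
    have hpos := irrDeg_pos χ
    by_contra hc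
    push Not at hc
    rw [hc.1, hc.2] at hd
    simp at hd
    omega
  have hle : ∀ χ ∈ sl2CuspSet F, D.N1 χ * D.N2 χ + 1 ≤ D.N1 χ ^ 2 + D.N2 χ ^ 2 := by
    intro χ hχ
    rcases hnz χ hχ with h | h
    · nlinarith [sq_nonneg ((D.N1 χ : ℤ) - D.N2 χ), Nat.one_le_iff_ne_zero.mpr h, Nat.zero_le (D.N2 χ), sq_nonneg (D.N2 χ), Nat.mul_self_le_mul_self (Nat.one_le_iff_ne_zero.mpr h)]
    · nlinarith [sq_nonneg ((D.N1 χ : ℤ) - D.N2 χ), Nat.one_le_iff_ne_zero.mpr h, Nat.zero_le (D.N1 χ), sq_nonneg (D.N1 χ), Nat.mul_self_le_mul_self (Nat.one_le_iff_ne_zero.mpr h)]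
  have hsum : ∑ χ ∈ sl2CuspSet F, (D.N1 χ * D.N2 χ + 1) = ∑ χ ∈ sl2CuspSet F, (D.N1 χ ^ 2 + D.N2 χ ^ 2) := by
    rw [Finset.sum_add_distrib, Finset.sum_add_distrib, h1, h2]
    simp only [Finset.sum_const, smul_eq_mul, mul_one, hC]
    have h4 : ∑ χ ∈ sl2CuspSet F, (D.N1 χ + D.N2 χ) ^ 2 =
        ∑ χ ∈ sl2CuspSet F, D.N1 χ ^ 2 + ∑ χ ∈ sl2CuspSet F, D.N2 χ ^ 2 + 2 * ∑ χ ∈ sl2CuspSet F, D.N1 χ * D.N2 χ := by
      rw [Finset.mul_sum, ← Finset.sum_add_distrib, ← Finset.sum_add_distrib]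
      apply Finset.sum_congr rfl
      intro χ _
      ring
    rw [h3, h1, h2] at h4
    omega
  have heq := (Finset.sum_eq_sum_iff_of_le hle).mp hsum χ hχ
  have hn := hnz χ hχ
  set a := D.N1 χ
  set b := D.N2 χ
  by_cases ha : a = 0
  · rw [ha] at heq
    have hb : b = 1 := by nlinarith [sq_nonneg (b : ℤ)]
    exact Or.inr (Or.inr ⟨ha, hb⟩)
  · by_cases hb : b = 0
    · rw [hb] at heq
      have ha1 : a = 1 := by nlinarith
      exact Or.inr (Or.inl ⟨ha1, hb⟩)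
    · left
      have h5 : 1 ≤ a := Nat.one_le_iff_ne_zero.mpr ha
      have h6 : 1 ≤ b := Nat.one_le_iff_ne_zero.mpr hb
      have h7 : a = 1 ∧ b = 1 := by
        constructor <;> nlinarith [sq_nonneg ((a : ℤ) - b), mul_self_nonneg ((a : ℤ) - 1), mul_self_nonneg ((b : ℤ) - 1)]
      exact h7

end SL2OddData

end Cfsg.Agent.Lib.Known
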