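import Mathlib
import Cfsg.Agent.Lib.Known.SL2IrrOdd2

set_option autoImplicit false

namespace Cfsg.Agent.Lib.Known

open Cfsg Cfsg.Agent.Lib.Char
open scoped ComplexConjugate

variable {F : Type*} [Field F] [Fintype F] [DecidableEq F]

namespace SL2OddData

variable (D : SL2OddData F)

open scoped _root_.Classical in
/-- Cuspidal characters of type `(1,1)`. -/
noncomputable def C11 : Finset (IrrCharacter (SL2 F)) :=
  (sl2CuspSet F).filter (fun χ => D.N1 χ = 1 ∧ D.N2 χ = 1)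

open scoped _root_.Classical in
/-- Cuspidal characters of type `(1,0)`. -/
noncomputable def C10 : Finset (IrrCharacter (SL2 F)) :=
  (sl2CuspSet F).filter (fun χ => D.N1 χ = 1 ∧ D.N2 χ = 0)

open scoped _root_.Classical in
/-- Cuspidal characters of type `(0,1)`. -/
noncomputable def C01 : Finset (IrrCharacter (SL2 F)) :=
  (sl2CuspSet F).filter (fun χ => D.N1 χ = 0 ∧ D.N2 χ = 1)

theorem card_cusp_types (hodd : Odd (Fintype.card F)) (r : ℕ) (hr : Fintype.card F = 2 * r + 3) :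
    D.C11.card = r + 1 ∧ D.C10.card = 1 ∧ D.C01.card = 1 := by
  classical
  obtain ⟨_, hC, h1, h2, _⟩ := D.counting hodd r hr
  have hA : ((sl2CuspSet F).filter (fun χ => D.N1 χ = 1)).card = r + 2 := by
    rw [← h1, Finset.card_filter]
    apply Finset.sum_congr rfl
    intro χ hχ
    rcases D.cusp_types hodd hχ with ⟨a, _⟩ | ⟨a, _⟩ | ⟨a, _⟩ <;> simp [a]
  have hB : ((sl2CuspSet F).filter (fun χ => D.N2 χ = 1)).card = r + 2 := by
    rw [← h2, Finset.card_filter]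
    apply Finset.sum_congr rfl
    intro χ hχ
    rcases D.cusp_types hodd hχ with ⟨_, a⟩ | ⟨_, a⟩ | ⟨_, a⟩ <;> simp [a]
  have hU : ((sl2CuspSet F).filter (fun χ => D.N1 χ = 1)) ∪ ((sl2CuspSet F).filter (fun χ => D.N2 χ = 1)) = sl2CuspSet F := by
    ext χ
    simp only [Finset.mem_union, Finset.mem_filter]
    constructor
    · rintro (h | h) <;> exact h.1
    · intro hχ
      rcases D.cusp_types hodd hχ with ⟨a, b⟩ | ⟨a, b⟩ | ⟨a, b⟩
      · exact Or.inl ⟨hχ, a⟩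
      · exact Or.inl ⟨hχ, a⟩
      · exact Or.inr ⟨hχ, b⟩
  have hI : ((sl2CuspSet F).filter (fun χ => D.N1 χ = 1)) ∩ ((sl2CuspSet F).filter (fun χ => D.N2 χ = 1)) = D.C11 := by
    ext χ
    simp only [C11, Finset.mem_inter, Finset.mem_filter]
    tauto
  have h3 := Finset.card_union_add_card_inter ((sl2CuspSet F).filter (fun χ => D.N1 χ = 1)) ((sl2CuspSet F).filter (fun χ => D.N2 χ = 1))
  rw [hU, hI, hC, hA, hB] at h3
  have h11 : D.C11.card = r + 1 := by omega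
  have hA2 : ((sl2CuspSet F).filter (fun χ => D.N1 χ = 1)) = D.C11 ∪ D.C10 := by
    ext χ
    simp only [C11, C10, Finset.mem_union, Finset.mem_filter]
    constructor
    · rintro ⟨hχ, a⟩
      rcases D.cusp_types hodd hχ with ⟨a', b⟩ | ⟨a', b⟩ | ⟨a', b⟩
      · exact Or.inl ⟨hχ, a', b⟩
      · exact Or.inr ⟨hχ, a', b⟩
      · omega
    · rintro (⟨hχ, a, _⟩ | ⟨hχ, a, _⟩) <;> exact ⟨hχ, a⟩
  have hB2 : ((sl2CuspSet F).filter (fun χ => D.N2 χ = 1)) = D.C11 ∪ D.C01 := by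
    ext χ
    simp only [C11, C01, Finset.mem_union, Finset.mem_filter]
    constructor
    · rintro ⟨hχ, a⟩
      rcases D.cusp_types hodd hχ with ⟨a', b⟩ | ⟨a', b⟩ | ⟨a', b⟩
      · exact Or.inl ⟨hχ, a', b⟩
      · omega
      · exact Or.inr ⟨hχ, a', b⟩
    · rintro (⟨hχ, _, a⟩ | ⟨hχ, _, a⟩) <;> exact ⟨hχ, a⟩
  have dA : Disjoint D.C11 D.C10 := by
    rw [Finset.disjoint_left]
    intro χ h1 h2
    simp only [C11, C10, Finset.mem_filter] at h1 h2
    omega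
  have dB : Disjoint D.C11 D.C01 := by
    rw [Finset.disjoint_left]
    intro χ h1 h2
    simp only [C11, C01, Finset.mem_filter] at h1 h2
    omega
  rw [hA2, Finset.card_union_of_disjoint dA, h11] at hA
  rw [hB2, Finset.card_union_of_disjoint dB, h11] at hB
  exact ⟨h11, by omega, by omega⟩

theorem mem_C11_deg (hodd : Odd (Fintype.card F)) {χ : IrrCharacter (SL2 F)} (h : χ ∈ D.C11) (r : ℕ)
    (hr : Fintype.card F = 2 * r + 3) : irrDeg χ = 2 * r + 2 := by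
  simp only [C11, Finset.mem_filter] at h
  rw [D.cusp_deg hodd h.1 r hr, h.2.1, h.2.2]
  ring

theorem mem_C10_deg (hodd : Odd (Fintype.card F)) {χ : IrrCharacter (SL2 F)} (h : χ ∈ D.C10) (r : ℕ)
    (hr : Fintype.card F = 2 * r + 3) : irrDeg χ = r + 1 := by
  simp only [C10, Finset.mem_filter] at h
  rw [D.cusp_deg hodd h.1 r hr, h.2.1, h.2.2]
  ring

theorem mem_C01_deg (hodd : Odd (Fintype.card F)) {χ : IrrCharacter (SL2 F)} (h : χ ∈ D.C01) (r : ℕ)
    (hr : Fintype.card F = 2 * r + 3) : irrDeg χ = r + 1 := by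
  simp only [C01, Finset.mem_filter] at h
  rw [D.cusp_deg hodd h.1 r hr, h.2.1, h.2.2]
  ring

/-- The complete table. -/
theorem table (hodd : Odd (Fintype.card F)) (χ : IrrCharacter (SL2 F)) :
    χ = o F ∨ χ = s F ∨ χ ∈ indSet F ∨ χ = D.x₁ ∨ χ = D.x₂ ∨ χ ∈ D.C11 ∨ χ ∈ D.C10 ∨ χ ∈ D.C01 := by
  classical
  rcases D.irr_cases hodd χ.2 with h | h | h | h | h | h
  · exact Or.inl (Subtype.ext h)
  · exact Or.inr (Or.inl (Subtype.ext h))
  · exact Or.inr (Or.inr (Or.inl (mem_indSet.mpr h)))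
  · exact Or.inr (Or.inr (Or.inr (Or.inl (Subtype.ext h))))
  · exact Or.inr (Or.inr (Or.inr (Or.inr (Or.inl (Subtype.ext h)))))
  · have hmem : χ ∈ sl2CuspSet F := by simp [sl2CuspSet, h]
    rcases D.cusp_types hodd hmem with h1 | h1 | h1
    · refine Or.inr (Or.inr (Or.inr (Or.inr (Or.inr (Or.inl ?_)))))
      simp [C11, hmem, h1]
    · refine Or.inr (Or.inr (Or.inr (Or.inr (Or.inr (Or.inr (Or.inl ?_))))))
      simp [C10, hmem, h1]
    · refine Or.inr (Or.inr (Or.inr (Or.inr (Or.inr (Or.inr (Or.inr ?_))))))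
      simp [C01, hmem, h1]

theorem irrDeg_cases (hodd : Odd (Fintype.card F)) (r : ℕ) (hr : Fintype.card F = 2 * r + 3) (χ : IrrCharacter (SL2 F)) :
    (χ = o F ∧ irrDeg χ = 1) ∨ (χ = s F ∧ irrDeg χ = 2 * r + 3) ∨ (χ ∈ indSet F ∧ irrDeg χ = 2 * r + 4) ∨
    ((χ = D.x₁ ∨ χ = D.x₂) ∧ irrDeg χ = r + 2) ∨ (χ ∈ D.C11 ∧ irrDeg χ = 2 * r + 2) ∨
    ((χ ∈ D.C10 ∨ χ ∈ D.C01) ∧ irrDeg χ = r + 1) := by
  have e1 : (2 * r + 3 + 1) / 2 = r + 2 := by omega
  rcases D.table hodd χ with h | h | h | h | h | h | h | h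
  · subst h; exact Or.inl ⟨rfl, irrDeg_o⟩
  · subst h; exact Or.inr (Or.inl ⟨rfl, by rw [irrDeg_s, hr]⟩)
  · exact Or.inr (Or.inr (Or.inl ⟨h, by rw [irrDeg_ind h, hr]⟩))
  · subst h; exact Or.inr (Or.inr (Or.inr (Or.inl ⟨Or.inl rfl, by rw [D.irrDeg_x₁ hodd, hr, e1]⟩)))
  · subst h; exact Or.inr (Or.inr (Or.inr (Or.inl ⟨Or.inr rfl, by rw [D.irrDeg_x₂ hodd, hr, e1]⟩)))
  · exact Or.inr (Or.inr (Or.inr (Or.inr (Or.inl ⟨h, D.mem_C11_deg hodd h r hr⟩))))
  · exact Or.inr (Or.inr (Or.inr (Or.inr (Or.inr ⟨Or.inl h, D.mem_C10_deg hodd h r hr⟩))))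
  · exact Or.inr (Or.inr (Or.inr (Or.inr (Or.inr ⟨Or.inr h, D.mem_C01_deg hodd h r hr⟩))))

end SL2OddData

/-- Cardinality of the set of characters with a given value at `1`. -/
theorem card_filter_deg {G : Type*} [Group G] (S : Finset (IrrCharacter G)) (n : ℕ) (c : ℂ) (hc : c = (n : ℂ))
    (h : ∀ χ : IrrCharacter G, χ ∈ S ↔ irrDeg χ = n) :
    Nat.card {χ : IrrCharacter G // (χ : G → ℂ) 1 = c} = S.card := by
  classical
  rw [Nat.subtype_card S]
  intro χ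
  rw [h χ, hc, irrDeg_eq_iff]

end Cfsg.Agent.Lib.Known
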