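import Mathlib
import Cfsg.Agent.Lib.Known.SL2IrrOdd3

set_option autoImplicit false

namespace Cfsg.Agent.Lib.Known

open Cfsg Cfsg.Agent.Lib.Char
open scoped ComplexConjugate

variable {F : Type*} [Field F] [Fintype F] [DecidableEq F]

/-! ## Steinberg values -/

theorem sl2St_regular (a : Fˣ) (ha : (a : F) ^ 2 ≠ 1) : sl2St F (sl2BorelMk a 0) = 1 := by
  simp only [sl2St, Pi.sub_apply, sl2Ind_regular _ a ha, sl2One]
  rw [MulChar.one_apply_coe, MulChar.one_apply_coe]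
  simp

theorem sl2St_no_eigenvector (g : SL2 F)
    (hno : ∀ (c : F) (v : Fin 2 → F), v ≠ 0 → (g : Matrix (Fin 2) (Fin 2) F).mulVec v ≠ c • v) :
    sl2St F g = -1 := by
  simp [sl2St, sl2Ind_no_eigenvector _ g hno, sl2One]

theorem sl2Ind_trans (α : MulChar F ℂ) (g : SL2 F) (h10 : (g : Matrix (Fin 2) (Fin 2) F) 1 0 = 0)
    (h00 : (g : Matrix (Fin 2) (Fin 2) F) 0 0 = (g : Matrix (Fin 2) (Fin 2) F) 1 1)
    (h01 : (g : Matrix (Fin 2) (Fin 2) F) 0 1 ≠ 0) :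
    sl2Ind α g = α ((g : Matrix (Fin 2) (Fin 2) F) 0 0) := by
  classical
  unfold sl2Ind
  rw [indFun_sl2_apply, Fintype.sum_option]
  have h1 : sl2Fix g none := h10
  have h2 : ∀ t : F, ¬ sl2Fix g (some t) := by
    intro t h
    simp only [sl2Fix, h10, h00] at h
    apply h01
    linear_combination -h
  rw [if_pos h1]
  simp [h2, sl2Val]

theorem sl2St_trans (g : SL2 F) (h10 : (g : Matrix (Fin 2) (Fin 2) F) 1 0 = 0)
    (h00 : (g : Matrix (Fin 2) (Fin 2) F) 0 0 = (g : Matrix (Fin 2) (Fin 2) F) 1 1)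
    (h01 : (g : Matrix (Fin 2) (Fin 2) F) 0 1 ≠ 0) : sl2St F g = 0 := by
  have hd := sl2_det g
  rw [h10] at hd
  have h0 : (g : Matrix (Fin 2) (Fin 2) F) 0 0 ≠ 0 := by
    intro h
    rw [h] at hd
    simp at hd
  simp only [sl2St, Pi.sub_apply, sl2Ind_trans _ g h10 h00 h01, sl2One]
  rw [MulChar.one_apply (isUnit_iff_ne_zero.mpr h0)]
  simp

theorem sl2_char_parity_or : Odd (Fintype.card F) ∨ ringChar F = 2 := by
  rcases Nat.even_or_odd (Fintype.card F) with h | h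
  · right
    rw [FiniteField.even_card_iff_char_two]
    exact Nat.even_iff.mp h
  · exact Or.inl h

/-- An irreducible character of degree `q` is the Steinberg character. -/
theorem sl2_eq_St_of_deg {χ : SL2 F → ℂ} (hχ : IsIrrCharacter (SL2 F) χ) (h : χ 1 = (Fintype.card F : ℂ)) :
    χ = sl2St F := by
  classical
  have hq2 : 2 ≤ Fintype.card F := Fintype.one_lt_card
  rcases sl2_char_parity_or (F := F) with hodd | hchar
  · obtain ⟨D⟩ := exists_SL2OddData (F := F) hodd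
    obtain ⟨r, hr⟩ := SL2OddData.odd_eq (F := F) hodd
    have hdeg : irrDeg (⟨χ, hχ⟩ : IrrCharacter (SL2 F)) = 2 * r + 3 := by
      rw [irrDeg_eq_iff, ← hr]
      exact h
    rcases D.irrDeg_cases hodd r hr ⟨χ, hχ⟩ with ⟨_, h1⟩ | ⟨h1, _⟩ | ⟨_, h1⟩ | ⟨_, h1⟩ | ⟨_, h1⟩ | ⟨_, h1⟩
    · omega
    · exact congrArg Subtype.val h1
    all_goals omega
  · haveI : CharP F 2 := ringChar.of_eq hchar
    rcases sl2_irr_cases_even' hχ with h1 | h1 | ⟨α, _, h1⟩ | ⟨_, h1⟩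
    · rw [h1, sl2One_apply_one] at h
      have : Fintype.card F = 1 := by exact_mod_cast h.symm
      omega
    · exact h1
    · rw [h1, sl2Ind_apply_one] at h
      exfalso
      apply one_ne_zero (α := ℂ)
      linear_combination h
    · rw [h1] at h
      exfalso
      apply one_ne_zero (α := ℂ)
      linear_combination -h

/-- An irreducible character of degree `q + 1` is induced. -/
theorem sl2_eq_Ind_of_deg {χ : SL2 F → ℂ} (hχ : IsIrrCharacter (SL2 F) χ) (h : χ 1 = (Fintype.card F : ℂ) + 1) :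
    ∃ α : MulChar F ℂ, χ = sl2Ind α := by
  classical
  have hq2 : 2 ≤ Fintype.card F := Fintype.one_lt_card
  rcases sl2_char_parity_or (F := F) with hodd | hchar
  · obtain ⟨D⟩ := exists_SL2OddData (F := F) hodd
    obtain ⟨r, hr⟩ := SL2OddData.odd_eq (F := F) hodd
    have hdeg : irrDeg (⟨χ, hχ⟩ : IrrCharacter (SL2 F)) = 2 * r + 4 := by
      rw [irrDeg_eq_iff]
      change χ 1 = _
      rw [h, hr]
      push_cast
      ring
    rcases D.irrDeg_cases hodd r hr ⟨χ, hχ⟩ with ⟨_, h1⟩ | ⟨_, h1⟩ | ⟨h1, _⟩ | ⟨_, h1⟩ | ⟨_, h1⟩ | ⟨_, h1⟩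
    · omega
    · omega
    · obtain ⟨α, _, h2⟩ := SL2OddData.mem_indSet.mp h1
      exact ⟨α, h2⟩
    all_goals omega
  · haveI : CharP F 2 := ringChar.of_eq hchar
    rcases sl2_irr_cases_even' hχ with h1 | h1 | ⟨α, _, h1⟩ | ⟨_, h1⟩
    · rw [h1, sl2One_apply_one] at h
      exfalso
      apply card_ne_zero_complex (F := F)
      linear_combination -h
    · rw [h1, sl2St_apply_one] at h
      exfalso
      apply one_ne_zero (α := ℂ)
      linear_combination -h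
    · exact ⟨α, h1⟩
    · rw [h1] at h
      exfalso
      have : (2 : ℂ) = 0 := by linear_combination -h
      norm_num at this

namespace SL2OddData

variable (D : SL2OddData F)

theorem irrDeg_of_apply_one {χ : SL2 F → ℂ} (hχ : IsIrrCharacter (SL2 F) χ) {n : ℕ} {c : ℂ} (hc : c = n)
    (h : χ 1 = c) : irrDeg (⟨χ, hχ⟩ : IrrCharacter (SL2 F)) = n := by
  rw [irrDeg_eq_iff]
  change χ 1 = _
  rw [h, hc]

theorem deg_half_plus (hodd : Odd (Fintype.card F)) (hq : 5 ≤ Fintype.card F) {χ : SL2 F → ℂ} (hχ : IsIrrCharacter (SL2 F) χ)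
    (h : χ 1 = (((Fintype.card F + 1) / 2 : ℕ) : ℂ)) : χ = D.ξ₁ ∨ χ = D.ξ₂ := by
  obtain ⟨r, hr⟩ := odd_eq (F := F) hodd
  have e1 : (Fintype.card F + 1) / 2 = r + 2 := by omega
  rw [e1] at h
  have hdeg := irrDeg_of_apply_one hχ rfl h
  rcases D.irrDeg_cases hodd r hr ⟨χ, hχ⟩ with ⟨_, h1⟩ | ⟨_, h1⟩ | ⟨_, h1⟩ | ⟨h1, _⟩ | ⟨_, h1⟩ | ⟨_, h1⟩
  · omega
  · omega
  · omega
  · exact h1.imp (congrArg Subtype.val) (congrArg Subtype.val)
  all_goals omega

theorem deg_half_minus (hodd : Odd (Fintype.card F)) (hq : 5 ≤ Fintype.card F) {χ : SL2 F → ℂ} (hχ : IsIrrCharacter (SL2 F) χ)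
    (h : χ 1 = (((Fintype.card F - 1) / 2 : ℕ) : ℂ)) : (⟨χ, hχ⟩ : IrrCharacter (SL2 F)) ∈ D.C10 ∨ (⟨χ, hχ⟩ : IrrCharacter (SL2 F)) ∈ D.C01 := by
  obtain ⟨r, hr⟩ := odd_eq (F := F) hodd
  have e1 : (Fintype.card F - 1) / 2 = r + 1 := by omega
  rw [e1] at h
  have hdeg := irrDeg_of_apply_one hχ rfl h
  rcases D.irrDeg_cases hodd r hr ⟨χ, hχ⟩ with ⟨_, h1⟩ | ⟨_, h1⟩ | ⟨_, h1⟩ | ⟨_, h1⟩ | ⟨_, h1⟩ | ⟨h1, _⟩
  · omega
  · omega
  · omega
  · omega
  · omega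
  · exact h1

theorem deg_sub_one (hodd : Odd (Fintype.card F)) (hq : 5 ≤ Fintype.card F) {χ : SL2 F → ℂ} (hχ : IsIrrCharacter (SL2 F) χ)
    (h : χ 1 = (Fintype.card F : ℂ) - 1) : (⟨χ, hχ⟩ : IrrCharacter (SL2 F)) ∈ D.C11 := by
  obtain ⟨r, hr⟩ := odd_eq (F := F) hodd
  have hc : (Fintype.card F : ℂ) - 1 = ((2 * r + 2 : ℕ) : ℂ) := by
    rw [hr]
    push_cast
    ring
  have hdeg := irrDeg_of_apply_one hχ hc h
  rcases D.irrDeg_cases hodd r hr ⟨χ, hχ⟩ with ⟨_, h1⟩ | ⟨_, h1⟩ | ⟨_, h1⟩ | ⟨_, h1⟩ | ⟨h1, _⟩ | ⟨_, h1⟩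
  · omega
  · omega
  · omega
  · omega
  · exact h1
  · omega

theorem mem_cusp_of_C11 {χ : IrrCharacter (SL2 F)} (h : χ ∈ D.C11) : sl2Cusp (χ : SL2 F → ℂ) := by
  simp only [C11, Finset.mem_filter] at h
  simpa [sl2CuspSet] using h.1

theorem mem_cusp_of_C10 {χ : IrrCharacter (SL2 F)} (h : χ ∈ D.C10) : sl2Cusp (χ : SL2 F → ℂ) := by
  simp only [C10, Finset.mem_filter] at h
  simpa [sl2CuspSet] using h.1

theorem mem_cusp_of_C01 {χ : IrrCharacter (SL2 F)} (h : χ ∈ D.C01) : sl2Cusp (χ : SL2 F → ℂ) := by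
  simp only [C01, Finset.mem_filter] at h
  simpa [sl2CuspSet] using h.1

end SL2OddData

/-! ## Values on the unipotent subgroup -/

/-- The quadratic Gauss sum. -/
noncomputable def quadGauss (φ : AddChar F ℂ) : ℂ := ∑ u : Fˣ, quadC F (u : F) * φ (u : F)

theorem sum_units_addChar (φ : AddChar F ℂ) (hφ : φ ≠ 1) : ∑ u : Fˣ, φ (u : F) = -1 := by
  classical
  have h := sum_field_split (fun v => φ v)
  rw [AddChar.sum_eq_zero_of_ne_one hφ] at h
  simp only [AddChar.map_zero_eq_one] at h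
  linear_combination -h

theorem sl2_U_value (hodd : Odd (Fintype.card F)) (φ : AddChar F ℂ) (hφ : φ ≠ 1) {χ : SL2 F → ℂ}
    (hχ : IsClassFunction (SL2 F) χ) {ε : Fˣ} (hε : ¬ IsSquare (ε : F)) :
    χ (sl2U 1) = sl2Mult φ χ 0 - (sl2Mult φ χ 1 + sl2Mult φ χ ε) / 2 +
      (sl2Mult φ χ 1 - sl2Mult φ χ ε) / 2 * quadGauss φ := by
  classical
  rw [← sum_sl2Mult_mul φ hφ χ 1, sum_field_split]
  simp only [zero_mul, AddChar.map_zero_eq_one, mul_one]
  have h1 : ∀ u : Fˣ, sl2Mult φ χ (u : F) * φ (u : F) =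
      (sl2Mult φ χ 1 + sl2Mult φ χ ε) / 2 * φ (u : F) + (sl2Mult φ χ 1 - sl2Mult φ χ ε) / 2 * (quadC F (u : F) * φ (u : F)) := by
    intro u
    by_cases hs : IsSquare (u : F)
    · rw [sl2Mult_of_isSquare φ hχ hs, quadC_of_isSquare u.ne_zero hs]
      ring
    · rw [sl2Mult_of_not_isSquare hodd φ hχ hε hs, quadC_of_not_isSquare hs]
      ring
  rw [Finset.sum_congr rfl (fun u _ => h1 u), Finset.sum_add_distrib, ← Finset.mul_sum, ← Finset.mul_sum,
    sum_units_addChar φ hφ]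
  unfold quadGauss
  ring

theorem quadC_neg_one (hodd : Odd (Fintype.card F)) : quadC F (-1) = (-1 : ℂ) ^ ((Fintype.card F - 1) / 2) := by
  have hF := ringChar_ne_two_of_odd hodd
  rw [quadC_apply, quadraticChar_eq_pow_of_char_ne_two hF (neg_ne_zero.mpr one_ne_zero)]
  have e : Fintype.card F / 2 = (Fintype.card F - 1) / 2 := by
    obtain ⟨k, hk⟩ := hodd
    omega
  rw [e]
  rcases Nat.even_or_odd ((Fintype.card F - 1) / 2) with h | h
  · simp [Even.neg_one_pow h]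
  · simp [Odd.neg_one_pow h, Ring.neg_one_ne_one_of_char_ne_two hF]

theorem quadGauss_sq (hodd : Odd (Fintype.card F)) (φ : AddChar F ℂ) (hφ : φ ≠ 1) :
    quadGauss φ ^ 2 = (-1 : ℂ) ^ ((Fintype.card F - 1) / 2) * (Fintype.card F : ℂ) := by
  have h1 : quadGauss φ = gaussSum (quadC F) φ := by
    unfold quadGauss gaussSum
    rw [sum_units_eq_sum (fun a => quadC F a * φ a)]
    have h0 : quadC F 0 = 0 := MulChar.map_nonunit _ not_isUnit_zero
    simp [h0]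
  have hq : (quadC F).IsQuadratic := (quadraticChar_isQuadratic F).comp _
  rw [h1, gaussSum_sq (quadC_ne_one hodd) hq (AddChar.IsPrimitive.of_ne_one hφ), quadC_neg_one hodd]

namespace SL2OddData

variable (D : SL2OddData F)

theorem sl2Mult_zero_x₁ (hodd : Odd (Fintype.card F)) : sl2Mult D.φ D.ξ₁ 0 = 1 := by
  have h := sl2Mult_degree hodd D.φ D.hφ (IsCharacter.isClassFunction (IsIrrCharacter.isCharacter D.irr₁)) D.hε
  rw [D.m11, D.m12] at h
  have h2 := D.two_mul_apply_one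
  rw [h] at h2
  linear_combination h2 / 2

theorem sl2Mult_zero_x₂ (hodd : Odd (Fintype.card F)) : sl2Mult D.φ D.ξ₂ 0 = 1 := by
  have h := sl2Mult_degree hodd D.φ D.hφ (IsCharacter.isClassFunction (IsIrrCharacter.isCharacter D.irr₂)) D.hε
  rw [D.m21, D.m22] at h
  have h2 := D.two_mul_apply_one
  rw [← D.apply_one_eq, h] at h2
  linear_combination h2 / 2

theorem value_x₁ (hodd : Odd (Fintype.card F)) : D.ξ₁ (sl2U 1) = (1 + quadGauss D.φ) / 2 := by
  rw [sl2_U_value hodd D.φ D.hφ (IsCharacter.isClassFunction (IsIrrCharacter.isCharacter D.irr₁)) D.hε,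
    D.sl2Mult_zero_x₁ hodd, D.m11, D.m12]
  ring

theorem value_x₂ (hodd : Odd (Fintype.card F)) : D.ξ₂ (sl2U 1) = (1 - quadGauss D.φ) / 2 := by
  rw [sl2_U_value hodd D.φ D.hφ (IsCharacter.isClassFunction (IsIrrCharacter.isCharacter D.irr₂)) D.hε,
    D.sl2Mult_zero_x₂ hodd, D.m21, D.m22]
  ring

theorem value_C11 (hodd : Odd (Fintype.card F)) {χ : IrrCharacter (SL2 F)} (h : χ ∈ D.C11) :
    (χ : SL2 F → ℂ) (sl2U 1) = -1 := by
  have hcl := IsCharacter.isClassFunction (IsIrrCharacter.isCharacter χ.2)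
  rw [sl2_U_value hodd D.φ D.hφ hcl D.hε, sl2Mult_cusp_zero D.φ hcl (D.mem_cusp_of_C11 h), D.N1_eq, D.N2_eq]
  simp only [C11, Finset.mem_filter] at h
  rw [h.2.1, h.2.2]
  push_cast
  ring

theorem value_C10 (hodd : Odd (Fintype.card F)) {χ : IrrCharacter (SL2 F)} (h : χ ∈ D.C10) :
    (χ : SL2 F → ℂ) (sl2U 1) = (-1 + quadGauss D.φ) / 2 := by
  have hcl := IsCharacter.isClassFunction (IsIrrCharacter.isCharacter χ.2)
  rw [sl2_U_value hodd D.φ D.hφ hcl D.hε, sl2Mult_cusp_zero D.φ hcl (D.mem_cusp_of_C10 h), D.N1_eq, D.N2_eq]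
  simp only [C10, Finset.mem_filter] at h
  rw [h.2.1, h.2.2]
  push_cast
  ring

theorem value_C01 (hodd : Odd (Fintype.card F)) {χ : IrrCharacter (SL2 F)} (h : χ ∈ D.C01) :
    (χ : SL2 F → ℂ) (sl2U 1) = (-1 - quadGauss D.φ) / 2 := by
  have hcl := IsCharacter.isClassFunction (IsIrrCharacter.isCharacter χ.2)
  rw [sl2_U_value hodd D.φ D.hφ hcl D.hε, sl2Mult_cusp_zero D.φ hcl (D.mem_cusp_of_C01 h), D.N1_eq, D.N2_eq]
  simp only [C01, Finset.mem_filter] at h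
  rw [h.2.1, h.2.2]
  push_cast
  ring

end SL2OddData

/-- A sum over `U` as a sum over a subset of `SL₂`. -/
theorem sum_sl2_ite_U (f : SL2 F → ℂ) :
    (∑ g : SL2 F, if (g : Matrix (Fin 2) (Fin 2) F) 1 0 = 0 ∧ (g : Matrix (Fin 2) (Fin 2) F) 0 0 = 1 ∧ (g : Matrix (Fin 2) (Fin 2) F) 1 1 = 1 then f g else 0) =
      ∑ v : F, f (sl2U v) := by
  classical
  rw [← Finset.sum_filter]
  symm
  refine Finset.sum_bij (fun v _ => sl2U v) ?_ ?_ ?_ ?_
  · intro v _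
    simp
  · intro a _ b _ h
    exact sl2U_injective h
  · intro g hg
    simp only [Finset.mem_filter, Finset.mem_univ, true_and] at hg
    refine ⟨(g : Matrix (Fin 2) (Fin 2) F) 0 1, Finset.mem_univ _, ?_⟩
    apply sl2_ext <;> simp [hg.1, hg.2.1, hg.2.2]
  · intro _ _; rfl

theorem sum_U_eq_mul_sl2Mult (φ : AddChar F ℂ) (χ : SL2 F → ℂ) :
    ∑ v : F, χ (sl2U v) = (Fintype.card F : ℂ) * sl2Mult φ χ 0 := by
  have hq := card_ne_zero_complex (F := F)
  simp only [sl2Mult, zero_mul, AddChar.map_zero_eq_one, map_one, mul_one]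
  field_simp

end Cfsg.Agent.Lib.Known
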