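import Mathlib
import Cfsg.Agent.Lib.Known.NonSplit

set_option autoImplicit false

/-! Tori of `SL₂(F)` and their normalizers, `q` odd. -/

namespace Cfsg.Agent.Lib.Known

open Matrix

variable {F : Type*} [Field F]

theorem sl2M1_ne_one (h2 : (2 : F) ≠ 0) : sl2M1 F ≠ 1 := by
  intro h
  have h1 := congrArg (fun z : SL2 F => (z : Matrix (Fin 2) (Fin 2) F) 0 0) h
  simp [sl2M1] at h1
  apply h2
  linear_combination -h1

theorem sl2M1_mul_self : sl2M1 F * sl2M1 F = 1 := by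
  apply sl2_ext <;> simp [sl2M1, sl2_mul_apply]

theorem sl2M1_comm (x : SL2 F) : sl2M1 F * x = x * sl2M1 F := by
  apply sl2_ext <;> simp [sl2M1, sl2_mul_apply]

theorem sl2_eq_M1 {a : SL2 F} (h : (a : Matrix (Fin 2) (Fin 2) F) = -1) : a = sl2M1 F :=
  Subtype.ext (by rw [h, sl2M1_coe])

theorem sl2_sq_one_odd (h2 : (2 : F) ≠ 0) {c : SL2 F} (h : c * c = 1) : c = 1 ∨ c = sl2M1 F := by
  have hsq := sl2_sq c
  have h1 : (c : Matrix (Fin 2) (Fin 2) F) * (c : Matrix (Fin 2) (Fin 2) F) = 1 := by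
    rw [← sl2_mul_coe, h]
    rfl
  rw [h1] at hsq
  have e01 := congrFun (congrFun hsq 0) 1
  have e10 := congrFun (congrFun hsq 1) 0
  have e00 := congrFun (congrFun hsq 0) 0
  have e11 := congrFun (congrFun hsq 1) 1
  simp at e01 e10 e00 e11
  have ht : sl2Tr c ≠ 0 := by
    intro ht
    rw [ht] at e00
    apply h2
    simp at e00
    linear_combination e00
  have hc01 : (c : Matrix (Fin 2) (Fin 2) F) 0 1 = 0 := by
    rcases e01 with h | h
    · exact absurd h ht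
    · exact h
  have hc10 : (c : Matrix (Fin 2) (Fin 2) F) 1 0 = 0 := by
    rcases e10 with h | h
    · exact absurd h ht
    · exact h
  have hd := sl2_det c
  rw [hc01, zero_mul, sub_zero] at hd
  have heq : (c : Matrix (Fin 2) (Fin 2) F) 0 0 = (c : Matrix (Fin 2) (Fin 2) F) 1 1 := by
    have : sl2Tr c * ((c : Matrix (Fin 2) (Fin 2) F) 0 0 - (c : Matrix (Fin 2) (Fin 2) F) 1 1) = 0 := by
      linear_combination e11 - e00
    rcases mul_eq_zero.mp this with h | h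
    · exact absurd h ht
    · exact sub_eq_zero.mp h
  rw [← heq] at hd
  have hone : ((c : Matrix (Fin 2) (Fin 2) F) 0 0 - 1) * ((c : Matrix (Fin 2) (Fin 2) F) 0 0 + 1) = 0 := by
    linear_combination hd
  rcases mul_eq_zero.mp hone with h3 | h3
  · left
    have h4 : (c : Matrix (Fin 2) (Fin 2) F) 0 0 = 1 := sub_eq_zero.mp h3
    apply sl2_ext <;> simp [hc01, hc10, ← heq, h4]
  · right
    have h4 : (c : Matrix (Fin 2) (Fin 2) F) 0 0 = -1 := by linear_combination h3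
    apply sl2_ext <;> simp [sl2M1, hc01, hc10, ← heq, h4]

/-! ### The non-split torus -/

theorem centralizer_comm {g a b : SL2 F} (hg : sl2NoEig g) (ha : a ∈ Subgroup.centralizer ({g} : Set (SL2 F)))
    (hb : b ∈ Subgroup.centralizer ({g} : Set (SL2 F))) : a * b = b * a := by
  haveI : Fact (∀ r : F, r ^ 2 ≠ -1 + sl2Tr g * r) := ⟨(sl2NoEig_iff g).mp hg⟩
  rw [← sl2TorMap_range g] at ha hb
  obtain ⟨u, rfl⟩ := ha
  obtain ⟨v, rfl⟩ := hb
  rw [← map_mul, ← map_mul, mul_comm]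

theorem noEig_inv_of_conj {g w a : SL2 F} (hg : sl2NoEig g) (hw : w * g * w⁻¹ = g⁻¹)
    (ha : a ∈ Subgroup.centralizer ({g} : Set (SL2 F))) : w * a * w⁻¹ = a⁻¹ := by
  obtain ⟨x, y, h⟩ := (mem_centralizer_noEig_iff hg a).mp ha
  apply Subtype.ext
  change (w : Matrix (Fin 2) (Fin 2) F) * (a : Matrix (Fin 2) (Fin 2) F) * ((w⁻¹ : SL2 F) : Matrix (Fin 2) (Fin 2) F) = ((a⁻¹ : SL2 F) : Matrix (Fin 2) (Fin 2) F)
  have hw1 : (w : Matrix (Fin 2) (Fin 2) F) * ((w⁻¹ : SL2 F) : Matrix (Fin 2) (Fin 2) F) = 1 := by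
    rw [← sl2_mul_coe, mul_inv_cancel]
    rfl
  have hw2 : (w : Matrix (Fin 2) (Fin 2) F) * (g : Matrix (Fin 2) (Fin 2) F) * ((w⁻¹ : SL2 F) : Matrix (Fin 2) (Fin 2) F) =
      sl2Tr g • (1 : Matrix (Fin 2) (Fin 2) F) - (g : Matrix (Fin 2) (Fin 2) F) := by
    rw [← sl2_inv_coe, ← hw]
    rfl
  rw [sl2_inv_coe a, sl2Tr_add_smul g h, h]
  simp only [mul_add, add_mul, Matrix.mul_smul, Matrix.smul_mul, mul_one, hw1, hw2]
  ext i j
  fin_cases i <;> fin_cases j <;> simp <;> ring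

theorem noEig_conj_eq_of_mem_normalizer [Fintype F] {g x : SL2 F} (hg : sl2NoEig g)
    (hx : x ∈ Subgroup.normalizer ((Subgroup.centralizer ({g} : Set (SL2 F)) : Subgroup (SL2 F)) : Set (SL2 F)))
    (hx' : x ∉ Subgroup.centralizer ({g} : Set (SL2 F))) : x * g * x⁻¹ = g⁻¹ := by
  have hg1 : g ∈ Subgroup.centralizer ({g} : Set (SL2 F)) := by
    rw [Subgroup.mem_centralizer_singleton_iff]
  have h1 := (Subgroup.mem_normalizer_iff.mp hx g).mp hg1
  have h2 : sl2Tr g = sl2Tr (x * g * x⁻¹) := by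
    simp only [sl2Tr]
    exact sl2_trace_of_isConj (isConj_iff.mpr ⟨x, rfl⟩)
  rcases eq_or_eq_inv_of_tr_eq hg hg1 h1 h2 with h3 | h3
  · exfalso
    apply hx'
    rw [Subgroup.mem_centralizer_singleton_iff]
    rw [mul_inv_eq_iff_eq_mul] at h3
    exact h3
  · exact h3

theorem exists_inverting [Fintype F] {g : SL2 F} (hg : sl2NoEig g) : ∃ w : SL2 F, w * g * w⁻¹ = g⁻¹ :=
  isConj_iff.mp (sl2NoEig_isConj hg (sl2_tr_inv g).symm)

/-- The structure of the normalizer of the non-split torus. -/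
theorem torusData_noEig [Fintype F] {g w : SL2 F} (h2 : (2 : F) ≠ 0) (hg : sl2NoEig g) (hw : w * g * w⁻¹ = g⁻¹) :
    TorusData (Subgroup.centralizer ({g} : Set (SL2 F))) w (sl2M1 F) := by
  have hg1 : g ∈ Subgroup.centralizer ({g} : Set (SL2 F)) := by
    rw [Subgroup.mem_centralizer_singleton_iff]
  have hz : sl2M1 F ∈ Subgroup.centralizer ({g} : Set (SL2 F)) := by
    rw [Subgroup.mem_centralizer_singleton_iff]
    exact sl2M1_comm g
  have hnot : w ∉ Subgroup.centralizer ({g} : Set (SL2 F)) := by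
    intro h
    rw [Subgroup.mem_centralizer_singleton_iff] at h
    apply noEig_sq_ne_one hg
    have h3 : w * g * w⁻¹ = g := by
      rw [h]
      simp
    rw [h3] at hw
    nth_rewrite 1 [hw]
    simp
  refine ⟨fun a ha b hb => centralizer_comm hg ha hb, hnot, fun a ha => noEig_inv_of_conj hg hw ha, ?_, hz,
    sl2M1_ne_one h2, ?_, sl2M1_mul_self, ?_⟩
  · intro x hx hx'
    have h3 := noEig_conj_eq_of_mem_normalizer hg hx hx'
    rw [Subgroup.mem_centralizer_singleton_iff]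
    have h4 : w⁻¹ * x * g * (w⁻¹ * x)⁻¹ = g := by
      have : w⁻¹ * x * g * (w⁻¹ * x)⁻¹ = w⁻¹ * (x * g * x⁻¹) * w := by group
      rw [this, h3]
      have h5 : w⁻¹ * (w * g * w⁻¹) * w = w⁻¹ * g⁻¹ * w := by rw [hw]
      have h6 : w⁻¹ * (w * g * w⁻¹) * w = g := by group
      rw [← h5, h6]
    rw [mul_inv_eq_iff_eq_mul] at h4
    exact h4
  · intro a ha h
    rcases sq_one_of_mem_centralizer hg ha h with h3 | h3
    · exact Or.inl h3
    · exact Or.inr (sl2_eq_M1 h3)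
  · -- `w² = -1`
    have hw2 : w * w ∈ Subgroup.centralizer ({g} : Set (SL2 F)) := by
      rw [Subgroup.mem_centralizer_singleton_iff]
      have h3 : w * w * g * (w * w)⁻¹ = w * (w * g * w⁻¹) * w⁻¹ := by group
      have h4 : w * g⁻¹ * w⁻¹ = g := by
        calc w * g⁻¹ * w⁻¹ = (w * g * w⁻¹)⁻¹ := by group
          _ = g := by rw [hw, inv_inv]
      rw [hw, h4, mul_inv_eq_iff_eq_mul] at h3
      exact h3
    have h3 := noEig_inv_of_conj hg hw hw2
    have h4 : w * (w * w) * w⁻¹ = w * w := by group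
    rw [h4] at h3
    have h5 : w * w * (w * w) = 1 := by
      nth_rewrite 1 [h3]
      simp
    rcases sl2_sq_one_odd h2 h5 with h6 | h6
    · exfalso
      rcases sl2_sq_one_odd h2 h6 with h7 | h7
      · apply hnot
        rw [h7]
        exact Subgroup.one_mem _
      · apply hnot
        rw [h7]
        exact hz
    · exact h6

/-! ### The split torus -/

/-- The diagonal subgroup. -/
def sl2Diag (F : Type*) [Field F] : Subgroup (SL2 F) where
  carrier := {g | (g : Matrix (Fin 2) (Fin 2) F) 0 1 = 0 ∧ (g : Matrix (Fin 2) (Fin 2) F) 1 0 = 0}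
  mul_mem' := by
    rintro a b ⟨h1, h2⟩ ⟨h3, h4⟩
    simp [sl2_mul_apply, h1, h2, h3, h4]
  one_mem' := by simp
  inv_mem' := by
    rintro a ⟨h1, h2⟩
    simp [sl2_inv_01, sl2_inv_10, h1, h2]

theorem mem_sl2Diag {g : SL2 F} : g ∈ sl2Diag F ↔ (g : Matrix (Fin 2) (Fin 2) F) 0 1 = 0 ∧ (g : Matrix (Fin 2) (Fin 2) F) 1 0 = 0 := Iff.rfl

theorem sl2Diag_unit {g : SL2 F} (hg : g ∈ sl2Diag F) : (g : Matrix (Fin 2) (Fin 2) F) 0 0 * (g : Matrix (Fin 2) (Fin 2) F) 1 1 = 1 := by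
  have := sl2_det g
  rw [hg.1, zero_mul, sub_zero] at this
  exact this

/-- `Fˣ ≃ T`. -/
noncomputable def sl2DiagEquiv : Fˣ ≃* sl2Diag F where
  toFun a := ⟨sl2D a, by simp [mem_sl2Diag]⟩
  invFun g := Units.mkOfMulEqOne _ _ (sl2Diag_unit g.2)
  left_inv a := by
    apply Units.ext
    rfl
  right_inv g := by
    apply Subtype.ext
    apply sl2_ext
    · rfl
    · exact g.2.1.symm
    · exact g.2.2.symm
    · rfl
  map_mul' a b := by
    apply Subtype.ext
    apply sl2_ext <;> simp [sl2_mul_apply]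
    ring

theorem card_sl2Diag [Fintype F] : Nat.card (sl2Diag F) = Fintype.card F - 1 := by
  rw [← Nat.card_congr (sl2DiagEquiv (F := F)).toEquiv, Nat.card_units, Nat.card_eq_fintype_card]

theorem isCyclic_sl2Diag [Fintype F] : IsCyclic (sl2Diag F) :=
  isCyclic_of_surjective _ (sl2DiagEquiv (F := F)).surjective

theorem sl2Diag_comm {a b : SL2 F} (ha : a ∈ sl2Diag F) (hb : b ∈ sl2Diag F) : a * b = b * a := by
  obtain ⟨h1, h2⟩ := ha
  obtain ⟨h3, h4⟩ := hb
  apply sl2_ext <;> simp [sl2_mul_apply, h1, h2, h3, h4]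
  · ring
  · ring

theorem sl2Diag_ne {d : SL2 F} (hd : d ∈ sl2Diag F) (ha : (d : Matrix (Fin 2) (Fin 2) F) 0 0 ^ 2 ≠ 1) :
    (d : Matrix (Fin 2) (Fin 2) F) 0 0 ≠ (d : Matrix (Fin 2) (Fin 2) F) 1 1 := by
  intro h
  apply ha
  have := sl2Diag_unit hd
  rw [← h] at this
  rw [pow_two]
  exact this

/-- The centralizer of a regular diagonal element. -/
theorem centralizer_eq_sl2Diag {d : SL2 F} (hd : d ∈ sl2Diag F) (ha : (d : Matrix (Fin 2) (Fin 2) F) 0 0 ^ 2 ≠ 1) :
    Subgroup.centralizer ({d} : Set (SL2 F)) = sl2Diag F := by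
  have hne := sub_ne_zero.mpr (sl2Diag_ne hd ha)
  ext x
  rw [Subgroup.mem_centralizer_singleton_iff]
  constructor
  · intro h
    have e01 := congrArg (fun z : SL2 F => (z : Matrix (Fin 2) (Fin 2) F) 0 1) h
    have e10 := congrArg (fun z : SL2 F => (z : Matrix (Fin 2) (Fin 2) F) 1 0) h
    simp only [sl2_mul_apply, hd.1, hd.2] at e01 e10
    constructor
    · have : ((d : Matrix (Fin 2) (Fin 2) F) 0 0 - (d : Matrix (Fin 2) (Fin 2) F) 1 1) * (x : Matrix (Fin 2) (Fin 2) F) 0 1 = 0 := by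
        linear_combination -e01
      exact (mul_eq_zero.mp this).resolve_left hne
    · have : ((d : Matrix (Fin 2) (Fin 2) F) 0 0 - (d : Matrix (Fin 2) (Fin 2) F) 1 1) * (x : Matrix (Fin 2) (Fin 2) F) 1 0 = 0 := by
        linear_combination e10
      exact (mul_eq_zero.mp this).resolve_left hne
  · intro hx
    exact sl2Diag_comm hx hd

theorem sl2W_coe_mul (a : SL2 F) (ha : a ∈ sl2Diag F) : sl2W * a * sl2W⁻¹ = a⁻¹ := by
  obtain ⟨h1, h2⟩ := ha
  apply sl2_ext <;> simp [sl2_mul_apply, sl2W, sl2_inv_00, sl2_inv_01, sl2_inv_10, sl2_inv_11, h1, h2]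

theorem sl2W_sq : (sl2W : SL2 F) * sl2W = sl2M1 F := by
  apply sl2_ext <;> simp [sl2_mul_apply, sl2W, sl2M1]

theorem sl2W_notMem : (sl2W : SL2 F) ∉ sl2Diag F := by
  intro h
  have := h.1
  simp [sl2W] at this

/-- The structure of the normalizer of the split torus. -/
theorem torusData_sl2Diag (h2 : (2 : F) ≠ 0) {d : SL2 F} (hd : d ∈ sl2Diag F) (ha : (d : Matrix (Fin 2) (Fin 2) F) 0 0 ^ 2 ≠ 1) :
    TorusData (sl2Diag F) sl2W (sl2M1 F) := by
  refine ⟨fun a ha b hb => sl2Diag_comm ha hb, sl2W_notMem, sl2W_coe_mul, ?_, by simp [mem_sl2Diag, sl2M1],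
    sl2M1_ne_one h2, fun a _ h => sl2_sq_one_odd h2 h, sl2M1_mul_self, sl2W_sq⟩
  intro x hx hx'
  have hc := centralizer_eq_sl2Diag hd ha
  have h1 := (Subgroup.mem_normalizer_iff.mp hx d).mp hd
  have htr : sl2Tr (x * d * x⁻¹) = sl2Tr d := by
    simp only [sl2Tr]
    exact (sl2_trace_of_isConj (isConj_iff.mpr ⟨x, rfl⟩)).symm
  rw [sl2Tr_eq, sl2Tr_eq] at htr
  have hb := sl2Diag_unit h1
  have hdd := sl2Diag_unit hd
  set b := ((x * d * x⁻¹ : SL2 F) : Matrix (Fin 2) (Fin 2) F) 0 0 with hbdef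
  set b' := ((x * d * x⁻¹ : SL2 F) : Matrix (Fin 2) (Fin 2) F) 1 1 with hb'def
  set a := (d : Matrix (Fin 2) (Fin 2) F) 0 0 with hadef
  set a' := (d : Matrix (Fin 2) (Fin 2) F) 1 1 with ha'def
  have hfac : (b - a) * (b - a') = 0 := by
    linear_combination b * htr - hb + hdd
  have hb'1 : b' = a' ∨ b' = a := by
    rcases mul_eq_zero.mp hfac with h3 | h3
    · left
      linear_combination htr - h3
    · right
      linear_combination htr - h3
  rcases mul_eq_zero.mp hfac with h3 | h3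
  · exfalso
    apply hx'
    rw [← hc, Subgroup.mem_centralizer_singleton_iff]
    have h4 : x * d * x⁻¹ = d := by
      apply sl2_ext
      · exact sub_eq_zero.mp h3
      · rw [h1.1, hd.1]
      · rw [h1.2, hd.2]
      · change b' = a'
        linear_combination htr - h3
    rw [mul_inv_eq_iff_eq_mul] at h4
    exact h4
  · rw [← hc, Subgroup.mem_centralizer_singleton_iff]
    have h4 : x * d * x⁻¹ = sl2W * d * sl2W⁻¹ := by
      rw [sl2W_coe_mul d hd]
      apply sl2_ext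
      · rw [sl2_inv_00]
        exact sub_eq_zero.mp h3
      · rw [h1.1, sl2_inv_01, hd.1, neg_zero]
      · rw [h1.2, sl2_inv_10, hd.2, neg_zero]
      · rw [sl2_inv_11]
        change b' = a
        linear_combination htr - h3
    have h5 : sl2W⁻¹ * x * d * (sl2W⁻¹ * x)⁻¹ = d := by
      have : sl2W⁻¹ * x * d * (sl2W⁻¹ * x)⁻¹ = sl2W⁻¹ * (x * d * x⁻¹) * sl2W := by group
      rw [this, h4]
      group
    rw [mul_inv_eq_iff_eq_mul] at h5
    exact h5

end Cfsg.Agent.Lib.Known
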