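import Mathlib
import Cfsg.Agent.Lib.Known.SL2Values
import Cfsg.Agent.Lib.Known.Tori
import Cfsg.Agent.Lib.Char.Exceptional

set_option autoImplicit false

/-! The discrete series of `SL₂(F)`: the functions `(St - 1) R(λ) - Ind_T^G θ`. -/

namespace Cfsg.Agent.Lib.Known

open Cfsg Cfsg.Agent.Lib.Char
open scoped ComplexConjugate

section GeneralInd

variable {G : Type*} [Group G] [Fintype G]

/-- A generalized character of norm one and positive degree is irreducible. -/
theorem isIrr_of_generalized {f : G → ℂ} (hf : IsGeneralizedCharacter G f) (h1 : classInner f f = 1)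
    {n : ℕ} (hn : f 1 = n) (hn0 : 0 < n) : IsIrrCharacter G f := by
  classical
  obtain ⟨c, hc, hs⟩ := IsGeneralizedCharacter.exists_int_coeffs hf
  have hcl : IsClassFunction G f := by
    obtain ⟨χ, φ, hχ, hφ, rfl⟩ := hf
    exact IsClassFunction.sub (IsCharacter.isClassFunction hχ) (IsCharacter.isClassFunction hφ)
  have hsum : ∑ ψ : IrrCharacter G, c ψ ^ 2 = 1 := by
    have h3 := classInner_eq_sum_coeffs f f hcl hcl
    rw [h1] at h3
    simp only [hc, map_intCast] at h3
    have h4 : ((∑ ψ : IrrCharacter G, c ψ ^ 2 : ℤ) : ℂ) = ((1 : ℤ) : ℂ) := by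
      push_cast
      rw [h3]
      refine Finset.sum_congr rfl fun ψ _ => ?_
      ring
    exact_mod_cast h4
  have hne : ∃ a, c a ≠ 0 := by
    by_contra hcon
    push Not at hcon
    simp [hcon] at hsum
  obtain ⟨a, ha⟩ := hne
  have hle : c a ^ 2 ≤ ∑ ψ, c ψ ^ 2 :=
    Finset.single_le_sum (f := fun ψ => c ψ ^ 2) (fun _ _ => sq_nonneg _) (Finset.mem_univ a)
  have ha2 : c a ^ 2 = 1 := by
    have : 0 < c a ^ 2 := by positivity
    omega
  have hrest : ∀ b, b ≠ a → c b = 0 := by
    intro b hb
    by_contra hne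
    have h2 : ∑ x ∈ ({b, a} : Finset (IrrCharacter G)), c x ^ 2 ≤ ∑ x, c x ^ 2 :=
      Finset.sum_le_sum_of_subset_of_nonneg (Finset.subset_univ _) (fun _ _ _ => sq_nonneg _)
    rw [Finset.sum_pair hb, ha2, hsum] at h2
    have : 0 < c b ^ 2 := by positivity
    omega
  have hfa : f = (c a : ℂ) • (a : G → ℂ) := by
    rw [hs, Finset.sum_eq_single a]
    · intro b _ hb
      rw [hrest b hb]
      simp
    · simp
  have hca : c a = 1 ∨ c a = -1 := by
    have : (c a - 1) * (c a + 1) = 0 := by linear_combination ha2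
    rcases mul_eq_zero.mp this with h | h
    · left; omega
    · right; omega
  rcases hca with h | h
  · rw [hfa, h]
    simpa using a.2
  · exfalso
    have h2 : f 1 = -(a : G → ℂ) 1 := by
      rw [hfa, h]
      simp
    obtain ⟨m, hm0, hm⟩ := IsIrrCharacter.apply_one a.2
    rw [hn, hm] at h2
    have h3 : (n : ℂ) + m = 0 := by linear_combination h2
    have h4 : ((n + m : ℕ) : ℂ) = 0 := by push_cast; exact h3
    have h5 : n + m = 0 := by exact_mod_cast h4
    omega

theorem indFun_eq_zero_of_not_conj (H : Subgroup G) (θ : H → ℂ) {g : G} (h : ∀ x : G, x⁻¹ * g * x ∉ H) :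
    indFun H θ g = 0 := by
  rw [indFun_apply]
  rw [Finset.sum_eq_zero, mul_zero]
  intro x _
  exact extendByZero_of_notMem H θ (h x)

/-- Induced functions and central elements. -/
theorem indFun_central_mul (H : Subgroup G) (θ : H → ℂ) {z : G} (hzc : ∀ x, z * x = x * z) (hz : z ∈ H) (c : ℂ)
    (hθ : ∀ h : H, θ (⟨z, hz⟩ * h) = c * θ h) (g : G) : indFun H θ (z * g) = c * indFun H θ g := by
  rw [indFun_apply, indFun_apply]
  have hsum : ∑ x : G, extendByZero H θ (x⁻¹ * (z * g) * x) = c * ∑ x : G, extendByZero H θ (x⁻¹ * g * x) := by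
    rw [Finset.mul_sum]
    apply Finset.sum_congr rfl
    intro x _
    have e : x⁻¹ * (z * g) * x = z * (x⁻¹ * g * x) := by
      rw [← mul_assoc x⁻¹, ← hzc x⁻¹]
      simp only [mul_assoc]
    rw [e]
    by_cases hm : x⁻¹ * g * x ∈ H
    · rw [extendByZero_of_mem H θ hm, extendByZero_of_mem H θ (H.mul_mem hz hm), ← hθ]
      rfl
    · have hm' : z * (x⁻¹ * g * x) ∉ H := by
        intro h
        apply hm
        have := H.mul_mem (H.inv_mem hz) h
        simpa using this
      rw [extendByZero_of_notMem H θ hm, extendByZero_of_notMem H θ hm', mul_zero]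
  rw [hsum]
  ring

/-- The value of an induced function at a central element. -/
theorem indFun_central (H : Subgroup G) (θ : H → ℂ) {z : G} (hzc : ∀ x, z * x = x * z) (hz : z ∈ H) :
    indFun H θ z = (H.index : ℂ) * θ ⟨z, hz⟩ := by
  rw [indFun_apply]
  have h1 : ∀ x : G, extendByZero H θ (x⁻¹ * z * x) = θ ⟨z, hz⟩ := by
    intro x
    have e : x⁻¹ * z * x = z := by
      rw [← hzc x⁻¹]
      simp
    rw [e, extendByZero_of_mem H θ hz]
  simp only [h1, Finset.sum_const, Finset.card_univ, nsmul_eq_mul, ← mul_assoc]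
  congr 1
  have h2 := Subgroup.card_mul_index H
  rw [Nat.card_eq_fintype_card (α := G)] at h2
  rw [← h2]
  have hne : (Nat.card H : ℂ) ≠ 0 := by
    have : Nat.card H ≠ 0 := Nat.card_pos.ne'
    exact_mod_cast this
  push_cast
  field_simp

/-- The value of the function induced from an abelian "torus" at a regular element. -/
theorem indFun_torus {T : Subgroup G} {w z : G} (D : TorusData T w z) (θ : T → ℂ) {c : T}
    (hreg : ∀ x : G, x⁻¹ * c * x ∈ T → x ∈ Subgroup.normalizer (T : Set G)) :
    indFun T θ c = θ c + θ c⁻¹ := by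
  classical
  have hne : (Nat.card T : ℂ) ≠ 0 := by
    have : Nat.card T ≠ 0 := Nat.card_pos.ne'
    exact_mod_cast this
  rw [indFun_apply]
  set N := Subgroup.normalizer (T : Set G) with hN
  have hterm : ∀ x : G, extendByZero T θ (x⁻¹ * c * x) =
      (if x ∈ T then θ c else 0) + (if x ∈ N ∧ x ∉ T then θ c⁻¹ else 0) := by
    intro x
    by_cases hxT : x ∈ T
    · have e : x⁻¹ * c * x = c := by
        have := D.comm c c.2 x hxT
        rw [mul_assoc, this]
        simp
      rw [e, extendByZero_coe]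
      simp [hxT]
    · by_cases hxN : x ∈ N
      · have hx' : x⁻¹ ∉ T := fun h => hxT (by simpa using T.inv_mem h)
        have e : x⁻¹ * c * x = ((c⁻¹ : T) : G) := by
          have := D.outside_inv (N.inv_mem hxN) hx' c.2
          rw [inv_inv] at this
          rw [this]
          rfl
        rw [e, extendByZero_coe]
        simp [hxT, hxN]
      · have : x⁻¹ * c * x ∉ T := fun h => hxN (hreg x h)
        rw [extendByZero_of_notMem T θ this]
        simp [hxT, hxN]
  simp only [hterm]
  rw [Finset.sum_add_distrib, Finset.sum_ite, Finset.sum_ite]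
  simp only [Finset.sum_const_zero, add_zero, Finset.sum_const, nsmul_eq_mul]
  have hc1 : ((Finset.univ.filter (fun x => x ∈ T)).card : ℂ) = (Nat.card T : ℂ) := by
    rw [Nat.card_eq_fintype_card, Fintype.card_subtype]
  have hc2 : ((Finset.univ.filter (fun x => x ∈ N ∧ x ∉ T)).card : ℂ) = (Nat.card T : ℂ) := by
    have h1 : (Finset.univ.filter (fun x => x ∈ N)).card = (Finset.univ.filter (fun x => x ∈ T)).card +
        (Finset.univ.filter (fun x => x ∈ N ∧ x ∉ T)).card := by
      rw [← Finset.card_union_of_disjoint]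
      · congr 1
        ext x
        simp only [Finset.mem_filter, Finset.mem_univ, true_and, Finset.mem_union]
        constructor
        · intro h
          by_cases h2 : x ∈ T
          · exact Or.inl h2
          · exact Or.inr ⟨h, h2⟩
        · rintro (h | h)
          · exact Subgroup.le_normalizer h
          · exact h.1
      · rw [Finset.disjoint_left]
        intro x h1 h2
        simp only [Finset.mem_filter, Finset.mem_univ, true_and] at h1 h2
        exact h2.2 h1
    have h2 := D.card_normalizer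
    rw [Nat.card_eq_fintype_card, Fintype.card_subtype] at h2
    have h3 : Nat.card T = (Finset.univ.filter (fun x => x ∈ T)).card := by
      rw [Nat.card_eq_fintype_card, Fintype.card_subtype]
    have h4 : (Finset.univ.filter (fun x => x ∈ N)).card = 2 * Nat.card T := by
      rw [← h2]
    have h5 : (Finset.univ.filter (fun x => x ∈ N ∧ x ∉ T)).card = Nat.card T := by omega
    rw [h5]
  rw [hc1, hc2]
  field_simp

end GeneralInd

section SL2Part

variable {F : Type*} [Field F] [Fintype F] [DecidableEq F]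

theorem sl2M1_mem_borel : sl2M1 F ∈ sl2Borel F := by
  rw [mem_sl2Borel_iff]
  simp [sl2M1]

theorem sl2Ind_M1_mul (α : MulChar F ℂ) (g : SL2 F) : sl2Ind α (sl2M1 F * g) = α (-1) * sl2Ind α g := by
  unfold sl2Ind
  apply indFun_central_mul _ _ sl2M1_comm sl2M1_mem_borel
  intro h
  have e : (((⟨sl2M1 F, sl2M1_mem_borel⟩ * h : sl2Borel F) : SL2 F) : Matrix (Fin 2) (Fin 2) F) 0 0 =
      -1 * ((h : SL2 F) : Matrix (Fin 2) (Fin 2) F) 0 0 := by
    rw [sl2Borel_mul_00]
    simp [sl2M1]
  simp only [e, map_mul]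

theorem sl2St_M1_mul (g : SL2 F) : sl2St F (sl2M1 F * g) = sl2St F g := by
  have h1 : (1 : MulChar F ℂ) (-1) = 1 := by
    rw [MulChar.one_apply (isUnit_one.neg)]
  simp [sl2St, sl2Ind_M1_mul, h1, sl2One]

theorem sl2St_conj (g : SL2 F) : conj (sl2St F g) = sl2St F g := by
  classical
  simp only [sl2St, Pi.sub_apply, sl2One, map_sub, map_one]
  congr 1
  unfold sl2Ind
  rw [indFun_sl2_apply, map_sum]
  apply Finset.sum_congr rfl
  intro ℓ _
  split_ifs
  · by_cases h : sl2Val g ℓ = 0
    · rw [h, MulChar.map_zero, map_zero]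
    · rw [MulChar.one_apply (isUnit_iff_ne_zero.mpr h), map_one]
  · simp

theorem sl2BorelMk_isConj (a : Fˣ) (ha : (a : F) ^ 2 ≠ 1) (v : F) : IsConj (sl2BorelMk a v) (sl2BorelMk a 0) := by
  have hne : ((a⁻¹ : Fˣ) : F) - a ≠ 0 := by
    intro h
    apply ha
    have h1 : ((a⁻¹ : Fˣ) : F) * a = 1 := by simp
    rw [sub_eq_zero.mp h] at h1
    rw [pow_two]
    exact h1
  rw [isConj_iff]
  refine ⟨sl2U (-(v / (((a⁻¹ : Fˣ) : F) - a))), ?_⟩
  have hinv : (sl2U (-(v / (((a⁻¹ : Fˣ) : F) - a))))⁻¹ = sl2U (v / (((a⁻¹ : Fˣ) : F) - a)) := by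
    apply inv_eq_of_mul_eq_one_right
    rw [sl2U_add]
    simp
  rw [hinv]
  apply sl2_ext <;> simp [sl2_mul_apply, sl2BorelMk]
  field_simp
  ring

theorem sl2St_regular' (a : Fˣ) (ha : (a : F) ^ 2 ≠ 1) (v : F) : sl2St F (sl2BorelMk a v) = 1 := by
  have hcl : IsClassFunction (SL2 F) (sl2St F) := IsCharacter.isClassFunction (IsIrrCharacter.isCharacter isIrr_sl2St)
  rw [IsClassFunction.congr_isConj hcl (sl2BorelMk_isConj a ha v), sl2St_regular a ha]

theorem sl2BorelMk_M1 (v : F) : sl2BorelMk (-1) v = sl2M1 F * sl2U (-v) := by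
  apply sl2_ext <;> simp [sl2_mul_apply, sl2BorelMk, sl2M1]

/-- The function `(St - 1) R(λ)`. -/
noncomputable def dsY (l : MulChar F ℂ) : SL2 F → ℂ := fun g => (sl2St F g - 1) * sl2Ind l g

theorem isCharacter_sl2St : IsCharacter (SL2 F) (sl2St F) := IsIrrCharacter.isCharacter isIrr_sl2St

theorem isClassFunction_dsY (l : MulChar F ℂ) : IsClassFunction (SL2 F) (dsY l) := by
  intro g h
  have h1 := IsCharacter.isClassFunction (isCharacter_sl2St (F := F)) g h
  have h2 := isClassFunction_sl2Ind l g h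
  simp only [dsY, h1, h2]

theorem dsY_one (l : MulChar F ℂ) : dsY l 1 = ((Fintype.card F : ℂ) - 1) * ((Fintype.card F : ℂ) + 1) := by
  simp only [dsY, sl2St_apply_one, sl2Ind_apply_one]

theorem dsY_M1_mul (l : MulChar F ℂ) (g : SL2 F) : dsY l (sl2M1 F * g) = l (-1) * dsY l g := by
  simp only [dsY, sl2St_M1_mul, sl2Ind_M1_mul]
  ring

theorem dsY_noEig (l : MulChar F ℂ) {g : SL2 F} (hg : sl2NoEig g) : dsY l g = 0 := by
  simp only [dsY]
  rw [sl2Ind_no_eigenvector l g hg, mul_zero]

theorem dsY_regular (l : MulChar F ℂ) (a : Fˣ) (ha : (a : F) ^ 2 ≠ 1) (v : F) : dsY l (sl2BorelMk a v) = 0 := by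
  simp only [dsY, sl2St_regular' a ha v, sub_self, zero_mul]

theorem dsY_U (l : MulChar F ℂ) {v : F} (hv : v ≠ 0) : dsY l (sl2U v) = -1 := by
  simp only [dsY, sl2St_U hv, sl2Ind_U l hv]
  ring

theorem mulChar_M1_sq (l : MulChar F ℂ) : l (-1) * l (-1) = 1 := by
  rw [← map_mul]
  simp

theorem mulChar_M1_conj (l : MulChar F ℂ) : l (-1) * conj (l (-1)) = 1 := by
  have h1 : conj (l (-1)) = l (-1) := by
    have h2 : l (-1) = 1 ∨ l (-1) = -1 := by
      have : (l (-1) - 1) * (l (-1) + 1) = 0 := by linear_combination mulChar_M1_sq l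
      rcases mul_eq_zero.mp this with h | h
      · left; linear_combination h
      · right; linear_combination h
    rcases h2 with h | h <;> simp [h]
  rw [h1, mulChar_M1_sq]

theorem classInner_dsY_self (hodd : Odd (Fintype.card F)) (l : MulChar F ℂ) :
    classInner (dsY l) (dsY l) = 2 * (Fintype.card F : ℂ) := by
  classical
  have hq := card_ne_zero_complex (F := F)
  have hq1 := card_sub_one_ne_zero_complex (F := F)
  have h2 : (2 : F) ≠ 0 := two_ne_zero_of_odd hodd
  set W : SL2 F → ℂ := fun g => (sl2St F g - 1) * dsY l g with hW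
  have hWcl : IsClassFunction (SL2 F) W := by
    intro g h
    have h1 := IsCharacter.isClassFunction (isCharacter_sl2St (F := F)) g h
    have h2 := isClassFunction_dsY l g h
    simp only [hW, h1, h2]
  have e : classInner (dsY l) (dsY l) = classInner W (sl2Ind l) := by
    simp only [classInner]
    congr 1
    apply Finset.sum_congr rfl
    intro g _
    have : conj (dsY l g) = (sl2St F g - 1) * conj (sl2Ind l g) := by
      simp only [dsY, map_mul, map_sub, map_one, sl2St_conj]
    rw [this]
    simp only [hW, dsY]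
    ring
  rw [e, classInner_sl2Ind_right W hWcl]
  have hW1 : W 1 = ((Fintype.card F : ℂ) - 1) * (((Fintype.card F : ℂ) - 1) * ((Fintype.card F : ℂ) + 1)) := by
    simp only [hW, dsY_one, sl2St_apply_one]
  have hWU : ∀ v : F, v ≠ 0 → W (sl2U v) = 1 := by
    intro v hv
    simp only [hW, dsY_U l hv, sl2St_U hv]
    ring
  have hWM : ∀ g : SL2 F, W (sl2M1 F * g) = l (-1) * W g := by
    intro g
    simp only [hW, sl2St_M1_mul, dsY_M1_mul]
    ring
  have hsumU : ∑ v : F, W (sl2U v) = ((Fintype.card F : ℂ) - 1) * (((Fintype.card F : ℂ) - 1) * ((Fintype.card F : ℂ) + 1)) + ((Fintype.card F : ℂ) - 1) := by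
    rw [sum_field_split]
    have hz : W (sl2U 0) = W 1 := by rw [sl2U_zero]
    rw [hz, hW1]
    congr 1
    have : ∀ u : Fˣ, W (sl2U (u : F)) = 1 := fun u => hWU _ u.ne_zero
    simp only [this]
    simp [Finset.card_univ, Fintype.card_units]
    rw [Nat.cast_sub Fintype.card_pos]
    simp
  have hne1 : (1 : Fˣ) ≠ -1 := by
    intro h
    have h' := congrArg (fun u : Fˣ => (u : F)) h
    simp only [Units.val_one, Units.val_neg] at h'
    apply h2
    linear_combination h'
  have hsum : ∑ u : Fˣ, ∑ v : F, W (sl2BorelMk u v) * conj (l (u : F)) =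
      2 * (((Fintype.card F : ℂ) - 1) * (((Fintype.card F : ℂ) - 1) * ((Fintype.card F : ℂ) + 1)) + ((Fintype.card F : ℂ) - 1)) := by
    rw [Finset.sum_eq_add (1 : Fˣ) (-1 : Fˣ) hne1]
    · have e1 : ∑ v : F, W (sl2BorelMk 1 v) * conj (l ((1 : Fˣ) : F)) = ∑ v : F, W (sl2U v) := by
        simp [sl2BorelMk_one]
      have e2 : ∑ v : F, W (sl2BorelMk (-1) v) * conj (l ((-1 : Fˣ) : F)) = ∑ v : F, W (sl2U v) := by
        rw [← Equiv.sum_comp (Equiv.neg F) (fun v => W (sl2U v))]
        apply Finset.sum_congr rfl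
        intro v _
        rw [sl2BorelMk_M1, hWM]
        simp only [Units.val_neg, Units.val_one, Equiv.neg_apply]
        linear_combination W (sl2U (-v)) * mulChar_M1_conj l
      rw [e1, e2, hsumU]
      ring
    · rintro u - ⟨hu1, hu2⟩
      have hu : (u : F) ^ 2 ≠ 1 := by
        intro h
        have h3 : ((u : F) - 1) * ((u : F) + 1) = 0 := by linear_combination h
        rcases mul_eq_zero.mp h3 with h4 | h4
        · apply hu1
          apply Units.ext
          simpa using sub_eq_zero.mp h4
        · apply hu2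
          apply Units.ext
          simp only [Units.val_neg, Units.val_one]
          linear_combination h4
      apply Finset.sum_eq_zero
      intro v _
      simp only [hW, dsY_regular l u hu v]
      ring
    · intro h; exact absurd (Finset.mem_univ _) h
    · intro h; exact absurd (Finset.mem_univ _) h
  rw [hsum]
  field_simp
  ring

end SL2Part

end Cfsg.Agent.Lib.Known
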