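import Mathlib
import Cfsg.Agent.Lib.Known.Discrete

set_option autoImplicit false

/-! The discrete series of `SL₂(F)`, part 2: the torus. -/

namespace Cfsg.Agent.Lib.Known

open Cfsg Cfsg.Agent.Lib.Char
open scoped ComplexConjugate

variable {F : Type*} [Field F] [Fintype F] [DecidableEq F]

/-- The centralizer of `g`. -/
abbrev sl2T (g : SL2 F) : Subgroup (SL2 F) := Subgroup.centralizer ({g} : Set (SL2 F))

section

variable {g : SL2 F}

theorem sl2M1_mem_T (g : SL2 F) : sl2M1 F ∈ sl2T g := by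
  rw [Subgroup.mem_centralizer_singleton_iff]
  exact sl2M1_comm g

/-- The element `-1` of the torus. -/
def m1T (g : SL2 F) : sl2T g := ⟨sl2M1 F, sl2M1_mem_T g⟩

theorem T_eq_or_regular (hg : sl2NoEig g) (c : sl2T g) :
    c = 1 ∨ c = m1T g ∨ ¬ m2Scalar (((c : SL2 F)) : Matrix (Fin 2) (Fin 2) F) := by
  by_cases hs : m2Scalar (((c : SL2 F)) : Matrix (Fin 2) (Fin 2) F)
  · rcases sq_one_of_mem_centralizer hg c.2 (sl2_scalar_sq hs) with h | h
    · left
      exact Subtype.ext h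
    · right; left
      exact Subtype.ext (sl2_eq_M1 h)
  · exact Or.inr (Or.inr hs)

/-- Non-scalar elements of the torus have no eigenvectors. -/
theorem noEig_of_mem_T (hg : sl2NoEig g) {c : SL2 F} (hc : c ∈ sl2T g)
    (hs : ¬ m2Scalar ((c : SL2 F) : Matrix (Fin 2) (Fin 2) F)) : sl2NoEig c := by
  obtain ⟨x, y, hxy⟩ := (mem_centralizer_noEig_iff hg c).mp hc
  have hy : y ≠ 0 := by
    rintro rfl
    exact hs (m2Scalar_of_add_smul hxy)
  exact sl2NoEig_of_add_smul hg hxy hy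

theorem noEig_conj (x c : SL2 F) (hc : sl2NoEig c) : sl2NoEig (x⁻¹ * c * x) := by
  apply sl2NoEig_of_tr _ hc
  have h : IsConj c (x⁻¹ * c * x) := isConj_iff.mpr ⟨x⁻¹, by simp⟩
  exact sl2_trace_of_isConj h

theorem m2Scalar_conj {x c : SL2 F} (h : m2Scalar (((x⁻¹ * c * x : SL2 F)) : Matrix (Fin 2) (Fin 2) F)) :
    m2Scalar ((c : SL2 F) : Matrix (Fin 2) (Fin 2) F) := by
  have h1 : c = x * (x⁻¹ * c * x) * x⁻¹ := by group
  have hc : x * (x⁻¹ * c * x) = (x⁻¹ * c * x) * x := by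
    apply (sl2_comm_iff _ _).mpr
    exact (m2Scalar_comm h _).symm
  have h2 : c = x⁻¹ * c * x := by
    nth_rewrite 1 [h1]
    rw [hc]
    simp
  rw [h2]
  exact h

/-- Regular elements of the torus: if a conjugate is in the torus, the conjugating element normalizes. -/
theorem T_reg (hg : sl2NoEig g) {c : SL2 F} (hc : c ∈ sl2T g)
    (hs : ¬ m2Scalar ((c : SL2 F) : Matrix (Fin 2) (Fin 2) F)) (x : SL2 F) (hx : x⁻¹ * c * x ∈ sl2T g) :
    x ∈ Subgroup.normalizer ((sl2T g : Subgroup (SL2 F)) : Set (SL2 F)) := by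
  have hs' : ¬ m2Scalar (((x⁻¹ * c * x : SL2 F)) : Matrix (Fin 2) (Fin 2) F) := fun h => hs (m2Scalar_conj h)
  have e1 : sl2T g = Subgroup.centralizer ({c} : Set (SL2 F)) := (centralizer_eq_of_mem hg hc hs).symm
  have e2 : sl2T g = Subgroup.centralizer ({x⁻¹ * c * x} : Set (SL2 F)) := (centralizer_eq_of_mem hg hx hs').symm
  rw [Subgroup.mem_normalizer_iff]
  intro h
  constructor
  · intro hh
    rw [e2, Subgroup.mem_centralizer_singleton_iff] at hh
    rw [e1, Subgroup.mem_centralizer_singleton_iff]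
    have : x * h * x⁻¹ * c = x * (h * (x⁻¹ * c * x)) * x⁻¹ := by group
    rw [this, hh]
    group
  · intro hh
    rw [e1, Subgroup.mem_centralizer_singleton_iff] at hh
    rw [e2, Subgroup.mem_centralizer_singleton_iff]
    have h1 : h * (x⁻¹ * c * x) = x⁻¹ * ((x * h * x⁻¹) * c) * x := by group
    rw [h1, hh]
    group

/-- The induced function from a homomorphism of the torus. -/
noncomputable def dsZ (θ : sl2T g →* ℂˣ) : SL2 F → ℂ := indFun (sl2T g) (fun c => ((θ c : ℂˣ) : ℂ))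

theorem isCharacter_dsZ (θ : sl2T g →* ℂˣ) : IsCharacter (SL2 F) (dsZ θ) := by
  classical
  haveI : Fintype (sl2T g) := Fintype.ofFinite _
  exact isCharacter_indFun (sl2T g) (IsIrrCharacter.isCharacter (isIrrCharacter_of_monoidHom θ))

theorem dsZ_M1_mul (θ : sl2T g →* ℂˣ) (h : SL2 F) : dsZ θ (sl2M1 F * h) = ((θ (m1T g) : ℂˣ) : ℂ) * dsZ θ h := by
  unfold dsZ
  apply indFun_central_mul _ _ sl2M1_comm (sl2M1_mem_T g)
  intro c
  change ((θ (m1T g * c) : ℂˣ) : ℂ) = _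
  rw [map_mul, Units.val_mul]

theorem index_T (hg : sl2NoEig g) : (sl2T g).index = Fintype.card F * (Fintype.card F - 1) := by
  have h1 := Subgroup.card_mul_index (sl2T g)
  rw [card_centralizer_noEig hg, card_sl2] at h1
  have hq : 2 ≤ Fintype.card F := Fintype.one_lt_card
  obtain ⟨m, hm⟩ : ∃ m, Fintype.card F = m + 1 := ⟨Fintype.card F - 1, by omega⟩
  rw [hm] at h1 ⊢
  have e1 : (m + 1) ^ 2 - 1 = (m + 1 + 1) * m := by
    have : (m + 1) ^ 2 = (m + 1 + 1) * m + 1 := by ring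
    omega
  rw [e1] at h1
  have e2 : m + 1 - 1 = m := rfl
  rw [e2]
  have : (m + 1 + 1) * (sl2T g).index = (m + 1 + 1) * ((m + 1) * m) := by
    rw [h1]
    ring
  exact Nat.eq_of_mul_eq_mul_left (by omega) this

theorem dsZ_one (hg : sl2NoEig g) (θ : sl2T g →* ℂˣ) :
    dsZ θ 1 = (Fintype.card F : ℂ) * ((Fintype.card F : ℂ) - 1) := by
  unfold dsZ
  rw [indFun_central _ _ (fun x => by simp) (Subgroup.one_mem _), index_T hg]
  have hq : 1 ≤ Fintype.card F := Fintype.card_pos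
  have e : (⟨1, Subgroup.one_mem _⟩ : sl2T g) = 1 := rfl
  rw [e, map_one]
  push_cast [hq]
  ring

/-- The value of `Ind θ` at a regular element of the torus. -/
theorem dsZ_regular [Fintype (sl2T g)] (hw : ∃ w z, TorusData (sl2T g) w z) (hg : sl2NoEig g) (θ : sl2T g →* ℂˣ) (c : sl2T g)
    (hs : ¬ m2Scalar (((c : SL2 F)) : Matrix (Fin 2) (Fin 2) F)) :
    dsZ θ c = ((θ c : ℂˣ) : ℂ) + ((θ c⁻¹ : ℂˣ) : ℂ) := by
  obtain ⟨w, z, D⟩ := hw
  exact indFun_torus D _ (fun x hx => T_reg hg c.2 hs x hx)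

/-- `Ind θ` vanishes at non-scalar elements with an eigenvector. -/
theorem dsZ_eq_zero (hg : sl2NoEig g) (θ : sl2T g →* ℂˣ) {h : SL2 F} (h1 : ¬ sl2NoEig h)
    (h2 : ¬ m2Scalar ((h : SL2 F) : Matrix (Fin 2) (Fin 2) F)) : dsZ θ h = 0 := by
  unfold dsZ
  apply indFun_eq_zero_of_not_conj
  intro x hx
  have hs' : ¬ m2Scalar (((x⁻¹ * h * x : SL2 F)) : Matrix (Fin 2) (Fin 2) F) := fun h3 => h2 (m2Scalar_conj h3)
  have h3 := noEig_of_mem_T hg hx hs'
  have h4 := noEig_conj x⁻¹ _ h3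
  apply h1
  simpa [mul_assoc] using h4

/-! ### Inner products -/

theorem theta_norm (θ : sl2T g →* ℂˣ) (c : sl2T g) : ‖((θ c : ℂˣ) : ℂ)‖ = 1 := by
  have h : ((θ c : ℂˣ) : ℂ) ^ orderOf c = 1 := by
    rw [← Units.val_pow_eq_pow_val, ← map_pow, pow_orderOf_eq_one, map_one, Units.val_one]
  exact Complex.norm_eq_one_of_pow_eq_one h (orderOf_pos c).ne'

theorem theta_conj (θ : sl2T g →* ℂˣ) (c : sl2T g) : conj ((θ c : ℂˣ) : ℂ) = ((θ c⁻¹ : ℂˣ) : ℂ) := by
  rw [map_inv, Units.val_inv_eq_inv_val, Complex.inv_eq_conj (theta_norm θ c)]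

theorem m1T_mul_self : m1T g * m1T g = 1 := Subtype.ext sl2M1_mul_self

theorem m1T_inv : (m1T g)⁻¹ = m1T g := inv_eq_of_mul_eq_one_left m1T_mul_self

theorem theta_m1_sq (θ : sl2T g →* ℂˣ) : ((θ (m1T g) : ℂˣ) : ℂ) * ((θ (m1T g) : ℂˣ) : ℂ) = 1 := by
  rw [← Units.val_mul, ← map_mul, m1T_mul_self, map_one, Units.val_one]

theorem theta_mul_conj (θ : sl2T g →* ℂˣ) (c : sl2T g) : ((θ c : ℂˣ) : ℂ) * ((θ c⁻¹ : ℂˣ) : ℂ) = 1 := by
  rw [← Units.val_mul, ← map_mul, mul_inv_cancel, map_one, Units.val_one]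

theorem m1T_ne_one (h2 : (2 : F) ≠ 0) : m1T g ≠ 1 := fun h => sl2M1_ne_one h2 (congrArg Subtype.val h)

theorem card_ne_zero_add_one : (Fintype.card F : ℂ) + 1 ≠ 0 := by
  exact Nat.cast_add_one_ne_zero _

theorem classInner_dsY_dsZ (hodd : Odd (Fintype.card F)) (hg : sl2NoEig g) (l : MulChar F ℂ) (θ : sl2T g →* ℂˣ)
    (hl : l (-1) = ((θ (m1T g) : ℂˣ) : ℂ)) :
    classInner (dsY l) (dsZ θ) = 2 * ((Fintype.card F : ℂ) - 1) := by
  classical
  haveI : Fintype (sl2T g) := Fintype.ofFinite _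
  have h2 : (2 : F) ≠ 0 := two_ne_zero_of_odd hodd
  have hq1 := card_ne_zero_add_one (F := F)
  unfold dsZ
  rw [classInner_indFun_right _ _ _ (isClassFunction_dsY l)]
  simp only [classInner]
  rw [card_centralizer_noEig hg]
  rw [Finset.sum_eq_add (1 : sl2T g) (m1T g) (m1T_ne_one h2).symm]
  · have e1 : dsY l ((1 : sl2T g) : SL2 F) = dsY l 1 := rfl
    have e2 : dsY l ((m1T g : sl2T g) : SL2 F) = dsY l (sl2M1 F * 1) := by
      rw [mul_one]
      rfl
    rw [e1, e2, dsY_M1_mul, dsY_one, map_one, Units.val_one, map_one, mul_one, theta_conj, m1T_inv, hl]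
    push_cast
    have := theta_m1_sq θ
    field_simp
    linear_combination ((Fintype.card F : ℂ) - 1) * this
  · rintro c - ⟨hc1, hc2⟩
    rcases T_eq_or_regular hg c with h | h | h
    · exact absurd h hc1
    · exact absurd h hc2
    · rw [dsY_noEig l (noEig_of_mem_T hg c.2 h), zero_mul]
  · intro h; exact absurd (Finset.mem_univ _) h
  · intro h; exact absurd (Finset.mem_univ _) h

theorem sum_theta_sq (θ : sl2T g →* ℂˣ) [Fintype (sl2T g)] (hθ : ∃ c, θ c ^ 2 ≠ 1) :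
    ∑ c : sl2T g, ((θ c⁻¹ : ℂˣ) : ℂ) ^ 2 = 0 := by
  classical
  have h0 := Equiv.sum_comp (Equiv.inv (sl2T g)) (fun c => ((θ c : ℂˣ) : ℂ) ^ 2)
  simp only [Equiv.inv_apply] at h0
  rw [h0]
  let τ : sl2T g →* ℂ := (Units.coeHom ℂ).comp (θ ^ 2)
  have hτ : τ ≠ 1 := by
    intro h
    obtain ⟨c, hc⟩ := hθ
    apply hc
    have h3 := congrArg (fun f : sl2T g →* ℂ => f c) h
    apply Units.ext
    simpa [τ] using h3
  have := sum_hom_units_eq_zero τ hτ
  simpa [τ] using this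

theorem classInner_dsZ_self (hodd : Odd (Fintype.card F)) (hg : sl2NoEig g) (θ : sl2T g →* ℂˣ)
    (hθ : ∃ c, θ c ^ 2 ≠ 1) :
    classInner (dsZ θ) (dsZ θ) = 2 * (Fintype.card F : ℂ) - 3 := by
  classical
  haveI : Fintype (sl2T g) := Fintype.ofFinite _
  have h2 : (2 : F) ≠ 0 := two_ne_zero_of_odd hodd
  have hq1 := card_ne_zero_add_one (F := F)
  obtain ⟨w, hw⟩ := exists_inverting hg
  have D := torusData_noEig h2 hg hw
  have hZcl : IsClassFunction (SL2 F) (dsZ θ) := IsCharacter.isClassFunction (isCharacter_dsZ θ)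
  nth_rewrite 2 [dsZ]
  rw [classInner_indFun_right _ _ _ hZcl]
  simp only [classInner]
  rw [card_centralizer_noEig hg]
  set q : ℂ := (Fintype.card F : ℂ) with hq
  have hA : ∑ c : sl2T g, (dsZ θ c * conj ((θ c : ℂˣ) : ℂ) - (1 + ((θ c⁻¹ : ℂˣ) : ℂ) ^ 2)) =
      2 * (q * (q - 1) - 2) := by
    rw [Finset.sum_eq_add (1 : sl2T g) (m1T g) (m1T_ne_one h2).symm]
    · have e1 : dsZ θ ((1 : sl2T g) : SL2 F) = dsZ θ 1 := rfl
      have e2 : dsZ θ ((m1T g : sl2T g) : SL2 F) = dsZ θ (sl2M1 F * 1) := by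
        rw [mul_one]
        rfl
      rw [e1, e2, dsZ_M1_mul, dsZ_one hg, inv_one, map_one, Units.val_one, map_one, theta_conj, m1T_inv]
      have := theta_m1_sq θ
      simp only [map_one, one_pow, mul_one]
      linear_combination (q * (q - 1) - 1) * this
    · rintro c - ⟨hc1, hc2⟩
      rcases T_eq_or_regular hg c with h | h | h
      · exact absurd h hc1
      · exact absurd h hc2
      · rw [dsZ_regular ⟨w, sl2M1 F, D⟩ hg θ c h, theta_conj]
        have := theta_mul_conj θ c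
        linear_combination this
    · intro h; exact absurd (Finset.mem_univ _) h
    · intro h; exact absurd (Finset.mem_univ _) h
  have hB : ∑ c : sl2T g, (1 + ((θ c⁻¹ : ℂˣ) : ℂ) ^ 2) = q + 1 := by
    rw [Finset.sum_add_distrib, sum_theta_sq θ hθ]
    simp only [Finset.sum_const, Finset.card_univ, nsmul_eq_mul, mul_one, add_zero]
    rw [← Nat.card_eq_fintype_card, card_centralizer_noEig hg]
    push_cast
    rfl
  have hC : ∑ c : sl2T g, dsZ θ c * conj ((θ c : ℂˣ) : ℂ) = 2 * (q * (q - 1) - 2) + (q + 1) := by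
    rw [← hA, ← hB, ← Finset.sum_add_distrib]
    apply Finset.sum_congr rfl
    intro c _
    ring
  rw [hC]
  push_cast
  rw [← hq]
  have hq1' : q + 1 ≠ 0 := hq1
  field_simp
  ring

/-- The function `(St - 1) R(λ) - Ind θ`. -/
noncomputable def dsX (l : MulChar F ℂ) (θ : sl2T g →* ℂˣ) : SL2 F → ℂ := dsY l - dsZ θ

theorem isGeneralized_dsX (l : MulChar F ℂ) (θ : sl2T g →* ℂˣ) : IsGeneralizedCharacter (SL2 F) (dsX l θ) := by
  refine ⟨sl2St F * sl2Ind l, sl2Ind l + dsZ θ, IsCharacter.mul isCharacter_sl2St (isCharacter_sl2Ind l),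
    IsCharacter.add (isCharacter_sl2Ind l) (isCharacter_dsZ θ), ?_⟩
  funext h
  simp only [dsX, dsY, Pi.sub_apply, Pi.mul_apply, Pi.add_apply]
  ring

theorem isClassFunction_dsX (l : MulChar F ℂ) (θ : sl2T g →* ℂˣ) : IsClassFunction (SL2 F) (dsX l θ) :=
  IsClassFunction.sub (isClassFunction_dsY l) (IsCharacter.isClassFunction (isCharacter_dsZ θ))

theorem classInner_dsX_self (hodd : Odd (Fintype.card F)) (hg : sl2NoEig g) (l : MulChar F ℂ) (θ : sl2T g →* ℂˣ)
    (hl : l (-1) = ((θ (m1T g) : ℂˣ) : ℂ)) (hθ : ∃ c, θ c ^ 2 ≠ 1) :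
    classInner (dsX l θ) (dsX l θ) = 1 := by
  unfold dsX
  rw [classInner_sub_left, classInner_sub_right, classInner_sub_right, classInner_dsY_self hodd,
    classInner_dsY_dsZ hodd hg l θ hl, classInner_dsZ_self hodd hg θ hθ, classInner_conj_symm (dsZ θ) (dsY l),
    classInner_dsY_dsZ hodd hg l θ hl]
  simp only [map_mul, map_sub, map_one, Complex.conj_natCast]
  have : conj (2 : ℂ) = 2 := map_ofNat _ 2
  rw [this]
  ring

theorem dsX_one (hg : sl2NoEig g) (l : MulChar F ℂ) (θ : sl2T g →* ℂˣ) :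
    dsX l θ 1 = (Fintype.card F : ℂ) - 1 := by
  simp only [dsX, Pi.sub_apply, dsY_one, dsZ_one hg]
  ring

theorem isIrr_dsX (hodd : Odd (Fintype.card F)) (hg : sl2NoEig g) (l : MulChar F ℂ) (θ : sl2T g →* ℂˣ)
    (hl : l (-1) = ((θ (m1T g) : ℂˣ) : ℂ)) (hθ : ∃ c, θ c ^ 2 ≠ 1) : IsIrrCharacter (SL2 F) (dsX l θ) := by
  have hq : 2 ≤ Fintype.card F := Fintype.one_lt_card
  apply isIrr_of_generalized (isGeneralized_dsX l θ) (classInner_dsX_self hodd hg l θ hl hθ) (n := Fintype.card F - 1)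
  · rw [dsX_one hg, Nat.cast_sub (by omega)]
    simp
  · omega

end

end Cfsg.Agent.Lib.Known
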