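import Mathlib
import Cfsg.Agent.Lib.Known.Discrete2

set_option autoImplicit false

/-! The discrete series of `SL₂(F)`, part 3: values and cuspidality. -/

namespace Cfsg.Agent.Lib.Known

open Cfsg Cfsg.Agent.Lib.Char
open scoped ComplexConjugate

variable {F : Type*} [Field F] [Fintype F] [DecidableEq F]

theorem exists_mulChar_M1 (hodd : Odd (Fintype.card F)) (e : ℂ) (he : e * e = 1) : ∃ l : MulChar F ℂ, l (-1) = e := by
  have h2 : (2 : F) ≠ 0 := two_ne_zero_of_odd hodd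
  have he' : e = 1 ∨ e = -1 := by
    have : (e - 1) * (e + 1) = 0 := by linear_combination he
    rcases mul_eq_zero.mp this with h | h
    · left; linear_combination h
    · right; linear_combination h
  rcases he' with rfl | rfl
  · refine ⟨1, ?_⟩
    rw [MulChar.one_apply (isUnit_one.neg)]
  · have hne : (-1 : F) ≠ 1 := by
      intro h
      apply h2
      linear_combination -h
    obtain ⟨α, hα⟩ := MulChar.exists_apply_ne_one_of_hasEnoughRootsOfUnity F ℂ hne
    refine ⟨α, ?_⟩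
    have : (α (-1) - 1) * (α (-1) + 1) = 0 := by linear_combination mulChar_M1_sq α
    rcases mul_eq_zero.mp this with h | h
    · exact absurd (sub_eq_zero.mp h) hα
    · linear_combination h

section

variable {g : SL2 F}

theorem borelMk_not_noEig (a : Fˣ) (v : F) : ¬ sl2NoEig (sl2BorelMk a v) := by
  rw [sl2NoEig_iff]
  intro h
  apply h a
  have ha : (a : F) * ((a⁻¹ : Fˣ) : F) = 1 := by simp
  rw [sl2Tr_eq]
  simp only [sl2BorelMk, sl2Mk_00, sl2Mk_11]
  linear_combination -ha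

theorem borelMk_not_scalar (a : Fˣ) (v : F) (h : (a : F) ^ 2 ≠ 1 ∨ v ≠ 0) :
    ¬ m2Scalar ((sl2BorelMk a v : SL2 F) : Matrix (Fin 2) (Fin 2) F) := by
  rintro ⟨h1, h2, h3⟩
  rcases h with h | h
  · apply h
    simp only [sl2BorelMk, sl2Mk_00, sl2Mk_11] at h3
    have ha : (a : F) * ((a⁻¹ : Fˣ) : F) = 1 := by simp
    rw [pow_two]
    nth_rewrite 2 [h3]
    exact ha
  · exact h h1

theorem dsX_M1_mul (hg : sl2NoEig g) {l : MulChar F ℂ} {θ : sl2T g →* ℂˣ}
    (hl : l (-1) = ((θ (m1T g) : ℂˣ) : ℂ)) (h : SL2 F) :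
    dsX l θ (sl2M1 F * h) = ((θ (m1T g) : ℂˣ) : ℂ) * dsX l θ h := by
  simp only [dsX, Pi.sub_apply, dsY_M1_mul, dsZ_M1_mul, hl]
  ring

theorem dsX_regular_T (hodd : Odd (Fintype.card F)) (hg : sl2NoEig g) (l : MulChar F ℂ) (θ : sl2T g →* ℂˣ) (c : sl2T g)
    (hs : ¬ m2Scalar (((c : SL2 F)) : Matrix (Fin 2) (Fin 2) F)) :
    dsX l θ c = -((θ c : ℂˣ) : ℂ) - ((θ c⁻¹ : ℂˣ) : ℂ) := by
  classical
  haveI : Fintype (sl2T g) := Fintype.ofFinite _
  obtain ⟨w, hw⟩ := exists_inverting hg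
  have D := torusData_noEig (two_ne_zero_of_odd hodd) hg hw
  simp only [dsX, Pi.sub_apply]
  rw [dsY_noEig l (noEig_of_mem_T hg c.2 hs), dsZ_regular ⟨w, _, D⟩ hg θ c hs]
  ring

theorem dsX_borel_regular (hg : sl2NoEig g) (l : MulChar F ℂ) (θ : sl2T g →* ℂˣ) (a : Fˣ) (ha : (a : F) ^ 2 ≠ 1) (v : F) :
    dsX l θ (sl2BorelMk a v) = 0 := by
  simp only [dsX, Pi.sub_apply]
  rw [dsY_regular l a ha v, dsZ_eq_zero hg θ (borelMk_not_noEig a v) (borelMk_not_scalar a v (Or.inl ha))]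
  ring

theorem dsX_U (hg : sl2NoEig g) (l : MulChar F ℂ) (θ : sl2T g →* ℂˣ) {v : F} (hv : v ≠ 0) : dsX l θ (sl2U v) = -1 := by
  simp only [dsX, Pi.sub_apply]
  rw [← sl2BorelMk_one, dsZ_eq_zero hg θ (borelMk_not_noEig 1 v) (borelMk_not_scalar 1 v (Or.inr hv)), sl2BorelMk_one, dsY_U l hv]
  ring

theorem sum_dsX_U (hg : sl2NoEig g) (l : MulChar F ℂ) (θ : sl2T g →* ℂˣ) : ∑ v : F, dsX l θ (sl2U v) = 0 := by
  rw [sum_field_split, sl2U_zero, dsX_one hg]
  have : ∀ u : Fˣ, dsX l θ (sl2U (u : F)) = -1 := fun u => dsX_U hg l θ u.ne_zero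
  simp only [this]
  simp [Finset.card_univ, Fintype.card_units]
  rw [Nat.cast_sub Fintype.card_pos]
  simp

theorem dsX_cusp (hodd : Odd (Fintype.card F)) (hg : sl2NoEig g) {l : MulChar F ℂ} {θ : sl2T g →* ℂˣ}
    (hl : l (-1) = ((θ (m1T g) : ℂˣ) : ℂ)) : sl2Cusp (dsX l θ) := by
  classical
  have h2 : (2 : F) ≠ 0 := two_ne_zero_of_odd hodd
  intro α
  rw [classInner_sl2Ind_right _ (isClassFunction_dsX l θ)]
  have : ∀ u : Fˣ, ∑ v : F, dsX l θ (sl2BorelMk u v) * conj (α (u : F)) = 0 := by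
    intro u
    rw [← Finset.sum_mul]
    by_cases hu : (u : F) ^ 2 = 1
    · have h3 : ((u : F) - 1) * ((u : F) + 1) = 0 := by linear_combination hu
      rcases mul_eq_zero.mp h3 with h4 | h4
      · have hu1 : u = 1 := Units.ext (by simpa using sub_eq_zero.mp h4)
        subst hu1
        simp only [sl2BorelMk_one, sum_dsX_U hg l θ, zero_mul]
      · have hu1 : u = -1 := Units.ext (by simp only [Units.val_neg, Units.val_one]; linear_combination h4)
        subst hu1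
        have : ∑ v : F, dsX l θ (sl2BorelMk (-1) v) = ((θ (m1T g) : ℂˣ) : ℂ) * ∑ v : F, dsX l θ (sl2U v) := by
          rw [← Equiv.sum_comp (Equiv.neg F) (fun v => dsX l θ (sl2U v)), Finset.mul_sum]
          apply Finset.sum_congr rfl
          intro v _
          rw [sl2BorelMk_M1, dsX_M1_mul hg hl]
          rfl
        rw [this, sum_dsX_U hg l θ]
        ring
    · have : ∀ v : F, dsX l θ (sl2BorelMk u v) = 0 := fun v => dsX_borel_regular hg l θ u hu v
      simp only [this]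
      simp
  simp only [this]
  simp

theorem sl2Mult_dsX (hg : sl2NoEig g) (l : MulChar F ℂ) (θ : sl2T g →* ℂˣ) (φ : AddChar F ℂ) (hφ : φ ≠ 1) {s : F} (hs : s ≠ 0) :
    sl2Mult φ (dsX l θ) s = 1 := by
  classical
  have hq := card_ne_zero_complex (F := F)
  unfold sl2Mult
  rw [sum_field_split]
  have h1 : ∀ u : Fˣ, dsX l θ (sl2U (u : F)) * conj (φ (s * (u : F))) = -conj (φ (s * (u : F))) := by
    intro u
    rw [dsX_U hg l θ u.ne_zero]
    ring
  simp only [h1, sl2U_zero, dsX_one hg, mul_zero, AddChar.map_zero_eq_one, map_one, mul_one]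
  have h2 : ∑ u : Fˣ, -conj (φ (s * (u : F))) = 1 := by
    rw [Finset.sum_neg_distrib, ← map_sum]
    have h3 := sum_field_split (fun v => φ (s * v))
    have h4 : ∑ v : F, φ (s * v) = 0 := by
      have := Equiv.sum_comp (Equiv.mulLeft₀ s hs) (fun v => φ v)
      simp only [Equiv.mulLeft₀_apply] at this
      rw [this]
      exact AddChar.sum_eq_zero_of_ne_one hφ
    rw [h4] at h3
    simp only [mul_zero, AddChar.map_zero_eq_one] at h3
    have h5 : ∑ u : Fˣ, φ (s * (u : F)) = -1 := by linear_combination -h3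
    rw [h5]
    simp
  rw [h2]
  field_simp
  ring

end

namespace SL2OddData

variable (D : SL2OddData F)

theorem dsX_mem_C11 (hodd : Odd (Fintype.card F)) {g : SL2 F} (hg : sl2NoEig g) {l : MulChar F ℂ} {θ : sl2T g →* ℂˣ}
    (hl : l (-1) = ((θ (m1T g) : ℂˣ) : ℂ)) (hθ : ∃ c, θ c ^ 2 ≠ 1) :
    (⟨dsX l θ, isIrr_dsX hodd hg l θ hl hθ⟩ : IrrCharacter (SL2 F)) ∈ D.C11 := by
  classical
  simp only [C11, Finset.mem_filter]
  refine ⟨?_, ?_, ?_⟩
  · simpa [sl2CuspSet] using dsX_cusp hodd hg hl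
  · apply D.N1_of_eq
    simpa using sl2Mult_dsX hg l θ D.φ D.hφ one_ne_zero
  · apply D.N2_of_eq
    simpa using sl2Mult_dsX hg l θ D.φ D.hφ D.ε.ne_zero

end SL2OddData

end Cfsg.Agent.Lib.Known
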