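import Mathlib
import Cfsg.Agent.Lib.Known.Discrete3

set_option autoImplicit false

/-! The discrete series of `SL₂(F)`, part 4: the bijection with pairs of characters of the torus. -/

namespace Cfsg.Agent.Lib.Known

open Cfsg Cfsg.Agent.Lib.Char
open scoped ComplexConjugate

variable {F : Type*} [Field F] [Fintype F] [DecidableEq F]

/-- Elements with an eigenvector are conjugate into the Borel subgroup. -/
theorem sl2_exists_conj_borelMk {h : SL2 F} (hh : ¬ sl2NoEig h) : ∃ (x : SL2 F) (a : Fˣ) (v : F), x⁻¹ * h * x = sl2BorelMk a v := by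
  unfold sl2NoEig at hh
  push Not at hh
  obtain ⟨c, v, hv, hc⟩ := hh
  have e0 := congrFun hc 0
  have e1 := congrFun hc 1
  simp only [Matrix.mulVec, dotProduct, Fin.sum_univ_two, Pi.smul_apply, smul_eq_mul] at e0 e1
  have hfix : ∃ ℓ, sl2Fix h ℓ := by
    by_cases hv1 : v 1 = 0
    · refine ⟨none, ?_⟩
      simp only [sl2Fix]
      have hv0 : v 0 ≠ 0 := by
        intro h0
        apply hv
        funext i
        fin_cases i
        · exact h0
        · exact hv1
      rw [hv1, mul_zero, mul_zero, add_zero] at e1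
      exact (mul_eq_zero.mp e1).resolve_right hv0
    · refine ⟨some (v 0 / v 1), ?_⟩
      simp only [sl2Fix]
      field_simp
      linear_combination (v 0) * e1 - (v 1) * e0
  obtain ⟨ℓ, hℓ⟩ := hfix
  have hm := (sl2Rep_conj_mem_iff h ℓ).mpr hℓ
  obtain ⟨a, w, hw, _, _⟩ := sl2_exists_borelMk _ ((mem_sl2Borel_iff _).mp hm)
  exact ⟨sl2Rep ℓ, a, w, hw⟩

section

variable {g : SL2 F}

theorem class_ext (hg : sl2NoEig g) {f f' : SL2 F → ℂ} (hf : IsClassFunction (SL2 F) f) (hf' : IsClassFunction (SL2 F) f')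
    (hT : ∀ c : sl2T g, f c = f' c) (hB : ∀ (a : Fˣ) (v : F), f (sl2BorelMk a v) = f' (sl2BorelMk a v)) : f = f' := by
  funext h
  by_cases hh : sl2NoEig h
  · obtain ⟨x, hx⟩ := exists_conj_mem_centralizer hg hh
    have := hT ⟨_, hx⟩
    simp only at this
    rwa [hf, hf'] at this
  · obtain ⟨x, a, v, e⟩ := sl2_exists_conj_borelMk hh
    have := hB a v
    rw [← e] at this
    have h1 := hf h x⁻¹
    have h2 := hf' h x⁻¹
    rw [inv_inv] at h1 h2
    rwa [h1, h2] at this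

theorem T_sq_cases (hodd : Odd (Fintype.card F)) {a : Fˣ} (ha : (a : F) ^ 2 = 1) : a = 1 ∨ a = -1 := by
  have h3 : ((a : F) - 1) * ((a : F) + 1) = 0 := by linear_combination ha
  rcases mul_eq_zero.mp h3 with h4 | h4
  · left
    exact Units.ext (by simpa using sub_eq_zero.mp h4)
  · right
    exact Units.ext (by simp only [Units.val_neg, Units.val_one]; linear_combination h4)

/-- `X_θ` depends only on `θ(-1)` and on the symmetric functions `θ(c) + θ(c⁻¹)`. -/
theorem dsX_ext (hodd : Odd (Fintype.card F)) (hg : sl2NoEig g) {l l' : MulChar F ℂ} {θ θ' : sl2T g →* ℂˣ}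
    (hl : l (-1) = ((θ (m1T g) : ℂˣ) : ℂ)) (hl' : l' (-1) = ((θ' (m1T g) : ℂˣ) : ℂ))
    (he : ((θ (m1T g) : ℂˣ) : ℂ) = ((θ' (m1T g) : ℂˣ) : ℂ))
    (hc : ∀ c : sl2T g, ¬ m2Scalar (((c : SL2 F)) : Matrix (Fin 2) (Fin 2) F) →
      ((θ c : ℂˣ) : ℂ) + ((θ c⁻¹ : ℂˣ) : ℂ) = ((θ' c : ℂˣ) : ℂ) + ((θ' c⁻¹ : ℂˣ) : ℂ)) :
    dsX l θ = dsX l' θ' := by
  have hm : dsX l θ (sl2M1 F) = dsX l' θ' (sl2M1 F) := by
    have e1 := dsX_M1_mul hg hl 1
    have e2 := dsX_M1_mul hg hl' 1
    rw [mul_one] at e1 e2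
    rw [e1, e2, dsX_one hg, dsX_one hg, he]
  have hU : ∀ v : F, dsX l θ (sl2U v) = dsX l' θ' (sl2U v) := by
    intro v
    by_cases hv : v = 0
    · subst hv
      rw [sl2U_zero, dsX_one hg, dsX_one hg]
    · rw [dsX_U hg l θ hv, dsX_U hg l' θ' hv]
  apply class_ext hg (isClassFunction_dsX l θ) (isClassFunction_dsX l' θ')
  · intro c
    rcases T_eq_or_regular hg c with h | h | h
    · subst h
      change dsX l θ 1 = dsX l' θ' 1
      rw [dsX_one hg, dsX_one hg]
    · subst h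
      exact hm
    · rw [dsX_regular_T hodd hg l θ c h, dsX_regular_T hodd hg l' θ' c h]
      linear_combination -hc c h
  · intro a v
    by_cases ha : (a : F) ^ 2 = 1
    · rcases T_sq_cases hodd ha with rfl | rfl
      · rw [sl2BorelMk_one]
        exact hU v
      · rw [sl2BorelMk_M1, dsX_M1_mul hg hl, dsX_M1_mul hg hl', hU, he]
    · rw [dsX_borel_regular hg l θ a ha, dsX_borel_regular hg l' θ' a ha]

/-- The commutative group structure on the torus. -/
@[reducible] noncomputable def sl2TComm (hg : sl2NoEig g) : CommGroup (sl2T g) :=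
  { (inferInstance : Group (sl2T g)) with
    mul_comm := fun a b => Subtype.ext (centralizer_comm hg a.2 b.2) }

theorem exists_dual_equiv (hg : sl2NoEig g) : Nonempty ((sl2T g →* ℂˣ) ≃* sl2T g) := by
  letI := sl2TComm hg
  exact CommGroup.monoidHom_mulEquiv_of_hasEnoughRootsOfUnity (sl2T g) ℂ

theorem finite_dual (hg : sl2NoEig g) : Finite (sl2T g →* ℂˣ) := by
  obtain ⟨e⟩ := exists_dual_equiv hg
  exact Finite.of_equiv _ e.symm.toEquiv

theorem card_dual (hg : sl2NoEig g) : Nat.card (sl2T g →* ℂˣ) = Fintype.card F + 1 := by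
  obtain ⟨e⟩ := exists_dual_equiv hg
  rw [Nat.card_congr e.toEquiv, card_centralizer_noEig hg]

theorem card_dual_sq (hodd : Odd (Fintype.card F)) (hg : sl2NoEig g) :
    Nat.card {θ : sl2T g →* ℂˣ // ∀ c, θ c ^ 2 = 1} = 2 := by
  classical
  obtain ⟨e⟩ := exists_dual_equiv hg
  have h2 : (2 : F) ≠ 0 := two_ne_zero_of_odd hodd
  have h1 : Nat.card {θ : sl2T g →* ℂˣ // ∀ c, θ c ^ 2 = 1} = Nat.card ({1, m1T g} : Finset (sl2T g)) := by
    apply Nat.card_congr
    refine Equiv.ofBijective (fun θ => ⟨e θ.1, ?_⟩) ⟨?_, ?_⟩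
    · have h3 : e θ.1 * e θ.1 = 1 := by
        rw [← map_mul]
        have h5 : θ.1 * θ.1 = 1 := by
          ext c
          have := θ.2 c
          simp only [MonoidHom.mul_apply, MonoidHom.one_apply, ← pow_two, this]
        rw [h5, map_one]
      rcases sq_one_of_mem_centralizer hg (e θ.1).2 (congrArg Subtype.val h3) with h4 | h4
      · have : e θ.1 = 1 := Subtype.ext h4
        simp [this]
      · have : e θ.1 = m1T g := Subtype.ext (sl2_eq_M1 h4)
        simp [this]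
    · rintro ⟨a, _⟩ ⟨b, _⟩ h
      have : e a = e b := by simpa using h
      exact Subtype.ext (e.injective this)
    · rintro ⟨c, hc⟩
      have hc' : c * c = 1 := by
        have : c = 1 ∨ c = m1T g := by simpa using hc
        rcases this with rfl | rfl
        · simp
        · exact m1T_mul_self
      refine ⟨⟨e.symm c, ?_⟩, ?_⟩
      · intro x
        have h5 : e.symm c * e.symm c = 1 := by
          rw [← map_mul, hc', map_one]
        have := DFunLike.congr_fun h5 x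
        simpa only [MonoidHom.mul_apply, MonoidHom.one_apply, ← pow_two] using this
      · apply Subtype.ext
        simp
  rw [h1, Nat.card_eq_fintype_card, Fintype.card_coe, Finset.card_pair (m1T_ne_one h2).symm]

theorem sum_hom_zero (τ : sl2T g →* ℂˣ) [Fintype (sl2T g)] (hτ : τ ≠ 1) : ∑ c : sl2T g, ((τ c : ℂˣ) : ℂ) = 0 := by
  let τ' : sl2T g →* ℂ := (Units.coeHom ℂ).comp τ
  have h : τ' ≠ 1 := by
    intro h
    apply hτ
    ext c
    have := congrArg (fun f : sl2T g →* ℂ => f c) h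
    simpa [τ'] using this
  simpa [τ'] using sum_hom_units_eq_zero τ' h

theorem dual_eq_of_sum (hg : sl2NoEig g) {θ θ' : sl2T g →* ℂˣ} (hθ : ∃ c, θ c ^ 2 ≠ 1)
    (h : ∀ c : sl2T g, ((θ c : ℂˣ) : ℂ) + ((θ c⁻¹ : ℂˣ) : ℂ) = ((θ' c : ℂˣ) : ℂ) + ((θ' c⁻¹ : ℂˣ) : ℂ)) :
    θ' = θ ∨ θ' = θ⁻¹ := by
  classical
  haveI : Fintype (sl2T g) := Fintype.ofFinite _
  by_contra hcon
  push Not at hcon
  have h1 : ∑ c : sl2T g, ((θ c : ℂˣ) : ℂ) * ((θ c⁻¹ : ℂˣ) : ℂ) + ∑ c : sl2T g, ((θ c⁻¹ : ℂˣ) : ℂ) ^ 2 =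
      ∑ c : sl2T g, (((θ' * θ⁻¹) c : ℂˣ) : ℂ) + ∑ c : sl2T g, ((((θ' * θ)⁻¹) c : ℂˣ) : ℂ) := by
    rw [← Finset.sum_add_distrib, ← Finset.sum_add_distrib]
    apply Finset.sum_congr rfl
    intro c _
    have e1 : (((θ' * θ⁻¹) c : ℂˣ) : ℂ) = ((θ' c : ℂˣ) : ℂ) * ((θ c⁻¹ : ℂˣ) : ℂ) := by
      simp [MonoidHom.mul_apply, MonoidHom.inv_apply, map_inv]
    have e2 : ((((θ' * θ)⁻¹) c : ℂˣ) : ℂ) = ((θ' c⁻¹ : ℂˣ) : ℂ) * ((θ c⁻¹ : ℂˣ) : ℂ) := by
      simp [MonoidHom.mul_apply, MonoidHom.inv_apply, map_inv, mul_comm]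
    rw [e1, e2]
    linear_combination ((θ c⁻¹ : ℂˣ) : ℂ) * h c
  rw [sum_theta_sq θ hθ, sum_hom_zero, sum_hom_zero] at h1
  · simp only [theta_mul_conj, Finset.sum_const, Finset.card_univ, nsmul_eq_mul, mul_one, add_zero] at h1
    rw [← Nat.card_eq_fintype_card, card_centralizer_noEig hg] at h1
    exact card_ne_zero_add_one (F := F) (by exact_mod_cast h1)
  · intro h3
    apply hcon.2
    ext c
    have := DFunLike.congr_fun h3 c
    simp only [MonoidHom.inv_apply, MonoidHom.mul_apply, MonoidHom.one_apply, inv_eq_one] at this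
    have h4 : θ' c = (θ c)⁻¹ := eq_inv_of_mul_eq_one_left this
    rw [h4]
    rfl
  · intro h3
    apply hcon.1
    ext c
    have := DFunLike.congr_fun h3 c
    simp only [MonoidHom.inv_apply, MonoidHom.mul_apply, MonoidHom.one_apply] at this
    have h4 : θ' c = θ c := mul_inv_eq_one.mp this
    rw [h4]

end

end Cfsg.Agent.Lib.Known
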