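import Mathlib
import Cfsg.Agent.Lib.Known.Discrete4

set_option autoImplicit false

/-! The discrete series of `SL₂(F)`, part 5: every character of type `C11` is an `X_θ`. -/

namespace Cfsg.Agent.Lib.Known

open Cfsg Cfsg.Agent.Lib.Char
open scoped ComplexConjugate

variable {F : Type*} [Field F] [Fintype F] [DecidableEq F]

section

variable {g : SL2 F}

/-- A choice of `l` with `l(-1) = θ(-1)`. -/
noncomputable def dsL (hodd : Odd (Fintype.card F)) (θ : sl2T g →* ℂˣ) : MulChar F ℂ :=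
  Classical.choose (exists_mulChar_M1 hodd _ (theta_m1_sq θ))

theorem dsL_spec (hodd : Odd (Fintype.card F)) (θ : sl2T g →* ℂˣ) : dsL hodd θ (-1) = ((θ (m1T g) : ℂˣ) : ℂ) :=
  Classical.choose_spec (exists_mulChar_M1 hodd _ (theta_m1_sq θ))

/-- The function `X_θ`. -/
noncomputable def dsHat (hodd : Odd (Fintype.card F)) (θ : sl2T g →* ℂˣ) : SL2 F → ℂ := dsX (dsL hodd θ) θ

theorem isIrr_dsHat (hodd : Odd (Fintype.card F)) (hg : sl2NoEig g) (θ : sl2T g →* ℂˣ) (hθ : ∃ c, θ c ^ 2 ≠ 1) :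
    IsIrrCharacter (SL2 F) (dsHat hodd θ) :=
  isIrr_dsX hodd hg _ θ (dsL_spec hodd θ) hθ

theorem theta_m1_inv (θ : sl2T g →* ℂˣ) : θ⁻¹ (m1T g) = θ (m1T g) := by
  rw [MonoidHom.inv_apply, ← map_inv, m1T_inv]

theorem dsHat_inv (hodd : Odd (Fintype.card F)) (hg : sl2NoEig g) (θ : sl2T g →* ℂˣ) : dsHat hodd θ⁻¹ = dsHat hodd θ := by
  apply dsX_ext hodd hg (dsL_spec hodd _) (dsL_spec hodd _)
  · rw [theta_m1_inv]
  · intro c _
    simp only [MonoidHom.inv_apply, map_inv, inv_inv]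
    ring

theorem dsHat_eq_iff (hodd : Odd (Fintype.card F)) (hg : sl2NoEig g) {θ θ' : sl2T g →* ℂˣ} (hθ : ∃ c, θ c ^ 2 ≠ 1) :
    dsHat hodd θ' = dsHat hodd θ ↔ θ' = θ ∨ θ' = θ⁻¹ := by
  have hq := card_sub_one_ne_zero_complex (F := F)
  constructor
  · intro h
    have hm : ((θ (m1T g) : ℂˣ) : ℂ) = ((θ' (m1T g) : ℂˣ) : ℂ) := by
      have e1 := dsX_M1_mul hg (dsL_spec hodd θ) 1
      have e2 := dsX_M1_mul hg (dsL_spec hodd θ') 1
      rw [mul_one] at e1 e2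
      have h3 := congrFun h (sl2M1 F)
      unfold dsHat at h3
      rw [e1, e2, dsX_one hg, dsX_one hg] at h3
      exact (mul_right_cancel₀ hq h3).symm
    apply dual_eq_of_sum hg hθ
    intro c
    rcases T_eq_or_regular hg c with h1 | h1 | h1
    · subst h1
      simp
    · subst h1
      rw [m1T_inv, hm]
    · have h3 := congrFun h (c : SL2 F)
      unfold dsHat at h3
      rw [dsX_regular_T hodd hg _ θ c h1, dsX_regular_T hodd hg _ θ' c h1] at h3
      linear_combination h3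
  · rintro (rfl | rfl)
    · rfl
    · exact dsHat_inv hodd hg θ

end

/-- The fibres of `f` on `s` are pairs `{x, inv x}`. -/
theorem fiber_card_eq_two {X Y : Type*} [DecidableEq X] [DecidableEq Y] (s : Finset X) (f : X → Y) (inv : X → X)
    (hs : ∀ x ∈ s, inv x ∈ s) (hne : ∀ x ∈ s, inv x ≠ x)
    (hf : ∀ x ∈ s, ∀ x' ∈ s, f x' = f x ↔ x' = x ∨ x' = inv x) :
    ∀ y ∈ s.image f, (s.filter (fun x => f x = y)).card = 2 := by
  intro y hy
  obtain ⟨x, hx, rfl⟩ := Finset.mem_image.mp hy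
  rw [Finset.card_eq_two]
  refine ⟨x, inv x, (hne x hx).symm, ?_⟩
  ext x'
  simp only [Finset.mem_filter, Finset.mem_insert, Finset.mem_singleton]
  constructor
  · rintro ⟨h1, h2⟩
    exact (hf x hx x' h1).mp h2
  · rintro (rfl | rfl)
    · exact ⟨hx, rfl⟩
    · exact ⟨hs x hx, ((hf x hx _ (hs x hx)).mpr (Or.inr rfl))⟩

theorem sum_eq_two_mul_image {X Y : Type*} [DecidableEq Y] (s : Finset X) (f : X → Y) (G : Y → ℂ)
    (h : ∀ y ∈ s.image f, (s.filter (fun x => f x = y)).card = 2) :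
    ∑ x ∈ s, G (f x) = 2 * ∑ y ∈ s.image f, G y := by
  rw [Finset.sum_comp, Finset.mul_sum]
  apply Finset.sum_congr rfl
  intro y hy
  rw [h y hy]
  simp

theorem card_filter_not_eq {X : Type*} [Fintype X] (P Q : X → Prop) (h : ∀ x, ¬ P x ↔ Q x) [DecidablePred P] :
    (Finset.univ.filter (fun x => ¬ P x)).card = Nat.card {x // Q x} := by
  classical
  rw [Nat.card_eq_fintype_card, Fintype.card_subtype]
  congr 1
  ext x
  simp [h]

section

variable {g : SL2 F}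

open scoped _root_.Classical in
/-- The set of characters of the torus with `θ² ≠ 1`. -/
noncomputable def thetaSet (g : SL2 F) [Fintype (sl2T g →* ℂˣ)] : Finset (sl2T g →* ℂˣ) :=
  Finset.univ.filter (fun θ => ∃ c, θ c ^ 2 ≠ 1)

theorem mem_thetaSet [Fintype (sl2T g →* ℂˣ)] {θ : sl2T g →* ℂˣ} : θ ∈ thetaSet g ↔ ∃ c, θ c ^ 2 ≠ 1 := by
  simp [thetaSet]

theorem card_thetaSet (hodd : Odd (Fintype.card F)) (hg : sl2NoEig g) [Fintype (sl2T g →* ℂˣ)] :
    (thetaSet g).card + 2 = Fintype.card F + 1 := by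
  classical
  have h1 := card_dual_sq hodd hg
  have h2 := card_dual hg
  rw [Nat.card_eq_fintype_card] at h2
  have h3 := Finset.card_filter_add_card_filter_not (s := (Finset.univ : Finset (sl2T g →* ℂˣ))) (fun θ => ∃ c, θ c ^ 2 ≠ 1)
  rw [Finset.card_univ, h2] at h3
  have h4 : (Finset.univ.filter (fun θ : sl2T g →* ℂˣ => ¬ ∃ c, θ c ^ 2 ≠ 1)).card = 2 := by
    rw [card_filter_not_eq _ (fun θ : sl2T g →* ℂˣ => ∀ c, θ c ^ 2 = 1) (by simp), h1]
  rw [h4] at h3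
  have e : (thetaSet g).card = (Finset.univ.filter (fun θ : sl2T g →* ℂˣ => ∃ c, θ c ^ 2 ≠ 1)).card := by
    unfold thetaSet
    congr
  rw [e]
  exact h3

theorem thetaSet_inv [Fintype (sl2T g →* ℂˣ)] {θ : sl2T g →* ℂˣ} (h : θ ∈ thetaSet g) : θ⁻¹ ∈ thetaSet g := by
  rw [mem_thetaSet] at h ⊢
  obtain ⟨c, hc⟩ := h
  refine ⟨c, ?_⟩
  intro h1
  apply hc
  simp only [MonoidHom.inv_apply, inv_pow, inv_eq_one] at h1
  exact h1

theorem thetaSet_ne_inv [Fintype (sl2T g →* ℂˣ)] {θ : sl2T g →* ℂˣ} (h : θ ∈ thetaSet g) : θ⁻¹ ≠ θ := by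
  rw [mem_thetaSet] at h
  obtain ⟨c, hc⟩ := h
  intro h1
  apply hc
  have h2 := DFunLike.congr_fun h1 c
  simp only [MonoidHom.inv_apply] at h2
  rw [pow_two]
  nth_rewrite 1 [← h2]
  simp

end

namespace SL2OddData

variable (D : SL2OddData F)

/-- The fibres of `θ ↦ X_θ`. -/
theorem dsHat_fibers (hodd : Odd (Fintype.card F)) {g : SL2 F} (hg : sl2NoEig g) [Fintype (sl2T g →* ℂˣ)] [DecidableEq (SL2 F → ℂ)] [DecidableEq (sl2T g →* ℂˣ)] :
    ∀ y ∈ (thetaSet g).image (dsHat hodd), ((thetaSet g).filter (fun x => dsHat hodd x = y)).card = 2 :=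
  fiber_card_eq_two _ _ (fun θ => θ⁻¹) (fun _ h => thetaSet_inv h) (fun _ h => thetaSet_ne_inv h)
    (fun _ h _ _ => dsHat_eq_iff hodd hg (mem_thetaSet.mp h))

/-- Every character in `C11` is an `X_θ`. -/
theorem image_thetaSet (hodd : Odd (Fintype.card F)) {g : SL2 F} (hg : sl2NoEig g) [Fintype (sl2T g →* ℂˣ)] [DecidableEq (SL2 F → ℂ)] :
    (thetaSet g).image (dsHat hodd) = D.C11.image (fun χ : IrrCharacter (SL2 F) => (χ : SL2 F → ℂ)) := by
  classical
  obtain ⟨r, hr⟩ := odd_eq (F := F) hodd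
  obtain ⟨c11, _, _⟩ := D.card_cusp_types hodd r hr
  have h1 := Finset.card_eq_sum_card_image (dsHat (g := g) hodd) (thetaSet g)
  rw [Finset.sum_congr rfl (dsHat_fibers hodd hg)] at h1
  simp only [Finset.sum_const, smul_eq_mul, mul_two] at h1
  have h2 := card_thetaSet hodd hg
  have hsub : (thetaSet g).image (dsHat hodd) ⊆ D.C11.image (fun χ : IrrCharacter (SL2 F) => (χ : SL2 F → ℂ)) := by
    intro y hy
    obtain ⟨θ, hθ, rfl⟩ := Finset.mem_image.mp hy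
    exact Finset.mem_image.mpr ⟨_, D.dsX_mem_C11 hodd hg (dsL_spec hodd θ) (mem_thetaSet.mp hθ), rfl⟩
  apply Finset.eq_of_subset_of_card_le hsub
  rw [Finset.card_image_of_injective _ Subtype.val_injective, c11]
  omega

theorem exists_theta_of_mem_C11 (hodd : Odd (Fintype.card F)) {g : SL2 F} (hg : sl2NoEig g) {χ : IrrCharacter (SL2 F)}
    (hχ : χ ∈ D.C11) : ∃ θ : sl2T g →* ℂˣ, (∃ c, θ c ^ 2 ≠ 1) ∧ (χ : SL2 F → ℂ) = dsHat hodd θ := by
  classical
  haveI := finite_dual hg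
  haveI : Fintype (sl2T g →* ℂˣ) := Fintype.ofFinite _
  have h := D.image_thetaSet hodd hg
  have h1 : (χ : SL2 F → ℂ) ∈ (thetaSet g).image (dsHat hodd) := by
    rw [h]
    exact Finset.mem_image.mpr ⟨χ, hχ, rfl⟩
  obtain ⟨θ, hθ, e⟩ := Finset.mem_image.mp h1
  exact ⟨θ, mem_thetaSet.mp hθ, e.symm⟩

end SL2OddData

end Cfsg.Agent.Lib.Known
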