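import Mathlib
import Cfsg.Agent.Lib.Known.Discrete5

set_option autoImplicit false

/-! The discrete series of `SL₂(F)`, part 6: the sign character of the torus and sums over `C11`. -/

namespace Cfsg.Agent.Lib.Known

open Cfsg Cfsg.Agent.Lib.Char
open scoped ComplexConjugate

variable {F : Type*} [Field F] [Fintype F] [DecidableEq F]

section

variable {g : SL2 F}

theorem T_pow_half_sq (hodd : Odd (Fintype.card F)) (hg : sl2NoEig g) (c : sl2T g) :
    c ^ ((Fintype.card F + 1) / 2) * c ^ ((Fintype.card F + 1) / 2) = 1 := by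
  rw [← pow_add]
  have h1 : (Fintype.card F + 1) / 2 + (Fintype.card F + 1) / 2 = Nat.card (sl2T g) := by
    rw [card_centralizer_noEig hg]
    obtain ⟨k, hk⟩ := hodd
    omega
  rw [h1, pow_card_eq_one']

theorem T_pow_half_cases (hodd : Odd (Fintype.card F)) (hg : sl2NoEig g) (c : sl2T g) :
    c ^ ((Fintype.card F + 1) / 2) = 1 ∨ c ^ ((Fintype.card F + 1) / 2) = m1T g := by
  have h := T_pow_half_sq hodd hg c
  rcases sq_one_of_mem_centralizer hg (c ^ ((Fintype.card F + 1) / 2)).2 (congrArg Subtype.val h) with h1 | h1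
  · left
    exact Subtype.ext h1
  · right
    exact Subtype.ext (sl2_eq_M1 h1)

open scoped _root_.Classical in
/-- The sign character of the torus. -/
noncomputable def sgnT (hodd : Odd (Fintype.card F)) (hg : sl2NoEig g) : sl2T g →* ℂˣ :=
  MonoidHom.mk' (fun c => if c ^ ((Fintype.card F + 1) / 2) = 1 then 1 else -1) (by
    intro a b
    have h2 : (2 : F) ≠ 0 := two_ne_zero_of_odd hodd
    have hab : (a * b) ^ ((Fintype.card F + 1) / 2) = a ^ ((Fintype.card F + 1) / 2) * b ^ ((Fintype.card F + 1) / 2) := by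
      have hc : Commute a b := Subtype.ext (centralizer_comm hg a.2 b.2)
      exact hc.mul_pow _
    have hm : (m1T g) ≠ 1 := m1T_ne_one h2
    rcases T_pow_half_cases hodd hg a with ha | ha <;> rcases T_pow_half_cases hodd hg b with hb | hb
    · simp [hab, ha, hb]
    · simp [hab, ha, hb, hm]
    · simp [hab, ha, hb, hm]
    · simp [hab, ha, hb, hm, m1T_mul_self])

open scoped _root_.Classical in
theorem sgnT_apply (hodd : Odd (Fintype.card F)) (hg : sl2NoEig g) (c : sl2T g) :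
    sgnT hodd hg c = if c ^ ((Fintype.card F + 1) / 2) = 1 then 1 else -1 := rfl

theorem sgnT_sq (hodd : Odd (Fintype.card F)) (hg : sl2NoEig g) (c : sl2T g) : sgnT hodd hg c ^ 2 = 1 := by
  classical
  rw [sgnT_apply]
  split_ifs <;> simp

theorem sgnT_ne_one (hodd : Odd (Fintype.card F)) (hg : sl2NoEig g) : sgnT hodd hg ≠ 1 := by
  classical
  intro h
  haveI := isCyclic_centralizer_noEig hg
  obtain ⟨c₀, hc₀⟩ := IsCyclic.exists_generator (α := sl2T g)
  have h1 : orderOf c₀ = Fintype.card F + 1 := by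
    rw [orderOf_eq_card_of_forall_mem_zpowers hc₀, card_centralizer_noEig hg]
  have h3 := DFunLike.congr_fun h c₀
  rw [sgnT_apply, MonoidHom.one_apply] at h3
  have h4 : c₀ ^ ((Fintype.card F + 1) / 2) = 1 := by
    by_contra hne
    rw [if_neg hne] at h3
    have h5 : (-1 : ℂˣ) = 1 := h3
    have h6 := congrArg (fun u : ℂˣ => (u : ℂ)) h5
    norm_num at h6
  have h7 := orderOf_dvd_of_pow_eq_one h4
  rw [h1] at h7
  have hq : 2 ≤ Fintype.card F := Fintype.one_lt_card
  have := Nat.le_of_dvd (by omega) h7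
  omega

/-- The characters with `θ² = 1` are `1` and the sign character. -/
theorem dual_sq_eq (hodd : Odd (Fintype.card F)) (hg : sl2NoEig g) (θ : sl2T g →* ℂˣ) (h : ¬ ∃ c, θ c ^ 2 ≠ 1) :
    θ = 1 ∨ θ = sgnT hodd hg := by
  classical
  have h1 := card_dual_sq hodd hg
  haveI := finite_dual hg
  by_contra hcon
  push Not at hcon
  have hcard : 3 ≤ Nat.card {θ : sl2T g →* ℂˣ // ∀ c, θ c ^ 2 = 1} := by
    have hθ : ∀ c, θ c ^ 2 = 1 := by simpa using h
    let f : Fin 3 → {θ : sl2T g →* ℂˣ // ∀ c, θ c ^ 2 = 1} := ![⟨1, by simp⟩, ⟨sgnT hodd hg, sgnT_sq hodd hg⟩, ⟨θ, hθ⟩]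
    have hf : Function.Injective f := by
      intro i j hij
      have h12 : (1 : sl2T g →* ℂˣ) ≠ sgnT hodd hg := (sgnT_ne_one hodd hg).symm
      have h13 : (1 : sl2T g →* ℂˣ) ≠ θ := Ne.symm hcon.1
      have h23 : sgnT hodd hg ≠ θ := Ne.symm hcon.2
      have hij' := congrArg Subtype.val hij
      fin_cases i <;> fin_cases j
      · rfl
      · exact absurd hij' h12
      · exact absurd hij' h13
      · exact absurd hij'.symm h12
      · rfl
      · exact absurd hij' h23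
      · exact absurd hij'.symm h13
      · exact absurd hij'.symm h23
      · rfl
    have := Nat.card_le_card_of_injective f hf
    simpa using this
  omega

theorem sum_dual_apply (hg : sl2NoEig g) [Fintype (sl2T g →* ℂˣ)] {c : sl2T g} (hc : c ≠ 1) :
    ∑ θ : sl2T g →* ℂˣ, ((θ c : ℂˣ) : ℂ) = 0 := by
  classical
  letI := sl2TComm hg
  obtain ⟨θ₁, hθ₁⟩ := CommGroup.exists_apply_ne_one_of_hasEnoughRootsOfUnity (sl2T g) ℂ hc
  have h1 : ((θ₁ c : ℂˣ) : ℂ) * ∑ θ : sl2T g →* ℂˣ, ((θ c : ℂˣ) : ℂ) = ∑ θ : sl2T g →* ℂˣ, ((θ c : ℂˣ) : ℂ) := by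
    rw [Finset.mul_sum]
    refine Fintype.sum_equiv (Equiv.mulLeft θ₁) _ _ fun θ => ?_
    simp [MonoidHom.mul_apply]
  have h2 : (((θ₁ c : ℂˣ) : ℂ) - 1) * ∑ θ : sl2T g →* ℂˣ, ((θ c : ℂˣ) : ℂ) = 0 := by
    linear_combination h1
  refine (mul_eq_zero.mp h2).resolve_left ?_
  intro h3
  apply hθ₁
  apply Units.ext
  simpa using sub_eq_zero.mp h3

/-- The sum of `θ(c)` over the characters with `θ² ≠ 1`. -/
theorem sum_thetaSet_apply (hodd : Odd (Fintype.card F)) (hg : sl2NoEig g) [Fintype (sl2T g →* ℂˣ)] {c : sl2T g} (hc : c ≠ 1) :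
    ∑ θ ∈ thetaSet g, ((θ c : ℂˣ) : ℂ) = -1 - ((sgnT hodd hg c : ℂˣ) : ℂ) := by
  classical
  have h0 := sum_dual_apply hg hc
  rw [← Finset.sum_filter_add_sum_filter_not Finset.univ (fun θ : sl2T g →* ℂˣ => ∃ c, θ c ^ 2 ≠ 1)] at h0
  have e : Finset.univ.filter (fun θ : sl2T g →* ℂˣ => ¬ ∃ c, θ c ^ 2 ≠ 1) = {1, sgnT hodd hg} := by
    ext θ
    simp only [Finset.mem_filter, Finset.mem_univ, true_and, Finset.mem_insert, Finset.mem_singleton]
    constructor
    · exact dual_sq_eq hodd hg θ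
    · rintro (rfl | rfl)
      · simp
      · have := sgnT_sq hodd hg
        simpa using this
  rw [e, Finset.sum_pair (sgnT_ne_one hodd hg).symm] at h0
  have e2 : ∑ θ ∈ thetaSet g, ((θ c : ℂˣ) : ℂ) = ∑ θ ∈ Finset.univ.filter (fun θ : sl2T g →* ℂˣ => ∃ c, θ c ^ 2 ≠ 1), ((θ c : ℂˣ) : ℂ) := by
    apply Finset.sum_congr _ (fun _ _ => rfl)
    ext θ
    simp [mem_thetaSet]
  rw [e2]
  simp only [MonoidHom.one_apply, Units.val_one] at h0
  linear_combination h0

theorem sum_thetaSet_inv_apply [Fintype (sl2T g →* ℂˣ)] (c : sl2T g) :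
    ∑ θ ∈ thetaSet g, ((θ c⁻¹ : ℂˣ) : ℂ) = ∑ θ ∈ thetaSet g, ((θ c : ℂˣ) : ℂ) := by
  classical
  apply Finset.sum_nbij (fun θ => θ⁻¹)
  · intro θ hθ
    exact thetaSet_inv hθ
  · intro a _ b _ h
    exact inv_injective h
  · intro θ hθ
    exact ⟨θ⁻¹, thetaSet_inv hθ, inv_inv θ⟩
  · intro θ _
    simp [MonoidHom.inv_apply, map_inv]

end

namespace SL2OddData

variable (D : SL2OddData F)

/-- The sum of the characters in `C11` at a regular element of the torus. -/
theorem sum_C11_apply (hodd : Odd (Fintype.card F)) {g : SL2 F} (hg : sl2NoEig g) (c : sl2T g)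
    (hs : ¬ m2Scalar (((c : SL2 F)) : Matrix (Fin 2) (Fin 2) F)) :
    ∑ χ ∈ D.C11, (χ : SL2 F → ℂ) c = 1 + ((sgnT hodd hg c : ℂˣ) : ℂ) := by
  classical
  haveI := finite_dual hg
  haveI : Fintype (sl2T g →* ℂˣ) := Fintype.ofFinite _
  have hc1 : c ≠ 1 := by
    rintro rfl
    apply hs
    simp [m2Scalar]
  have h1 := sum_eq_two_mul_image (thetaSet g) (dsHat hodd) (fun f => f (c : SL2 F)) (dsHat_fibers hodd hg)
  rw [D.image_thetaSet hodd hg, Finset.sum_image (fun a _ b _ h => Subtype.ext h)] at h1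
  have h2 : ∑ θ ∈ thetaSet g, dsHat hodd θ (c : SL2 F) = ∑ θ ∈ thetaSet g, (-((θ c : ℂˣ) : ℂ) - ((θ c⁻¹ : ℂˣ) : ℂ)) := by
    apply Finset.sum_congr rfl
    intro θ _
    exact dsX_regular_T hodd hg _ θ c hs
  rw [h2, Finset.sum_sub_distrib, Finset.sum_neg_distrib, sum_thetaSet_inv_apply, sum_thetaSet_apply hodd hg hc1] at h1
  linear_combination -h1 / 2

end SL2OddData

end Cfsg.Agent.Lib.Known
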