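import Mathlib
import Cfsg.Agent.Lib.Known.Discrete6
import Cfsg.Agent.Lib.Char.BrauerPerm

set_option autoImplicit false

/-! Values of the characters of `SL₂(F)`, `q` odd, at elements without eigenvectors. -/

namespace Cfsg.Agent.Lib.Known

open Cfsg Cfsg.Agent.Lib.Char
open scoped ComplexConjugate

variable {F : Type*} [Field F] [Fintype F] [DecidableEq F]

theorem sl2Tr_twist (n : Fˣ) (g : SL2 F) : sl2Tr (sl2Twist n g) = sl2Tr g := by
  rw [sl2Tr_eq, sl2Tr_eq, sl2Twist_00, sl2Twist_11]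

theorem noEig_twist_conj {g : SL2 F} (hg : sl2NoEig g) (n : Fˣ) : IsConj g (sl2Twist n g) :=
  sl2NoEig_isConj hg (sl2Tr_twist n g).symm

namespace SL2OddData

variable (D : SL2OddData F)

theorem xi_swap₁ (g : SL2 F) : D.ξ₂ g = D.ξ₁ (sl2Twist D.ε g) := by
  have := congrFun D.swap₁ g
  simp only [Function.comp] at this
  exact this.symm

theorem isClass₁ : IsClassFunction (SL2 F) D.ξ₁ := IsCharacter.isClassFunction (IsIrrCharacter.isCharacter D.irr₁)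

theorem isClass₂ : IsClassFunction (SL2 F) D.ξ₂ := IsCharacter.isClassFunction (IsIrrCharacter.isCharacter D.irr₂)

/-- `ξ₁` and `ξ₂` vanish on elements without eigenvectors. -/
theorem xi_noEig {g : SL2 F} (hg : sl2NoEig g) : D.ξ₁ g = 0 ∧ D.ξ₂ g = 0 := by
  have h1 := congrFun D.sum g
  rw [sl2Ind_no_eigenvector _ g hg] at h1
  simp only [Pi.add_apply] at h1
  have h2 : D.ξ₂ g = D.ξ₁ g := by
    rw [xi_swap₁, ← IsClassFunction.congr_isConj D.isClass₁ (noEig_twist_conj hg D.ε)]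
  rw [h2] at h1 ⊢
  have h3 : D.ξ₁ g = 0 := by linear_combination -h1 / 2
  exact ⟨h3, h3⟩

/-- `ξ₁` and `ξ₂` at a regular diagonal element. -/
theorem xi_regular {a : Fˣ} (ha : (a : F) ^ 2 ≠ 1) :
    D.ξ₁ (sl2BorelMk a 0) = quadC F (a : F) ∧ D.ξ₂ (sl2BorelMk a 0) = quadC F (a : F) := by
  have h1 := congrFun D.sum (sl2BorelMk a 0)
  rw [sl2Ind_regular _ a ha] at h1
  simp only [Pi.add_apply] at h1
  have h2 : D.ξ₂ (sl2BorelMk a 0) = D.ξ₁ (sl2BorelMk a 0) := by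
    rw [xi_swap₁]
    congr 1
    apply sl2_ext <;> simp [sl2BorelMk]
  have h3 : quadC F ((a⁻¹ : Fˣ) : F) = quadC F (a : F) := by
    rw [Units.val_inv_eq_inv_val, ← MulChar.inv_apply', quadC_inv]
  rw [h2, h3] at h1
  rw [h2]
  have h4 : D.ξ₁ (sl2BorelMk a 0) = quadC F (a : F) := by linear_combination -h1 / 2
  exact ⟨h4, h4⟩

/-- The decomposition of the sum over all irreducible characters. -/
theorem sum_irr (hodd : Odd (Fintype.card F)) (f : IrrCharacter (SL2 F) → ℂ) :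
    ∑ χ, f χ = f (o F) + f (s F) + f D.x₁ + f D.x₂ + ∑ χ ∈ indSet F, f χ + ∑ χ ∈ D.C11, f χ + ∑ χ ∈ D.C10, f χ +
      ∑ χ ∈ D.C01, f χ := by
  classical
  obtain ⟨h1, h2, h3⟩ := D.partition hodd
  obtain ⟨a, b, c, d, e⟩ := D.four_distinct hodd
  have hfour : ∑ χ ∈ D.fourSet, f χ = f (o F) + f (s F) + f D.x₁ + f D.x₂ := by
    unfold fourSet
    rw [Finset.sum_insert, Finset.sum_insert, Finset.sum_pair D.x₁_ne_x₂]
    · ring
    · simp [d, e]
    · simp [a, b, c]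
  have hcusp : sl2CuspSet F = D.C11 ∪ D.C10 ∪ D.C01 := by
    ext χ
    simp only [C11, C10, C01, Finset.mem_union, Finset.mem_filter]
    constructor
    · intro hχ
      rcases D.cusp_types hodd hχ with h | h | h
      · exact Or.inl (Or.inl ⟨hχ, h⟩)
      · exact Or.inl (Or.inr ⟨hχ, h⟩)
      · exact Or.inr ⟨hχ, h⟩
    · rintro ((h | h) | h) <;> exact h.1
  have d1 : Disjoint D.C11 D.C10 := by
    rw [Finset.disjoint_left]
    intro χ h1 h2
    simp only [C11, C10, Finset.mem_filter] at h1 h2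
    omega
  have d2 : Disjoint (D.C11 ∪ D.C10) D.C01 := by
    rw [Finset.disjoint_left]
    intro χ h1 h2
    simp only [C11, C10, C01, Finset.mem_union, Finset.mem_filter] at h1 h2
    rcases h1 with h1 | h1 <;> omega
  rw [h1, Finset.sum_union h3, Finset.sum_union h2, hfour, hcusp, Finset.sum_union d2, Finset.sum_union d1]
  ring

/-- Twisting exchanges `C10` and `C01`. -/
theorem twist_mem_C01 (hodd : Odd (Fintype.card F)) {χ : IrrCharacter (SL2 F)} (hχ : χ ∈ D.C10) :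
    (⟨(χ : SL2 F → ℂ) ∘ sl2Twist D.ε, IsIrrCharacter.comp_mulEquiv χ.2 (sl2Twist D.ε)⟩ : IrrCharacter (SL2 F)) ∈ D.C01 := by
  classical
  simp only [C10, Finset.mem_filter] at hχ
  obtain ⟨h1, h2, h3⟩ := hχ
  have hcl := IsCharacter.isClassFunction (IsIrrCharacter.isCharacter χ.2)
  have hε' : ¬ IsSquare (((D.ε⁻¹ : Fˣ)) : F) := by
    intro hh
    apply D.hε
    obtain ⟨c, hc⟩ := hh
    refine ⟨c⁻¹, ?_⟩
    have : (D.ε : F) = (((D.ε⁻¹ : Fˣ)) : F)⁻¹ := by simp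
    rw [this, hc]
    exact mul_inv _ _
  simp only [C01, Finset.mem_filter]
  refine ⟨?_, ?_, ?_⟩
  · have hc : sl2Cusp (χ : SL2 F → ℂ) := by simpa [sl2CuspSet] using h1
    have : sl2Cusp ((χ : SL2 F → ℂ) ∘ sl2Twist D.ε) := by
      intro α
      have h4 := hc α
      rw [← h4]
      simp only [classInner]
      congr 1
      refine Fintype.sum_equiv (sl2Twist D.ε).toEquiv _ _ fun g => ?_
      simp only [Function.comp, MulEquiv.toEquiv_eq_coe, EquivLike.coe_coe]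
      rw [sl2Ind_twist]
    simpa [sl2CuspSet] using this
  · apply D.N1_of_eq
    change sl2Mult D.φ ((χ : SL2 F → ℂ) ∘ sl2Twist D.ε) 1 = _
    rw [sl2Mult_twist, one_mul, sl2Mult_of_not_isSquare hodd D.φ hcl D.hε hε', D.N2_eq, h3]
  · apply D.N2_of_eq
    change sl2Mult D.φ ((χ : SL2 F → ℂ) ∘ sl2Twist D.ε) D.ε = _
    rw [sl2Mult_twist]
    have e : (D.ε : F) * ((D.ε⁻¹ : Fˣ) : F) = 1 := by simp
    rw [e, D.N1_eq, h2]

/-- The value of the characters of degree `(q-1)/2` at an element without eigenvectors. -/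
theorem eta_noEig (hodd : Odd (Fintype.card F)) {g : SL2 F} (hg : sl2NoEig g) {χ : IrrCharacter (SL2 F)}
    (hχ : χ ∈ D.C10 ∨ χ ∈ D.C01) :
    (χ : SL2 F → ℂ) g = -((sgnT hodd hg (⟨g, by rw [Subgroup.mem_centralizer_singleton_iff]⟩ : sl2T g) : ℂˣ) : ℂ) := by
  classical
  obtain ⟨r, hr⟩ := odd_eq (F := F) hodd
  obtain ⟨c11, c10, c01⟩ := D.card_cusp_types hodd r hr
  obtain ⟨η₁, h1⟩ := Finset.card_eq_one.mp c10
  obtain ⟨η₂, h2⟩ := Finset.card_eq_one.mp c01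
  have hη₁ : η₁ ∈ D.C10 := by rw [h1]; simp
  have hη₂ : η₂ ∈ D.C01 := by rw [h2]; simp
  have htw := D.twist_mem_C01 hodd hη₁
  rw [h2, Finset.mem_singleton] at htw
  have hval : (η₂ : SL2 F → ℂ) g = (η₁ : SL2 F → ℂ) g := by
    rw [← htw]
    simp only [Function.comp]
    exact (IsClassFunction.congr_isConj (IsCharacter.isClassFunction (IsIrrCharacter.isCharacter η₁.2)) (noEig_twist_conj hg D.ε)).symm
  set c : sl2T g := ⟨g, by rw [Subgroup.mem_centralizer_singleton_iff]⟩ with hc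
  have hg1 : g ≠ 1 := by
    rintro rfl
    apply sl2NoEig_not_scalar hg
    simp [m2Scalar]
  have hsum := sum_irr_degree_mul_apply g
  rw [if_neg hg1, D.sum_irr hodd] at hsum
  have hind : ∑ χ ∈ indSet F, (χ : SL2 F → ℂ) 1 * (χ : SL2 F → ℂ) g = 0 := by
    apply Finset.sum_eq_zero
    intro χ hχ
    obtain ⟨α, _, h'⟩ := mem_indSet.mp hχ
    rw [h', sl2Ind_no_eigenvector α g hg, mul_zero]
  have hC11 : ∑ χ ∈ D.C11, (χ : SL2 F → ℂ) 1 * (χ : SL2 F → ℂ) g = ((2 * r + 2 : ℕ) : ℂ) * (1 + ((sgnT hodd hg c : ℂˣ) : ℂ)) := by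
    have h3 : ∀ χ ∈ D.C11, (χ : SL2 F → ℂ) 1 * (χ : SL2 F → ℂ) g = ((2 * r + 2 : ℕ) : ℂ) * (χ : SL2 F → ℂ) g := by
      intro χ hχ
      have := D.mem_C11_deg hodd hχ r hr
      rw [(irrDeg_eq_iff χ _).mp this]
    rw [Finset.sum_congr rfl h3, ← Finset.mul_sum]
    congr 1
    exact D.sum_C11_apply hodd hg c (sl2NoEig_not_scalar hg)
  have hC10 : ∑ χ ∈ D.C10, (χ : SL2 F → ℂ) 1 * (χ : SL2 F → ℂ) g = ((r + 1 : ℕ) : ℂ) * (η₁ : SL2 F → ℂ) g := by
    rw [h1, Finset.sum_singleton]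
    have := D.mem_C10_deg hodd hη₁ r hr
    rw [(irrDeg_eq_iff η₁ _).mp this]
  have hC01 : ∑ χ ∈ D.C01, (χ : SL2 F → ℂ) 1 * (χ : SL2 F → ℂ) g = ((r + 1 : ℕ) : ℂ) * (η₁ : SL2 F → ℂ) g := by
    rw [h2, Finset.sum_singleton]
    have := D.mem_C01_deg hodd hη₂ r hr
    rw [(irrDeg_eq_iff η₂ _).mp this, hval]
  rw [hind, hC11, hC10, hC01] at hsum
  have hx1 : (D.x₁ : SL2 F → ℂ) g = 0 := (D.xi_noEig hg).1
  have hx2 : (D.x₂ : SL2 F → ℂ) g = 0 := (D.xi_noEig hg).2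
  have ho : ((o F : IrrCharacter (SL2 F)) : SL2 F → ℂ) g = 1 := rfl
  have ho1 : ((o F : IrrCharacter (SL2 F)) : SL2 F → ℂ) 1 = 1 := rfl
  have hs1 : ((s F : IrrCharacter (SL2 F)) : SL2 F → ℂ) 1 = (Fintype.card F : ℂ) := sl2St_apply_one
  have hsg : ((s F : IrrCharacter (SL2 F)) : SL2 F → ℂ) g = -1 := sl2St_no_eigenvector g hg
  rw [hx1, hx2, ho, ho1, hs1, hsg, hr] at hsum
  push_cast at hsum
  have hr1 : (r : ℂ) + 1 ≠ 0 := Nat.cast_add_one_ne_zero r
  have hmain : (η₁ : SL2 F → ℂ) g = -((sgnT hodd hg c : ℂˣ) : ℂ) := by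
    have : ((r : ℂ) + 1) * ((η₁ : SL2 F → ℂ) g + ((sgnT hodd hg c : ℂˣ) : ℂ)) = 0 := by
      linear_combination hsum / 2
    rcases mul_eq_zero.mp this with h | h
    · exact absurd h hr1
    · linear_combination h
  rcases hχ with hχ | hχ
  · rw [h1, Finset.mem_singleton] at hχ
    rw [hχ]
    exact hmain
  · rw [h2, Finset.mem_singleton] at hχ
    rw [hχ, hval]
    exact hmain

end SL2OddData

end Cfsg.Agent.Lib.Known
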