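import Mathlib
import Cfsg.Agent.Lib.Known.Discrete7

set_option autoImplicit false

/-! Values of the characters of `SL₂(F)`, `q` odd, part 8, and cyclic subgroups of order `q + 1`. -/

namespace Cfsg.Agent.Lib.Known

open Cfsg Cfsg.Agent.Lib.Char
open scoped ComplexConjugate

variable {F : Type*} [Field F] [Fintype F] [DecidableEq F]

/-- A cuspidal class function vanishes at regular diagonal elements. -/
theorem cusp_regular_zero {χ : SL2 F → ℂ} (hcl : IsClassFunction (SL2 F) χ) (hc : sl2Cusp χ) (a : Fˣ) (ha : (a : F) ^ 2 ≠ 1) :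
    χ (sl2BorelMk a 0) = 0 := by
  have h := sl2Cusp_sum hcl hc a
  have h1 : ∀ v : F, χ (sl2BorelMk a v) = χ (sl2BorelMk a 0) :=
    fun v => IsClassFunction.congr_isConj hcl (sl2BorelMk_isConj a ha v)
  simp only [h1, Finset.sum_const, Finset.card_univ, nsmul_eq_mul] at h
  exact (mul_eq_zero.mp h).resolve_left card_ne_zero_complex

theorem five_le_of_regular (hodd : Odd (Fintype.card F)) {a : F} (h0 : a ≠ 0) (ha : a ^ 2 ≠ 1) : 5 ≤ Fintype.card F := by
  by_contra hlt
  have h2 : 2 ≤ Fintype.card F := Fintype.one_lt_card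
  obtain ⟨k, hk⟩ := hodd
  have h3 : Fintype.card F = 3 := by omega
  apply ha
  have := FiniteField.pow_card_sub_one_eq_one a h0
  rwa [h3] at this

theorem sl2_diag_eq_borelMk {g : SL2 F} (h01 : (g : Matrix (Fin 2) (Fin 2) F) 0 1 = 0) (h10 : (g : Matrix (Fin 2) (Fin 2) F) 1 0 = 0) :
    ∃ a : Fˣ, g = sl2BorelMk a 0 ∧ (a : F) = (g : Matrix (Fin 2) (Fin 2) F) 0 0 := by
  obtain ⟨a, v, h1, h2, h3⟩ := sl2_exists_borelMk g h10
  rw [h01] at h3
  subst h3
  exact ⟨a, h1, h2⟩

/-- Elements of `SL₂` of order `q + 1` have no eigenvector. -/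
theorem noEig_of_orderOf {g : SL2 F} (hord : orderOf g = Fintype.card F + 1) : sl2NoEig g := by
  classical
  by_contra hne
  obtain ⟨x, a, v, e⟩ := sl2_exists_conj_borelMk hne
  have hq2 : 2 ≤ Fintype.card F := Fintype.one_lt_card
  set p := ringChar F with hp
  -- powers of `mk a v`
  have hpow : ∀ n : ℕ, ∃ w : F, (sl2BorelMk a v) ^ n = sl2BorelMk (a ^ n) w := by
    intro n
    induction n with
    | zero =>
      refine ⟨0, ?_⟩
      simp only [pow_zero]
      apply sl2_ext <;> simp [sl2BorelMk]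
    | succ n ih =>
      obtain ⟨w, hw⟩ := ih
      refine ⟨(a ^ n : Fˣ) * v + w * ((a⁻¹ : Fˣ) : F), ?_⟩
      rw [pow_succ, hw]
      apply sl2_ext <;> simp [sl2BorelMk, sl2_mul_apply, pow_succ, mul_comm]
  obtain ⟨w, hw⟩ := hpow (Fintype.card F - 1)
  have ha1 : a ^ (Fintype.card F - 1) = 1 := by
    have := FiniteField.pow_card_sub_one_eq_one (a : F) a.ne_zero
    exact Units.ext (by simpa using this)
  rw [ha1, sl2BorelMk_one] at hw
  have hpF : (p : F) = 0 := CharP.cast_eq_zero F p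
  have hb : (sl2BorelMk a v) ^ ((Fintype.card F - 1) * p) = 1 := by
    rw [pow_mul, hw, sl2U_pow, hpF, zero_mul, sl2U_zero]
  have hord2 : orderOf (sl2BorelMk a v) = Fintype.card F + 1 := by
    rw [← e, ← hord]
    have : x⁻¹ * g * x = MulAut.conj x⁻¹ g := by simp [MulAut.conj_apply]
    rw [this, MulEquiv.orderOf_eq]
  have hd := orderOf_dvd_of_pow_eq_one hb
  rw [hord2] at hd
  have hpprime : p.Prime := by
    rw [hp]
    exact CharP.char_is_prime F _
  have hpq : p ∣ Fintype.card F := by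
    have h0 : ((Fintype.card F : ℕ) : F) = 0 := Nat.cast_card_eq_zero F
    exact (CharP.cast_eq_zero_iff F p _).mp h0
  have hcop : Nat.Coprime (Fintype.card F + 1) p := by
    rw [Nat.coprime_comm, Nat.Prime.coprime_iff_not_dvd hpprime]
    intro h
    have := (Nat.dvd_add_right hpq).mp h
    exact hpprime.one_lt.ne' (Nat.dvd_one.mp this)
  have h5 := hcop.dvd_of_dvd_mul_right hd
  have := Nat.le_of_dvd (by omega) h5
  omega

/-- A cyclic subgroup of order `q + 1` is the centralizer of an element without eigenvectors. -/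
theorem exists_noEig_of_cyclic (C : Subgroup (SL2 F)) (hC : IsCyclic C) (hcard : Nat.card C = Fintype.card F + 1) :
    ∃ g : SL2 F, sl2NoEig g ∧ C = sl2T g := by
  classical
  obtain ⟨c₀, hc₀⟩ := IsCyclic.exists_generator (α := C)
  have h1 : orderOf c₀ = Fintype.card F + 1 := by
    rw [orderOf_eq_card_of_forall_mem_zpowers hc₀, hcard]
  have h2 : orderOf (c₀ : SL2 F) = Fintype.card F + 1 := by
    rw [← h1, Subgroup.orderOf_coe]
  have hg := noEig_of_orderOf h2
  refine ⟨c₀, hg, ?_⟩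
  apply Subgroup.eq_of_le_of_card_ge
  · intro c hc
    rw [Subgroup.mem_centralizer_singleton_iff]
    haveI := hC
    have : (⟨c, hc⟩ : C) * c₀ = c₀ * ⟨c, hc⟩ := by
      obtain ⟨n, hn⟩ := hc₀ ⟨c, hc⟩
      rw [← hn]
      exact (Commute.zpow_left (Commute.refl c₀) n)
    exact congrArg Subtype.val this
  · rw [card_centralizer_noEig hg, hcard]

theorem central_of_mem_T {g c : SL2 F} (hodd : Odd (Fintype.card F)) (hg : sl2NoEig g) (hc : c ∈ sl2T g)
    (hz : c ∈ Subgroup.center (SL2 F)) : c = 1 ∨ c = sl2M1 F := by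
  obtain ⟨w, hw⟩ := exists_inverting hg
  have h1 := noEig_inv_of_conj hg hw hc
  have h3 : w * c * w⁻¹ = c := by
    rw [Subgroup.mem_center_iff.mp hz w]
    simp
  rw [h3] at h1
  have h4 : c * c = 1 := by
    nth_rewrite 1 [h1]
    simp
  rcases sq_one_of_mem_centralizer hg hc h4 with h5 | h5
  · exact Or.inl h5
  · exact Or.inr (sl2_eq_M1 h5)

theorem not_scalar_of_not_central {c : SL2 F} (hz : c ∉ Subgroup.center (SL2 F)) :
    ¬ m2Scalar ((c : SL2 F) : Matrix (Fin 2) (Fin 2) F) := by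
  intro hs
  apply hz
  rw [Subgroup.mem_center_iff]
  intro x
  exact (sl2_comm_iff _ _).mpr (m2Scalar_comm hs _).symm

theorem sl2U_eq_of_entries {g : SL2 F} (h10 : (g : Matrix (Fin 2) (Fin 2) F) 1 0 = 0) (h00 : (g : Matrix (Fin 2) (Fin 2) F) 0 0 = 1)
    (h11 : (g : Matrix (Fin 2) (Fin 2) F) 1 1 = 1) : g = sl2U ((g : Matrix (Fin 2) (Fin 2) F) 0 1) := by
  apply sl2_ext <;> simp [h10, h00, h11]

/-- The value of a character in `C11` for `q = 3`, and generally of the sum over `C11`. -/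
theorem SL2OddData.C11_noEig_three (D : SL2OddData F) (hodd : Odd (Fintype.card F)) (h3 : Fintype.card F = 3) {g : SL2 F} (hg : sl2NoEig g)
    {χ : IrrCharacter (SL2 F)} (hχ : χ ∈ D.C11) : (χ : SL2 F → ℂ) g = 0 := by
  classical
  obtain ⟨r, hr⟩ := SL2OddData.odd_eq (F := F) hodd
  have hr0 : r = 0 := by omega
  obtain ⟨c11, _, _⟩ := D.card_cusp_types hodd r hr
  rw [hr0] at c11
  obtain ⟨η, hη⟩ := Finset.card_eq_one.mp c11
  rw [hη, Finset.mem_singleton] at hχ
  subst hχ
  have h1 := D.sum_C11_apply hodd hg ⟨g, by rw [Subgroup.mem_centralizer_singleton_iff]⟩ (sl2NoEig_not_scalar hg)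
  rw [hη, Finset.sum_singleton] at h1
  simp only at h1
  rw [h1, sgnT_apply]
  have h2 : (⟨g, by rw [Subgroup.mem_centralizer_singleton_iff]⟩ : sl2T g) ^ ((Fintype.card F + 1) / 2) ≠ 1 := by
    rw [h3]
    intro h
    apply noEig_sq_ne_one hg
    have := congrArg Subtype.val h
    simpa [pow_two] using this
  rw [if_neg h2]
  simp

end Cfsg.Agent.Lib.Known
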