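import Mathlib
import Cfsg.Agent.Lib.Known.GL2Count
import Cfsg.Agent.Lib.Char.Clifford
import Cfsg.Agent.Lib.Char.Ito
import Cfsg.Agent.Lib.Char.Linear

set_option autoImplicit false

/-! Counting irreducible characters with conditions on the degree. -/

namespace Cfsg.Agent.Lib.Known

open Cfsg Cfsg.Agent.Lib.Char

theorem charDegree_eq_irrDeg {G : Type*} [Group G] (χ : IrrCharacter G) :
    charDegree (χ : G → ℂ) = irrDeg χ := by
  unfold charDegree
  rw [irrDeg_spec]
  simp

universe u

theorem isIrrCharacter_comp_mulEquiv'' {H G : Type u} [Group G] [Group H] [Finite G] [Finite H]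
    (e : H ≃* G) {χ : G → ℂ} (hχ : IsIrrCharacter G χ) : IsIrrCharacter H (χ ∘ e) := by
  let _ : Fintype G := Fintype.ofFinite _
  let _ : Fintype H := Fintype.ofFinite _
  exact isIrrCharacter_comp_mulEquiv e hχ

/-- Transport of the number of irreducible characters with a condition on the degree. -/
theorem card_irr_filter_congr {H H' : Type u} [Group H] [Group H'] [Finite H] [Finite H'] (e : H ≃* H') (P : ℕ → Prop) :
    Nat.card {ψ : IrrCharacter H // P (charDegree (ψ : H → ℂ))} =
      Nat.card {ψ : IrrCharacter H' // P (charDegree (ψ : H' → ℂ))} := by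
  apply Nat.card_congr
  refine ⟨fun ψ => ⟨⟨ψ.1.1 ∘ e.symm, isIrrCharacter_comp_mulEquiv'' e.symm ψ.1.2⟩, ?_⟩,
    fun ψ => ⟨⟨ψ.1.1 ∘ e, isIrrCharacter_comp_mulEquiv'' e ψ.1.2⟩, ?_⟩, ?_, ?_⟩
  · have := ψ.2
    simpa [charDegree] using this
  · have := ψ.2
    simpa [charDegree] using this
  · intro ψ
    apply Subtype.ext
    apply Subtype.ext
    funext g
    simp
  · intro ψ
    apply Subtype.ext
    apply Subtype.ext
    funext g
    simp

/-- If all degrees satisfy the condition, the count is the class number. -/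
theorem card_irr_filter_of_forall {H : Type*} [Group H] [Finite H] (P : ℕ → Prop)
    (h : ∀ ψ : IrrCharacter H, P (charDegree (ψ : H → ℂ))) :
    Nat.card {ψ : IrrCharacter H // P (charDegree (ψ : H → ℂ))} = Nat.card (ConjClasses H) := by
  rw [← card_irr_eq_card_conjClasses]
  exact Nat.card_congr (Equiv.subtypeUnivEquiv h)

open scoped Classical in
/-- The degree distribution. -/
theorem sum_card_deg {Q : Type*} [Group Q] [Fintype Q] (M : ℕ) (h : ∀ ψ : IrrCharacter Q, irrDeg ψ ≤ M) :
    ∑ d ∈ Finset.range (M + 1), Nat.card {ψ : IrrCharacter Q // irrDeg ψ = d} = Nat.card (ConjClasses Q) ∧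
    ∑ d ∈ Finset.range (M + 1), Nat.card {ψ : IrrCharacter Q // irrDeg ψ = d} * d ^ 2 = Nat.card Q := by
  have hc : ∀ d, Nat.card {ψ : IrrCharacter Q // irrDeg ψ = d} = (Finset.univ.filter (fun ψ : IrrCharacter Q => irrDeg ψ = d)).card := by
    intro d
    rw [Nat.card_eq_fintype_card, Fintype.card_subtype]
  have hmaps : ∀ ψ ∈ (Finset.univ : Finset (IrrCharacter Q)), irrDeg ψ ∈ Finset.range (M + 1) := by
    intro ψ _
    exact Finset.mem_range.mpr (Nat.lt_succ_of_le (h ψ))
  constructor
  · rw [← card_irr_eq_card_conjClasses, Nat.card_eq_fintype_card, ← Finset.card_univ,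
      Finset.card_eq_sum_card_fiberwise hmaps]
    exact Finset.sum_congr rfl fun d _ => hc d
  · rw [← sum_irrDeg_sq, ← Finset.sum_fiberwise_of_maps_to hmaps]
    apply Finset.sum_congr rfl
    intro d _
    rw [hc, Finset.sum_congr rfl (g := fun _ => d ^ 2), Finset.sum_const, smul_eq_mul]
    intro ψ hψ
    rw [(Finset.mem_filter.mp hψ).2]

/-- The degree of an irreducible character squared is at most the order of the group. -/
theorem irrDeg_sq_le {Q : Type*} [Group Q] [Fintype Q] (ψ : IrrCharacter Q) : irrDeg ψ ^ 2 ≤ Nat.card Q := by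
  rw [← sum_irrDeg_sq]
  exact Finset.single_le_sum (f := fun ψ : IrrCharacter Q => irrDeg ψ ^ 2) (fun _ _ => Nat.zero_le _) (Finset.mem_univ ψ)

theorem irrDeg_dvd_of_abelian_normal {Q : Type*} [Group Q] [Finite Q] (ψ : IrrCharacter Q) (A : Subgroup Q) [A.Normal]
    (hab : ∀ a ∈ A, ∀ b ∈ A, a * b = b * a) : irrDeg ψ ∣ A.index := by
  rw [← charDegree_eq_irrDeg]
  let _ := Fintype.ofFinite Q
  exact charDegree_dvd_index_of_abelian_normal ψ.2 A hab

end Cfsg.Agent.Lib.Known
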