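import Mathlib
import Cfsg.Agent.Lib.Known.Discrete8
import Cfsg.Agent.Lib.Known.SL2Values
import Cfsg.Agent.Lib.Known.IrrCount
import Cfsg.Agent.Lib.Blocks.DefectZero
import Cfsg.Agent.Lib.Blocks.Defect

set_option autoImplicit false

/-! The `p`-blocks of `SL₂(F)`, `F` of odd characteristic `p`. -/

namespace Cfsg.Agent.Lib.Known

open Cfsg Cfsg.Agent.Lib.Char Cfsg.Agent.Lib.Blocks
open scoped ComplexConjugate

variable {F : Type*} [Field F] [Fintype F] [DecidableEq F]

theorem cast_q_sq_sub_one : ((Fintype.card F ^ 2 - 1 : ℕ) : ℂ) = (Fintype.card F : ℂ) ^ 2 - 1 := by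
  rw [Nat.cast_sub (Nat.one_le_pow _ _ Fintype.card_pos)]
  simp

theorem index_centralizer_sl2U (hodd : Odd (Fintype.card F)) {b : F} (hb : b ≠ 0) :
    ((Subgroup.centralizer ({sl2U b} : Set (SL2 F))).index : ℂ) = ((Fintype.card F : ℂ) ^ 2 - 1) / 2 := by
  have h2 := two_ne_zero_of_odd hodd
  have h1 := Subgroup.card_mul_index (Subgroup.centralizer ({sl2U b} : Set (SL2 F)))
  rw [card_centralizer_sl2U hb, card_sqrt_one_of_two_ne_zero h2, card_sl2, Nat.card_eq_fintype_card (α := F)] at h1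
  have h3 := congrArg (fun n : ℕ => (n : ℂ)) h1
  simp only [Nat.cast_mul, cast_q_sq_sub_one, Nat.cast_ofNat] at h3
  have hq : (Fintype.card F : ℂ) ≠ 0 := by
    exact_mod_cast Fintype.card_pos.ne'
  field_simp
  have h4 : (Fintype.card F : ℂ) * (((Subgroup.centralizer ({sl2U b} : Set (SL2 F))).index : ℂ) * 2) = (Fintype.card F : ℂ) * ((Fintype.card F : ℂ) ^ 2 - 1) := by
    linear_combination h3
  exact mul_left_cancel₀ hq h4

theorem centralChar_sl2U (hodd : Odd (Fintype.card F)) (χ : SL2 F → ℂ) {b : F} (hb : b ≠ 0) :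
    centralChar χ (sl2U b) = ((Fintype.card F : ℂ) ^ 2 - 1) / 2 * χ (sl2U b) / χ 1 := by
  unfold centralChar
  rw [index_centralizer_sl2U hodd hb]

theorem centralizer_sl2M1 : Subgroup.centralizer ({sl2M1 F} : Set (SL2 F)) = ⊤ := by
  ext x
  simp only [Subgroup.mem_top, iff_true]
  rw [Subgroup.mem_centralizer_singleton_iff]
  exact (sl2M1_comm x).symm

theorem centralChar_sl2M1 (χ : SL2 F → ℂ) : centralChar χ (sl2M1 F) = χ (sl2M1 F) / χ 1 := by
  unfold centralChar
  rw [centralizer_sl2M1, Subgroup.index_top]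
  simp

section blocks

variable {M : Ideal AlgInt} {p : ℕ}

variable (D : SL2OddData F)

include D in
theorem gauss_memLocalIdeal (hM : IsPModular p M) (hpq : p ∣ Fintype.card F) (hodd : Odd (Fintype.card F)) :
    MemLocalIdeal M (quadGauss D.φ) := by
  haveI := isPrime_of_modular hM
  have hloc : MemLocalRing M (quadGauss D.φ) := by
    have h1 : quadGauss D.φ = 2 * D.ξ₁ (sl2U 1) - 1 := by
      rw [D.value_x₁ hodd]
      ring
    rw [h1]
    have h2 : MemLocalRing M (D.ξ₁ (sl2U 1)) :=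
      memLocalRing_of_isIntegral (irr_isIntegral (⟨D.ξ₁, D.irr₁⟩ : IrrCharacter (SL2 F)) (sl2U 1))
    exact MemLocalRing.sub (MemLocalRing.mul (by exact_mod_cast MemLocalRing.natCast (M := M) 2) h2) memLocalRing_one
  apply MemLocalIdeal.of_pow hloc (n := 2)
  rw [quadGauss_sq hodd D.φ D.hφ]
  apply MemLocalIdeal.mul_left
  · exact MemLocalRing.pow (MemLocalRing.neg memLocalRing_one) _
  · exact (natCast_memLocalIdeal_iff hM _).mpr hpq

theorem half_memLocalRing (hM : IsPModular p M) (hp2 : p ≠ 2) : MemLocalRing M (1 / 2 : ℂ) := by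
  have hnd : ¬ p ∣ 2 := fun h => hp2 ((Nat.prime_dvd_prime_iff_eq hM.1 Nat.prime_two).mp h)
  have := inv_natCast_memLocalRing hM hnd
  simpa using this

theorem two_not_memLocalIdeal (hM : IsPModular p M) (hp2 : p ≠ 2) : ¬ MemLocalIdeal M (2 : ℂ) := by
  have hnd : ¬ p ∣ 2 := fun h => hp2 ((Nat.prime_dvd_prime_iff_eq hM.1 Nat.prime_two).mp h)
  have := natCast_not_memLocalIdeal hM hnd
  simpa using this

include D in
/-- The value of the central character at the basic unipotent element. -/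
theorem centralChar_U_one_mod (hM : IsPModular p M) (hp2 : p ≠ 2) (hpq : p ∣ Fintype.card F) (hodd : Odd (Fintype.card F))
    (χ : IrrCharacter (SL2 F)) (hχ : (χ : SL2 F → ℂ) 1 ≠ (Fintype.card F : ℂ)) :
    MemLocalIdeal M (centralChar (χ : SL2 F → ℂ) (sl2U 1) + 1 / 2) := by
  haveI := isPrime_of_modular hM
  obtain ⟨r, hr⟩ := SL2OddData.odd_eq hodd
  have hγ := gauss_memLocalIdeal D hM hpq hodd
  have hQ : MemLocalIdeal M (Fintype.card F : ℂ) := (natCast_memLocalIdeal_iff hM _).mpr hpq
  have hh := half_memLocalRing hM hp2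
  have hQl : MemLocalRing M (Fintype.card F : ℂ) := MemLocalRing.natCast _
  set Q : ℂ := (Fintype.card F : ℂ) with hQdef
  set γ : ℂ := quadGauss D.φ with hγdef
  have hQr : Q = 2 * (r : ℂ) + 3 := by
    rw [hQdef, hr]
    push_cast
    ring
  have hR1 : (r : ℂ) + 1 ≠ 0 := by exact_mod_cast Nat.succ_ne_zero r
  have hR2 : (r : ℂ) + 2 ≠ 0 := by exact_mod_cast Nat.succ_ne_zero (r + 1)
  have hcomb : ∀ a b : ℂ, MemLocalRing M a → MemLocalRing M b → MemLocalIdeal M (Q * a + γ * b) :=
    fun a b ha hb => MemLocalIdeal.add (MemLocalIdeal.mul_right hQ ha) (MemLocalIdeal.mul_right hγ hb)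
  have hU : centralChar (χ : SL2 F → ℂ) (sl2U 1) = (Q ^ 2 - 1) / 2 * (χ : SL2 F → ℂ) (sl2U 1) / (χ : SL2 F → ℂ) 1 :=
    centralChar_sl2U hodd _ one_ne_zero
  have hcast : ∀ n : ℕ, MemLocalRing M (n : ℂ) := fun n => MemLocalRing.natCast n
  have hQm : MemLocalRing M ((Q - 1) * (1 / 2)) := MemLocalRing.mul (MemLocalRing.sub hQl memLocalRing_one) hh
  have hQp : MemLocalRing M ((Q + 1) * (1 / 2)) := MemLocalRing.mul (MemLocalRing.add hQl memLocalRing_one) hh
  rcases D.table hodd χ with h | h | h | h | h | h | h | h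
  · -- trivial
    subst h
    have e : centralChar ((SL2OddData.o F : IrrCharacter (SL2 F)) : SL2 F → ℂ) (sl2U 1) + 1 / 2 = Q * (Q * (1 / 2)) + γ * 0 := by
      rw [hU]
      change (Q ^ 2 - 1) / 2 * 1 / 1 + 1 / 2 = _
      ring
    rw [e]
    exact hcomb _ _ (MemLocalRing.mul hQl hh) memLocalRing_zero
  · -- Steinberg
    exfalso
    apply hχ
    subst h
    exact sl2St_apply_one
  · -- principal series
    obtain ⟨α, _, h'⟩ := SL2OddData.mem_indSet.mp h
    rw [h'] at hU ⊢
    have e : centralChar (sl2Ind α) (sl2U 1) + 1 / 2 = Q * (1 / 2) + γ * 0 := by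
      rw [hU, sl2Ind_apply_one, sl2Ind_U α one_ne_zero]
      have h3 : Q + 1 ≠ 0 := by
        rw [hQr]
        intro h4
        apply hR2
        linear_combination h4 / 2
      rw [← hQdef]
      field_simp
      ring
    rw [e]
    exact hcomb _ _ hh memLocalRing_zero
  · -- x₁
    subst h
    have h1 : D.ξ₁ 1 = (Q + 1) / 2 := by
      have := D.two_mul_apply_one
      rw [← hQdef] at this
      linear_combination this / 2
    have e : centralChar D.ξ₁ (sl2U 1) + 1 / 2 = Q * (1 / 2) + γ * ((Q - 1) * (1 / 2)) := by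
      rw [centralChar_sl2U hodd D.ξ₁ one_ne_zero, ← hQdef, h1, D.value_x₁ hodd, ← hγdef]
      have h3 : Q + 1 ≠ 0 := by
        rw [hQr]
        intro h4
        apply hR2
        linear_combination h4 / 2
      field_simp
      ring
    change MemLocalIdeal M (centralChar D.ξ₁ (sl2U 1) + 1 / 2)
    rw [e]
    exact hcomb _ _ hh hQm
  · -- x₂
    subst h
    have h1 : D.ξ₂ 1 = (Q + 1) / 2 := by
      have := D.two_mul_apply_one
      rw [← hQdef] at this
      rw [D.apply_one_eq]
      linear_combination this / 2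
    have e : centralChar D.ξ₂ (sl2U 1) + 1 / 2 = Q * (1 / 2) + γ * (-((Q - 1) * (1 / 2))) := by
      rw [centralChar_sl2U hodd D.ξ₂ one_ne_zero, ← hQdef, h1, D.value_x₂ hodd, ← hγdef]
      have h3 : Q + 1 ≠ 0 := by
        rw [hQr]
        intro h4
        apply hR2
        linear_combination h4 / 2
      field_simp
      ring
    change MemLocalIdeal M (centralChar D.ξ₂ (sl2U 1) + 1 / 2)
    rw [e]
    exact hcomb _ _ hh (MemLocalRing.neg hQm)
  · -- C11
    have h1 : (χ : SL2 F → ℂ) 1 = Q - 1 := by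
      rw [irrDeg_spec, D.mem_C11_deg hodd h r hr, hQr]
      push_cast
      ring
    have e : centralChar (χ : SL2 F → ℂ) (sl2U 1) + 1 / 2 = Q * (-(1 / 2)) + γ * 0 := by
      rw [hU, h1, D.value_C11 hodd h]
      have h3 : Q - 1 ≠ 0 := by
        rw [hQr]
        intro h4
        apply hR1
        linear_combination h4 / 2
      field_simp
      ring
    rw [e]
    exact hcomb _ _ (MemLocalRing.neg hh) memLocalRing_zero
  · -- C10
    have h1 : (χ : SL2 F → ℂ) 1 = (Q - 1) / 2 := by
      rw [irrDeg_spec, D.mem_C10_deg hodd h r hr, hQr]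
      push_cast
      ring
    have e : centralChar (χ : SL2 F → ℂ) (sl2U 1) + 1 / 2 = Q * (-(1 / 2)) + γ * ((Q + 1) * (1 / 2)) := by
      rw [hU, h1, D.value_C10 hodd h, ← hγdef]
      have h3 : Q - 1 ≠ 0 := by
        rw [hQr]
        intro h4
        apply hR1
        linear_combination h4 / 2
      field_simp
      ring
    rw [e]
    exact hcomb _ _ (MemLocalRing.neg hh) hQp
  · -- C01
    have h1 : (χ : SL2 F → ℂ) 1 = (Q - 1) / 2 := by
      rw [irrDeg_spec, D.mem_C01_deg hodd h r hr, hQr]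
      push_cast
      ring
    have e : centralChar (χ : SL2 F → ℂ) (sl2U 1) + 1 / 2 = Q * (-(1 / 2)) + γ * (-((Q + 1) * (1 / 2))) := by
      rw [hU, h1, D.value_C01 hodd h, ← hγdef]
      have h3 : Q - 1 ≠ 0 := by
        rw [hQr]
        intro h4
        apply hR1
        linear_combination h4 / 2
      field_simp
      ring
    rw [e]
    exact hcomb _ _ (MemLocalRing.neg hh) (MemLocalRing.neg hQp)

include D in
/-- The value of the central character at the unipotent elements. -/
theorem centralChar_U_mod (hM : IsPModular p M) (hp2 : p ≠ 2) (hpq : p ∣ Fintype.card F) (hodd : Odd (Fintype.card F))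
    (χ : IrrCharacter (SL2 F)) (hχ : (χ : SL2 F → ℂ) 1 ≠ (Fintype.card F : ℂ)) {v : F} (hv : v ≠ 0) :
    MemLocalIdeal M (centralChar (χ : SL2 F → ℂ) (sl2U v) + 1 / 2) := by
  let n : Fˣ := Units.mk0 v hv
  let χ' : IrrCharacter (SL2 F) := ⟨(χ : SL2 F → ℂ) ∘ sl2Twist n, IsIrrCharacter.comp_mulEquiv χ.2 _⟩
  have h1 : (χ' : SL2 F → ℂ) 1 = (χ : SL2 F → ℂ) 1 := by
    change (χ : SL2 F → ℂ) (sl2Twist n 1) = _
    rw [map_one]
  have h2 : (χ' : SL2 F → ℂ) (sl2U 1) = (χ : SL2 F → ℂ) (sl2U v) := by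
    change (χ : SL2 F → ℂ) (sl2Twist n (sl2U 1)) = _
    rw [sl2Twist_U]
    simp [n]
  have h3 := centralChar_U_one_mod D hM hp2 hpq hodd χ' (by rw [h1]; exact hχ)
  rw [centralChar_sl2U hodd _ one_ne_zero, h1, h2, ← centralChar_sl2U hodd _ hv] at h3
  exact h3

include D in
/-- Degrees of non-Steinberg characters are prime to the characteristic. -/
theorem not_dvd_irrDeg (hM : IsPModular p M) (hpq : p ∣ Fintype.card F) (hodd : Odd (Fintype.card F))
    (χ : IrrCharacter (SL2 F)) (hχ : (χ : SL2 F → ℂ) 1 ≠ (Fintype.card F : ℂ)) : ¬ p ∣ irrDeg χ := by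
  obtain ⟨r, hr⟩ := SL2OddData.odd_eq hodd
  have hp := hM.1
  rw [hr] at hpq
  have hno1 : ¬ p ∣ 1 := fun h => hp.one_lt.ne' (Nat.dvd_one.mp h)
  have a2 : ¬ p ∣ 2 * r + 4 := by
    intro h
    have h4 : p ∣ 2 * r + 3 + 1 := h
    exact hno1 ((Nat.dvd_add_right hpq).mp h4)
  have a1 : ¬ p ∣ r + 2 := by
    intro h
    apply a2
    have : 2 * r + 4 = 2 * (r + 2) := by ring
    rw [this]
    exact h.mul_left 2
  have a3 : ¬ p ∣ 2 * r + 2 := by
    intro h
    have h4 : p ∣ 2 * r + 2 + 1 := hpq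
    exact hno1 ((Nat.dvd_add_right h).mp h4)
  have a4 : ¬ p ∣ r + 1 := by
    intro h
    apply a3
    have : 2 * r + 2 = 2 * (r + 1) := by ring
    rw [this]
    exact h.mul_left 2
  rcases D.irrDeg_cases hodd r hr χ with ⟨_, h⟩ | ⟨h', _⟩ | ⟨_, h⟩ | ⟨_, h⟩ | ⟨_, h⟩ | ⟨_, h⟩
  · rw [h]; exact hno1
  · exfalso
    apply hχ
    subst h'
    exact sl2St_apply_one
  · rw [h]; exact a2
  · rw [h]; exact a1
  · rw [h]; exact a3
  · rw [h]; exact a4

include D in
/-- The central character vanishes modulo `M` on classes of size divisible by `p`. -/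
theorem centralChar_mem_of_dvd (hM : IsPModular p M) (hpq : p ∣ Fintype.card F) (hodd : Odd (Fintype.card F))
    (χ : IrrCharacter (SL2 F)) (hχ : (χ : SL2 F → ℂ) 1 ≠ (Fintype.card F : ℂ)) {g : SL2 F}
    (hg : p ∣ (Subgroup.centralizer ({g} : Set (SL2 F))).index) : MemLocalIdeal M (centralChar (χ : SL2 F → ℂ) g) := by
  haveI := isPrime_of_modular hM
  unfold centralChar
  rw [irrDeg_spec, mul_div_assoc, div_eq_mul_inv]
  apply MemLocalIdeal.mul_right
  · exact (natCast_memLocalIdeal_iff hM _).mpr hg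
  · exact MemLocalRing.mul (memLocalRing_of_isIntegral (irr_isIntegral χ g))
      (inv_natCast_memLocalRing hM (not_dvd_irrDeg D hM hpq hodd χ hχ))

/-- The classes of `SL₂(F)`. -/
theorem sl2_class_cases (hodd : Odd (Fintype.card F)) {p : ℕ} (hpq : p ∣ Fintype.card F) (g : SL2 F) :
    g = 1 ∨ g = sl2M1 F ∨ (∃ v : F, v ≠ 0 ∧ IsConj g (sl2U v)) ∨ (∃ v : F, v ≠ 0 ∧ IsConj g (sl2M1 F * sl2U v)) ∨
      p ∣ (Subgroup.centralizer ({g} : Set (SL2 F))).index := by
  classical
  have h2 := two_ne_zero_of_odd hodd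
  have hq1 : 1 ≤ Fintype.card F := Fintype.card_pos
  obtain ⟨m, hm⟩ : ∃ m, Fintype.card F = m + 1 := ⟨Fintype.card F - 1, by omega⟩
  have hm0 : m ≠ 0 := by
    have : 1 < Fintype.card F := Fintype.one_lt_card
    omega
  by_cases hne : sl2NoEig g
  · right; right; right; right
    have h1 := Subgroup.card_mul_index (Subgroup.centralizer ({g} : Set (SL2 F)))
    rw [card_centralizer_noEig hne, card_sl2, hm] at h1
    have h3 : (m + 1 + 1) * (Subgroup.centralizer ({g} : Set (SL2 F))).index = (m + 1 + 1) * ((m + 1) * m) := by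
      rw [h1]
      have : (m + 1) ^ 2 - 1 = m * (m + 2) := by
        apply Nat.sub_eq_of_eq_add
        ring
      rw [this]
      ring
    rw [Nat.eq_of_mul_eq_mul_left (by omega) h3, ← hm]
    exact hpq.mul_right _
  · obtain ⟨x, a, v, e⟩ := sl2_exists_conj_borelMk hne
    have hconj : IsConj g (sl2BorelMk a v) := isConj_iff.mpr ⟨x⁻¹, by rw [← e]; group⟩
    by_cases ha : (a : F) ^ 2 = 1
    · have ha' : a = 1 ∨ a = -1 := by
        have h3 : ((a : F) - 1) * ((a : F) + 1) = 0 := by linear_combination ha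
        rcases mul_eq_zero.mp h3 with h4 | h4
        · left
          apply Units.ext
          simpa using sub_eq_zero.mp h4
        · right
          apply Units.ext
          simpa using eq_neg_of_add_eq_zero_left h4
      rcases ha' with rfl | rfl
      · have e1 : sl2BorelMk (1 : Fˣ) v = sl2U v := by
          apply sl2_ext <;> simp [sl2BorelMk]
        rw [e1] at hconj
        by_cases hv : v = 0
        · left
          subst hv
          rw [sl2U_zero] at hconj
          exact isConj_one_right.mp hconj.symm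
        · exact Or.inr (Or.inr (Or.inl ⟨v, hv, hconj⟩))
      · rw [sl2BorelMk_M1] at hconj
        by_cases hv : v = 0
        · right; left
          subst hv
          simp only [neg_zero, sl2U_zero, mul_one] at hconj
          obtain ⟨c, hc⟩ := isConj_iff.mp hconj
          have h5 : g = c⁻¹ * sl2M1 F * c := by
            rw [← hc]
            group
          rw [h5, (sl2M1_comm c⁻¹).symm, mul_assoc, inv_mul_cancel, mul_one]
        · exact Or.inr (Or.inr (Or.inr (Or.inl ⟨-v, neg_ne_zero.mpr hv, hconj⟩)))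
    · right; right; right; right
      have hc2 := hconj.trans (sl2BorelMk_isConj a ha v)
      have hd : sl2BorelMk a 0 ∈ sl2Diag F := by
        simp [mem_sl2Diag, sl2BorelMk]
      have hc3 := centralizer_eq_sl2Diag hd (by simpa [sl2BorelMk] using ha)
      have h1 := Subgroup.card_mul_index (Subgroup.centralizer ({g} : Set (SL2 F)))
      have h3 : Nat.card (Subgroup.centralizer ({g} : Set (SL2 F))) = m := by
        rw [← card_centralizer_congr hc2, hc3, card_sl2Diag, hm]
        simp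
      rw [h3, card_sl2, hm] at h1
      have h4 : m * (Subgroup.centralizer ({g} : Set (SL2 F))).index = m * ((m + 1) * (m + 2)) := by
        rw [h1]
        have : (m + 1) ^ 2 - 1 = m * (m + 2) := by
          apply Nat.sub_eq_of_eq_add
          ring
        rw [this]
        ring
      rw [Nat.eq_of_mul_eq_mul_left (Nat.pos_of_ne_zero hm0) h4, ← hm]
      exact hpq.mul_right _

end blocks

end Cfsg.Agent.Lib.Known
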