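import Mathlib
import Cfsg.Agent.Lib.Known.SL2Blocks

set_option autoImplicit false

/-! The `p`-blocks of `SL₂(F)`, `F` of odd characteristic `p`: the result. -/

namespace Cfsg.Agent.Lib.Known

open Cfsg Cfsg.Agent.Lib.Char Cfsg.Agent.Lib.Blocks
open scoped ComplexConjugate

variable {F : Type*} [Field F] [Fintype F] [DecidableEq F]

theorem sl2M1_mem_center : sl2M1 F ∈ Subgroup.center (SL2 F) := by
  rw [Subgroup.mem_center_iff]
  intro g
  exact (sl2M1_comm g).symm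

theorem eps_cases (χ : IrrCharacter (SL2 F)) :
    (χ : SL2 F → ℂ) (sl2M1 F) = (χ : SL2 F → ℂ) 1 ∨ (χ : SL2 F → ℂ) (sl2M1 F) = - (χ : SL2 F → ℂ) 1 := by
  have h := apply_mul_of_mem_center χ.2 (sl2M1_mem_center (F := F)) (sl2M1 F)
  rw [sl2M1_mul_self] at h
  have h1 : ((χ : SL2 F → ℂ) (sl2M1 F) - (χ : SL2 F → ℂ) 1) * ((χ : SL2 F → ℂ) (sl2M1 F) + (χ : SL2 F → ℂ) 1) = 0 := by
    linear_combination -h
  rcases mul_eq_zero.mp h1 with h2 | h2
  · exact Or.inl (sub_eq_zero.mp h2)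
  · exact Or.inr (eq_neg_of_add_eq_zero_left h2)

theorem irr_ne_zero (χ : IrrCharacter (SL2 F)) : (χ : SL2 F → ℂ) 1 ≠ 0 := irr_apply_one_ne_zero χ

theorem centralChar_M1_mul (χ : IrrCharacter (SL2 F)) (u : SL2 F) :
    centralChar (χ : SL2 F → ℂ) (sl2M1 F * u) =
      ((χ : SL2 F → ℂ) (sl2M1 F) / (χ : SL2 F → ℂ) 1) * centralChar (χ : SL2 F → ℂ) u := by
  have hC : Subgroup.centralizer ({sl2M1 F * u} : Set (SL2 F)) = Subgroup.centralizer ({u} : Set (SL2 F)) := by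
    ext x
    rw [Subgroup.mem_centralizer_singleton_iff, Subgroup.mem_centralizer_singleton_iff]
    constructor
    · intro h
      have e1 : sl2M1 F * (x * u) = sl2M1 F * (u * x) := by
        calc sl2M1 F * (x * u) = x * (sl2M1 F * u) := by
              rw [← mul_assoc, sl2M1_comm x, mul_assoc]
          _ = sl2M1 F * u * x := h
          _ = sl2M1 F * (u * x) := mul_assoc _ _ _
      exact mul_left_cancel e1
    · intro h
      calc x * (sl2M1 F * u) = sl2M1 F * (x * u) := by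
            rw [← mul_assoc, ← sl2M1_comm x, mul_assoc]
        _ = sl2M1 F * (u * x) := by rw [h]
        _ = sl2M1 F * u * x := (mul_assoc _ _ _).symm
  unfold centralChar
  rw [hC]
  have h := apply_mul_of_mem_center χ.2 (sl2M1_mem_center (F := F)) u
  have hne := irr_ne_zero χ
  have e : u * sl2M1 F = sl2M1 F * u := (sl2M1_comm u).symm
  rw [e] at h
  have h2 : (χ : SL2 F → ℂ) (sl2M1 F * u) = (χ : SL2 F → ℂ) u * (χ : SL2 F → ℂ) (sl2M1 F) / (χ : SL2 F → ℂ) 1 := by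
    field_simp
    linear_combination h
  rw [h2]
  field_simp

section blocks

variable {M : Ideal AlgInt} {p : ℕ} (D : SL2OddData F)

include D in
theorem same_block (hM : IsPModular p M) (hp2 : p ≠ 2) (hpq : p ∣ Fintype.card F) (hodd : Odd (Fintype.card F))
    (χ ψ : IrrCharacter (SL2 F)) (hχ : (χ : SL2 F → ℂ) 1 ≠ (Fintype.card F : ℂ)) (hψ : (ψ : SL2 F → ℂ) 1 ≠ (Fintype.card F : ℂ))
    (hε : (χ : SL2 F → ℂ) (sl2M1 F) / (χ : SL2 F → ℂ) 1 = (ψ : SL2 F → ℂ) (sl2M1 F) / (ψ : SL2 F → ℂ) 1) :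
    SameBlock M (χ : SL2 F → ℂ) (ψ : SL2 F → ℂ) := by
  haveI := isPrime_of_modular hM
  intro g
  rcases sl2_class_cases hodd hpq g with rfl | rfl | ⟨v, hv, hc⟩ | ⟨v, hv, hc⟩ | hi
  · rw [centralChar_one, centralChar_one, sub_self]
    exact memLocalIdeal_zero
  · rw [centralChar_sl2M1, centralChar_sl2M1, hε, sub_self]
    exact memLocalIdeal_zero
  · rw [centralChar_eq_of_isConj χ hc, centralChar_eq_of_isConj ψ hc]
    have h1 := MemLocalIdeal.sub (centralChar_U_mod D hM hp2 hpq hodd χ hχ hv) (centralChar_U_mod D hM hp2 hpq hodd ψ hψ hv)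
    have e : centralChar (χ : SL2 F → ℂ) (sl2U v) - centralChar (ψ : SL2 F → ℂ) (sl2U v) =
        (centralChar (χ : SL2 F → ℂ) (sl2U v) + 1 / 2) - (centralChar (ψ : SL2 F → ℂ) (sl2U v) + 1 / 2) := by ring
    rw [e]
    exact h1
  · rw [centralChar_eq_of_isConj χ hc, centralChar_eq_of_isConj ψ hc, centralChar_M1_mul, centralChar_M1_mul, ← hε, ← mul_sub]
    have h1 := MemLocalIdeal.sub (centralChar_U_mod D hM hp2 hpq hodd χ hχ hv) (centralChar_U_mod D hM hp2 hpq hodd ψ hψ hv)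
    have e : centralChar (χ : SL2 F → ℂ) (sl2U v) - centralChar (ψ : SL2 F → ℂ) (sl2U v) =
        (centralChar (χ : SL2 F → ℂ) (sl2U v) + 1 / 2) - (centralChar (ψ : SL2 F → ℂ) (sl2U v) + 1 / 2) := by ring
    rw [e]
    apply MemLocalIdeal.mul_left _ h1
    have hne := irr_ne_zero χ
    rcases eps_cases χ with h | h
    · rw [h, div_self hne]
      exact memLocalRing_one
    · rw [h, neg_div, div_self hne]
      exact MemLocalRing.neg memLocalRing_one
  · exact MemLocalIdeal.sub (centralChar_mem_of_dvd D hM hpq hodd χ hχ hi) (centralChar_mem_of_dvd D hM hpq hodd ψ hψ hi)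

theorem not_same_block (hM : IsPModular p M) (hp2 : p ≠ 2) (χ ψ : IrrCharacter (SL2 F))
    (hχ : (χ : SL2 F → ℂ) (sl2M1 F) = (χ : SL2 F → ℂ) 1) (hψ : (ψ : SL2 F → ℂ) (sl2M1 F) = - (ψ : SL2 F → ℂ) 1) :
    ¬ SameBlock M (χ : SL2 F → ℂ) (ψ : SL2 F → ℂ) := by
  intro h
  have h1 := h (sl2M1 F)
  rw [centralChar_sl2M1, centralChar_sl2M1, hχ, hψ, neg_div, div_self (irr_ne_zero χ), div_self (irr_ne_zero ψ)] at h1
  apply two_not_memLocalIdeal hM hp2
  have e : (1 : ℂ) - -1 = 2 := by norm_num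
  rwa [e] at h1

/-- The three sets of characters. -/
def blockS₁ (F : Type*) [Field F] [Fintype F] : Set (IrrCharacter (SL2 F)) :=
  {χ | (χ : SL2 F → ℂ) 1 = (Fintype.card F : ℂ)}

def blockS₂ (F : Type*) [Field F] [Fintype F] : Set (IrrCharacter (SL2 F)) :=
  {χ | (χ : SL2 F → ℂ) (sl2M1 F) = (χ : SL2 F → ℂ) 1 ∧ (χ : SL2 F → ℂ) 1 ≠ (Fintype.card F : ℂ)}

def blockS₃ (F : Type*) [Field F] : Set (IrrCharacter (SL2 F)) :=
  {χ | (χ : SL2 F → ℂ) (sl2M1 F) = - (χ : SL2 F → ℂ) 1}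

theorem St_M1 : sl2St F (sl2M1 F) = sl2St F 1 := by
  have := sl2St_M1_mul (F := F) 1
  simpa using this

theorem not_S₃_of_deg {χ : IrrCharacter (SL2 F)} (h : (χ : SL2 F → ℂ) 1 = (Fintype.card F : ℂ)) : χ ∉ blockS₃ F := by
  intro h3
  have hst := sl2_eq_St_of_deg χ.2 h
  have h4 : (χ : SL2 F → ℂ) (sl2M1 F) = - (χ : SL2 F → ℂ) 1 := h3
  rw [hst, St_M1] at h4
  have h5 := irr_ne_zero (⟨sl2St F, isIrr_sl2St⟩ : IrrCharacter (SL2 F))
  apply h5
  change sl2St F 1 = 0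
  linear_combination h4 / 2

theorem blockOf_St (hM : IsPModular p M) [Fact p.Prime] (hpq : p ∣ Fintype.card F) :
    blockOf M (sl2St F) = blockS₁ F := by
  have hs : blockOf M (sl2St F) = {(⟨sl2St F, isIrr_sl2St⟩ : IrrCharacter (SL2 F))} := by
    apply (not_dvd_iff_blockOf_singleton hM (⟨sl2St F, isIrr_sl2St⟩ : IrrCharacter (SL2 F))).mp
    have hd : charDegree (sl2St F) = Fintype.card F := by
      unfold charDegree
      rw [sl2St_apply_one]
      simp
    rw [hd, card_sl2, Nat.mul_div_cancel_left _ Fintype.card_pos]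
    intro h
    have h4 : p ∣ Fintype.card F ^ 2 := hpq.trans (dvd_pow_self _ two_ne_zero)
    have h6 : Fintype.card F ^ 2 - 1 + 1 = Fintype.card F ^ 2 := Nat.sub_add_cancel (Nat.one_le_pow _ _ Fintype.card_pos)
    rw [← h6] at h4
    have h5 : p ∣ 1 := (Nat.dvd_add_right h).mp h4
    exact hM.1.one_lt.ne' (Nat.dvd_one.mp h5)
  rw [hs]
  ext χ
  simp only [Set.mem_singleton_iff, blockS₁, Set.mem_setOf_eq]
  constructor
  · rintro rfl
    exact sl2St_apply_one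
  · intro h
    exact Subtype.ext (sl2_eq_St_of_deg χ.2 h)

include D in
theorem blockOf_of_S₂ (hM : IsPModular p M) [Fact p.Prime] (hp2 : p ≠ 2) (hpq : p ∣ Fintype.card F) (hodd : Odd (Fintype.card F))
    {χ : IrrCharacter (SL2 F)} (hχ : χ ∈ blockS₂ F) : blockOf M (χ : SL2 F → ℂ) = blockS₂ F := by
  haveI := isPrime_of_modular hM
  have hb := blockOf_St (M := M) hM hpq
  ext ψ
  constructor
  · intro h
    have h' : SameBlock M (χ : SL2 F → ℂ) (ψ : SL2 F → ℂ) := h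
    have hψ : (ψ : SL2 F → ℂ) 1 ≠ (Fintype.card F : ℂ) := by
      intro hd
      have hst := sl2_eq_St_of_deg ψ.2 hd
      rw [hst] at h'
      have h5 : χ ∈ blockOf M (sl2St F) := SameBlock.symm' h'
      rw [hb] at h5
      exact hχ.2 h5
    refine ⟨?_, hψ⟩
    rcases eps_cases ψ with h3 | h3
    · exact h3
    · exact absurd h' (not_same_block hM hp2 χ ψ hχ.1 h3)
  · intro hψ
    apply same_block D hM hp2 hpq hodd χ ψ hχ.2 hψ.2
    rw [hχ.1, hψ.1, div_self (irr_ne_zero χ), div_self (irr_ne_zero ψ)]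

include D in
theorem blockOf_of_S₃ (hM : IsPModular p M) [Fact p.Prime] (hp2 : p ≠ 2) (hpq : p ∣ Fintype.card F) (hodd : Odd (Fintype.card F))
    {χ : IrrCharacter (SL2 F)} (hχ : χ ∈ blockS₃ F) : blockOf M (χ : SL2 F → ℂ) = blockS₃ F := by
  haveI := isPrime_of_modular hM
  have hb := blockOf_St (M := M) hM hpq
  have hχ1 : (χ : SL2 F → ℂ) 1 ≠ (Fintype.card F : ℂ) := fun h => not_S₃_of_deg h hχ
  ext ψ
  constructor
  · intro h
    have h' : SameBlock M (χ : SL2 F → ℂ) (ψ : SL2 F → ℂ) := h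
    have hψ : (ψ : SL2 F → ℂ) 1 ≠ (Fintype.card F : ℂ) := by
      intro hd
      have hst := sl2_eq_St_of_deg ψ.2 hd
      rw [hst] at h'
      have h5 : χ ∈ blockOf M (sl2St F) := SameBlock.symm' h'
      rw [hb] at h5
      exact hχ1 h5
    rcases eps_cases ψ with h3 | h3
    · exact absurd (SameBlock.symm' h') (not_same_block hM hp2 ψ χ h3 hχ)
    · exact h3
  · intro hψ
    have hψ1 : (ψ : SL2 F → ℂ) 1 ≠ (Fintype.card F : ℂ) := fun h => not_S₃_of_deg h hψ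
    apply same_block D hM hp2 hpq hodd χ ψ hχ1 hψ1
    have h1 : (χ : SL2 F → ℂ) (sl2M1 F) = - (χ : SL2 F → ℂ) 1 := hχ
    have h2 : (ψ : SL2 F → ℂ) (sl2M1 F) = - (ψ : SL2 F → ℂ) 1 := hψ
    rw [h1, h2, neg_div, neg_div, div_self (irr_ne_zero χ), div_self (irr_ne_zero ψ)]

end blocks

end Cfsg.Agent.Lib.Known
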