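import Mathlib

set_option autoImplicit false

/-! Element orders of alternating groups in terms of cycle types. -/

namespace Cfsg.Agent.Lib.Known

open Equiv.Perm

/-- Element orders of `A_n` are the lcm's of even cycle types. -/
theorem alt_order_iff (n k : ℕ) :
    k ∈ Set.range (orderOf : alternatingGroup (Fin n) → ℕ) ↔
      ∃ m : Multiset ℕ, m.sum ≤ n ∧ (∀ a ∈ m, 2 ≤ a) ∧ m.lcm = k ∧ Even (m.sum + Multiset.card m) := by
  constructor
  · rintro ⟨g, rfl⟩
    refine ⟨(g : Equiv.Perm (Fin n)).cycleType, ?_, ?_, ?_, ?_⟩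
    · simpa using sum_cycleType_le (g : Equiv.Perm (Fin n))
    · intro a ha
      exact two_le_of_mem_cycleType ha
    · rw [lcm_cycleType, Subgroup.orderOf_coe]
    · have h1 : Equiv.Perm.sign (g : Equiv.Perm (Fin n)) = 1 := Equiv.Perm.mem_alternatingGroup.mp g.2
      rw [sign_of_cycleType] at h1
      by_contra hodd
      rw [Nat.not_even_iff_odd] at hodd
      rw [hodd.neg_one_pow] at h1
      exact absurd h1 (by decide)
  · rintro ⟨m, hs, h2, hl, he⟩
    have : ∃ g : Equiv.Perm (Fin n), g.cycleType = m :=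
      (exists_with_cycleType_iff (Fin n)).mpr ⟨by simpa using hs, h2⟩
    obtain ⟨g, rfl⟩ := this
    have hg : g ∈ alternatingGroup (Fin n) := by
      rw [Equiv.Perm.mem_alternatingGroup, sign_of_cycleType, he.neg_one_pow]
    refine ⟨⟨g, hg⟩, ?_⟩
    rw [← hl, lcm_cycleType]
    exact Subgroup.orderOf_mk g hg

theorem prime_dvd_multiset_lcm {p : ℕ} (hp : p.Prime) (m : Multiset ℕ) (h : p ∣ m.lcm) :
    ∃ a ∈ m, p ∣ a := by
  induction m using Multiset.induction_on with
  | empty =>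
    simp at h
    exact absurd h hp.one_lt.ne'
  | cons a s ih =>
    rw [Multiset.lcm_cons] at h
    rcases hp.dvd_or_dvd_of_dvd_lcm h with h1 | h1
    · exact ⟨a, Multiset.mem_cons_self a s, h1⟩
    · obtain ⟨b, hb, hb1⟩ := ih h1
      exact ⟨b, Multiset.mem_cons_of_mem hb, hb1⟩

theorem sum_ge_two_of_ne_zero (m : Multiset ℕ) (h2 : ∀ a ∈ m, 2 ≤ a) (hm : m ≠ 0) : 2 ≤ m.sum := by
  obtain ⟨a, ha⟩ := Multiset.exists_mem_of_ne_zero hm
  exact (h2 a ha).trans (Multiset.le_sum_of_mem ha)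

end Cfsg.Agent.Lib.Known
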