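import Mathlib
import Cfsg.Agent.Lib.Known.AltOrders

set_option autoImplicit false

/-! The table of `(sum, lcm, parity)` for partitions of at most `10`. -/

namespace Cfsg.Agent.Lib.Known

/-- All triples `(sum, lcm, parity)` of multisets with members `≥ 2` and sum at most `10`. -/
def a10Table : List (ℕ × ℕ × ℕ) := [(0, 1, 0), (2, 2, 1), (3, 3, 0), (4, 2, 0), (4, 4, 1), (5, 5, 0), (5, 6, 1), (6, 2, 1), (6, 3, 0), (6, 4, 0), (6, 6, 1), (7, 6, 0), (7, 7, 0), (7, 10, 1), (7, 12, 1), (8, 2, 0), (8, 4, 0), (8, 4, 1), (8, 6, 0), (8, 6, 1), (8, 8, 1), (8, 15, 0), (9, 3, 0), (9, 6, 1), (9, 9, 0), (9, 10, 0), (9, 12, 0), (9, 14, 1), (9, 20, 1), (10, 2, 1), (10, 4, 0), (10, 4, 1), (10, 5, 0), (10, 6, 0), (10, 6, 1), (10, 8, 0), (10, 10, 1), (10, 12, 0), (10, 12, 1), (10, 21, 0), (10, 30, 1)]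

theorem a10_closed : ∀ a, a ≤ 10 → ∀ t ∈ a10Table, 2 ≤ a → a + t.1 ≤ 10 →
    (a + t.1, Nat.lcm a t.2.1, (a + 1 + t.2.2) % 2) ∈ a10Table := by
  decide +kernel

theorem a10_orders : ∀ b l, (b, l, 0) ∈ a10Table →
    l ∈ ({1, 2, 3, 4, 5, 6, 7, 8, 9, 10, 12, 15, 21} : Set ℕ) := by
  intro b l h
  have h1 : ∀ t ∈ a10Table, t.2.2 = 0 →
      t.2.1 ∈ ([1, 2, 3, 4, 5, 6, 7, 8, 9, 10, 12, 15, 21] : List ℕ) := by decide +kernel
  have := h1 _ h rfl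
  simpa using this

end Cfsg.Agent.Lib.Known
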