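import Mathlib

/-!
# Fixed points on products of classes of `A_n`
-/

set_option autoImplicit false
set_option linter.unusedVariables false
set_option linter.unusedSectionVars false
set_option linter.unusedSimpArgs false

namespace Cfsg.Agent.Lib.Known.ArHer

open Equiv Equiv.Perm MulAction

variable {X : Type*} [Fintype X] [DecidableEq X]

/-- The number of agreements of two permutations. -/
def agr (α c : Perm X) : ℤ := ∑ x, if c x = α x then 1 else 0

theorem agr_conj (π α c : Perm X) : agr (π * α * π⁻¹) (π * c * π⁻¹) = agr α c := by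
  unfold agr
  rw [← Equiv.sum_comp π]
  apply Finset.sum_congr rfl
  intro x _
  simp

/-- Fixed points of a product as agreements. -/
theorem card_fix_eq (α c : Perm X) :
    (Nat.card (Function.fixedPoints ⇑(α * c)) : ℤ) = agr α⁻¹ c := by
  classical
  unfold agr
  have h1 : Nat.card (Function.fixedPoints ⇑(α * c)) = (Finset.univ.filter (fun x => c x = α⁻¹ x)).card := by
    rw [Nat.card_eq_fintype_card, Fintype.card_congr (Equiv.subtypeEquivRight (p := fun x => x ∈ Function.fixedPoints ⇑(α * c)) (q := fun x => c x = α⁻¹ x) (fun x => ?_))]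
    · rw [Fintype.card_subtype]
    · change (α * c) x = x ↔ _
      rw [Perm.mul_apply, Perm.eq_inv_iff_eq]
  rw [h1, Finset.card_filter]
  push_cast
  rfl

theorem exists_not_mem_finset (s : Finset X) (h : s.card < Fintype.card X) : ∃ x, x ∉ s := by
  by_contra h2
  push Not at h2
  have : s = Finset.univ := Finset.eq_univ_iff_forall.2 h2
  rw [this, Finset.card_univ] at h
  exact lt_irrefl _ h

/-- Even permutations are three-transitive. -/
theorem exists_even_map3 (hX : 5 ≤ Fintype.card X) {u₁ u₂ u₃ x₁ x₂ x₃ : X}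
    (hu12 : u₁ ≠ u₂) (hu13 : u₁ ≠ u₃) (hu23 : u₂ ≠ u₃)
    (hx12 : x₁ ≠ x₂) (hx13 : x₁ ≠ x₃) (hx23 : x₂ ≠ x₃) :
    ∃ h : Perm X, h ∈ alternatingGroup X ∧ h u₁ = x₁ ∧ h u₂ = x₂ ∧ h u₃ = x₃ := by
  have hc : Nat.card X = Fintype.card X := Nat.card_eq_fintype_card
  have h1 := alternatingGroup.isMultiplyPretransitive X
  have h2 : IsMultiplyPretransitive (alternatingGroup X) X 3 :=
    isMultiplyPretransitive_of_le (n := Nat.card X - 2) (by omega) (by omega)
  let u : Fin 3 ↪ X := ⟨![u₁, u₂, u₃], by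
    intro a b
    fin_cases a <;> fin_cases b <;> simp [hu12, hu13, hu23, hu12.symm, hu13.symm, hu23.symm]⟩
  let v : Fin 3 ↪ X := ⟨![x₁, x₂, x₃], by
    intro a b
    fin_cases a <;> fin_cases b <;> simp [hx12, hx13, hx23, hx12.symm, hx13.symm, hx23.symm]⟩
  obtain ⟨g, hg⟩ := exists_smul_eq (alternatingGroup X) u v
  refine ⟨g.1, g.2, ?_, ?_, ?_⟩
  · exact congrArg (fun e : Fin 3 ↪ X => e 0) hg
  · exact congrArg (fun e : Fin 3 ↪ X => e 1) hg
  · exact congrArg (fun e : Fin 3 ↪ X => e 2) hg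

/-- Permutations are four-transitive. -/
theorem exists_map4 {u₁ u₂ u₃ u₄ x₁ x₂ x₃ x₄ : X}
    (hu12 : u₁ ≠ u₂) (hu13 : u₁ ≠ u₃) (hu14 : u₁ ≠ u₄) (hu23 : u₂ ≠ u₃) (hu24 : u₂ ≠ u₄) (hu34 : u₃ ≠ u₄)
    (hx12 : x₁ ≠ x₂) (hx13 : x₁ ≠ x₃) (hx14 : x₁ ≠ x₄) (hx23 : x₂ ≠ x₃) (hx24 : x₂ ≠ x₄) (hx34 : x₃ ≠ x₄) :
    ∃ h : Perm X, h u₁ = x₁ ∧ h u₂ = x₂ ∧ h u₃ = x₃ ∧ h u₄ = x₄ := by
  have h2 : IsMultiplyPretransitive (Perm X) X 4 := Equiv.Perm.isMultiplyPretransitive X 4
  let u : Fin 4 ↪ X := ⟨![u₁, u₂, u₃, u₄], by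
    intro a b
    fin_cases a <;> fin_cases b <;> simp [hu12, hu13, hu14, hu23, hu24, hu34, hu12.symm, hu13.symm, hu14.symm, hu23.symm, hu24.symm, hu34.symm]⟩
  let v : Fin 4 ↪ X := ⟨![x₁, x₂, x₃, x₄], by
    intro a b
    fin_cases a <;> fin_cases b <;> simp [hx12, hx13, hx14, hx23, hx24, hx34, hx12.symm, hx13.symm, hx14.symm, hx23.symm, hx24.symm, hx34.symm]⟩
  obtain ⟨g, hg⟩ := exists_smul_eq (Perm X) u v
  refine ⟨g, ?_, ?_, ?_, ?_⟩
  · exact congrArg (fun e : Fin 4 ↪ X => e 0) hg
  · exact congrArg (fun e : Fin 4 ↪ X => e 1) hg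
  · exact congrArg (fun e : Fin 4 ↪ X => e 2) hg
  · exact congrArg (fun e : Fin 4 ↪ X => e 3) hg

/-- A configuration of four points. -/
structure Good (p : Perm X) (i j k l : X) : Prop where
  hij : i ≠ j
  hik : i ≠ k
  hil : i ≠ l
  hjk : j ≠ k
  hjl : j ≠ l
  hkl : k ≠ l
  hi : p i = j
  hj : p j ≠ k
  hl : p l ≠ i

theorem exists_good (hX : 5 ≤ Fintype.card X) (p : Perm X) (hp : p ≠ 1) : ∃ i j k l, Good p i j k l := by
  obtain ⟨i, hi⟩ : ∃ i, p i ≠ i := by
    by_contra h
    push Not at h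
    exact hp (Equiv.ext h)
  obtain ⟨k, hk⟩ := exists_not_mem_finset ({i, p i, p (p i)} : Finset X)
    (lt_of_le_of_lt Finset.card_le_three (by omega))
  obtain ⟨l, hl⟩ := exists_not_mem_finset ({i, p i, k, p⁻¹ i} : Finset X)
    (lt_of_le_of_lt Finset.card_le_four (by omega))
  simp only [Finset.mem_insert, Finset.mem_singleton, not_or] at hk hl
  refine ⟨i, p i, k, l, ⟨hi.symm, fun h => hk.1 h.symm, fun h => hl.1 h.symm, fun h => hk.2.1 h.symm, fun h => hl.2.1 h.symm,
    fun h => hl.2.2.1 h.symm, rfl, fun h => hk.2.2 h.symm, ?_⟩⟩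
  intro h
  apply hl.2.2.2
  rw [← h]
  simp

section Specht

variable (c : Perm X)

/-- The incidence function. -/
def inc (u v : X) : ℤ := if c u = v then 1 else 0

theorem inc_nonneg (u v : X) : 0 ≤ inc c u v := by
  unfold inc
  split_ifs <;> norm_num

variable {c}

theorem swap_conj_term (σ : Perm X) (hσ : σ⁻¹ = σ) (x y : X) :
    (if (σ * c * σ⁻¹) x = y then (1 : ℤ) else 0) = inc c (σ x) (σ y) := by
  unfold inc
  have : (σ * c * σ⁻¹) x = y ↔ c (σ x) = σ y := by
    rw [hσ, Perm.mul_apply, Perm.mul_apply]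
    constructor
    · intro h
      rw [← h]
      have h1 : σ (σ (c (σ x))) = c (σ x) := by
        have := congrArg (fun g : Perm X => g (c (σ x))) (show σ * σ = 1 by rw [← mul_inv_of_self_eq σ hσ])
        simpa using this
      exact h1.symm
    · intro h
      rw [h]
      have := congrArg (fun g : Perm X => g y) (show σ * σ = 1 by rw [← mul_inv_of_self_eq σ hσ])
      simpa using this
  simp only [this]
where
  mul_inv_of_self_eq (σ : Perm X) (hσ : σ⁻¹ = σ) : 1 = σ * σ := by
    nth_rw 2 [← hσ]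
    simp

end Specht

theorem swap_disj {a b c d : X} (hac : a ≠ c) (had : a ≠ d) (hbc : b ≠ c) (hbd : b ≠ d) :
    Equiv.Perm.Disjoint (swap a b) (swap c d) := by
  intro x
  by_cases h1 : x = a
  · right
    subst h1
    exact swap_apply_of_ne_of_ne hac had
  by_cases h2 : x = b
  · right
    subst h2
    exact swap_apply_of_ne_of_ne hbc hbd
  · left
    exact swap_apply_of_ne_of_ne h1 h2

section Specht2

variable {α c : Perm X} {i j k l : X}

/-- The alternating sum. -/
def altS (c : Perm X) (i j k l x y : X) : ℤ :=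
  inc c x y - inc c (swap i k x) (swap i k y) - inc c (swap j l x) (swap j l y)
    + inc c (swap i k (swap j l x)) (swap i k (swap j l y))

theorem specht_pos (hα : Good α i j k l) (hc : Good c i j k l) :
    1 ≤ agr α c - agr α (swap i k * c * (swap i k)⁻¹) - agr α (swap j l * c * (swap j l)⁻¹)
      + agr α ((swap i k * swap j l) * c * (swap i k * swap j l)⁻¹) := by
  have hij := hc.hij
  have hik := hc.hik
  have hil := hc.hil
  have hjk := hc.hjk
  have hjl := hc.hjl
  have hkl := hc.hkl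
  have h1inv : (swap i k)⁻¹ = swap i k := swap_inv i k
  have h2inv : (swap j l)⁻¹ = swap j l := swap_inv j l
  have hcomm : swap i k * swap j l = swap j l * swap i k :=
    (swap_disj hij hil hjk.symm hkl).commute
  have h12inv : (swap i k * swap j l)⁻¹ = swap i k * swap j l := by
    rw [mul_inv_rev, h1inv, h2inv, hcomm]
  have hT : agr α c - agr α (swap i k * c * (swap i k)⁻¹) - agr α (swap j l * c * (swap j l)⁻¹)
      + agr α ((swap i k * swap j l) * c * (swap i k * swap j l)⁻¹) = ∑ x, altS c i j k l x (α x) := by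
    simp only [agr, ← Finset.sum_add_distrib, ← Finset.sum_sub_distrib]
    apply Finset.sum_congr rfl
    intro x _
    rw [swap_conj_term _ h1inv, swap_conj_term _ h2inv, swap_conj_term _ h12inv]
    simp only [inc, altS, Perm.mul_apply]
    rfl
  rw [hT]
  -- values of the swaps
  have s1i : swap i k i = k := swap_apply_left i k
  have s1k : swap i k k = i := swap_apply_right i k
  have s1j : swap i k j = j := swap_apply_of_ne_of_ne hij.symm hjk
  have s1l : swap i k l = l := swap_apply_of_ne_of_ne hil.symm hkl.symm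
  have s2j : swap j l j = l := swap_apply_left j l
  have s2l : swap j l l = j := swap_apply_right j l
  have s2i : swap j l i = i := swap_apply_of_ne_of_ne hij hil
  have s2k : swap j l k = k := swap_apply_of_ne_of_ne hjk.symm hkl
  -- vanishing
  have zero1 : ∀ x y, swap i k x = x → swap i k y = y → altS c i j k l x y = 0 := by
    intro x y hx hy
    have h1 : swap i k (swap j l x) = swap j l x := by
      rw [← Perm.mul_apply, hcomm, Perm.mul_apply, hx]
    have h3 : swap i k (swap j l y) = swap j l y := by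
      rw [← Perm.mul_apply, hcomm, Perm.mul_apply, hy]
    unfold altS
    rw [hx, hy, h1, h3]
    ring
  have zero2 : ∀ x y, swap j l x = x → swap j l y = y → altS c i j k l x y = 0 := by
    intro x y hx hy
    unfold altS
    rw [hx, hy]
    ring
  have cij : inc c i j = 1 := by simp [inc, hc.hi]
  have ckj : inc c k j = 0 := by
    have : c k ≠ j := by
      intro h
      apply hik
      apply c.injective
      rw [hc.hi, h]
    simp [inc, this]
  have cil : inc c i l = 0 := by simp [inc, hc.hi, hjl]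
  have cjk : inc c j k = 0 := by simp [inc, hc.hj]
  have cli : inc c l i = 0 := by simp [inc, hc.hl]
  have Sij : altS c i j k l i j = 1 + inc c k l := by
    unfold altS
    rw [s2i, s2j, s1i, s1j, s1l, cij, ckj, cil]
    ring
  have Skl : altS c i j k l k l = 1 + inc c k l := by
    unfold altS
    rw [s2k, s2l, s1k, s1j, s1l, cij, ckj, cil]
    ring
  have Sji : altS c i j k l j i = inc c j i + inc c l k := by
    unfold altS
    rw [s2j, s2i, s1i, s1j, s1l, cjk, cli]
    ring
  have Slk : altS c i j k l l k = inc c j i + inc c l k := by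
    unfold altS
    rw [s2l, s2k, s1k, s1j, s1l, cjk, cli]
    ring
  have hnn : ∀ x ∈ (Finset.univ : Finset X), 0 ≤ altS c i j k l x (α x) := by
    intro x _
    by_cases hxi : x = i
    · subst hxi
      rw [hα.hi, Sij]
      have := inc_nonneg c k l
      omega
    by_cases hxk : x = k
    · subst hxk
      by_cases hy : α x = l
      · rw [hy, Skl]
        have := inc_nonneg c x l
        omega
      · have hy2 : α x ≠ j := by
          intro h
          apply hxi
          apply α.injective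
          rw [hα.hi, h]
        rw [zero2 x (α x) s2k (swap_apply_of_ne_of_ne hy2 hy)]
    by_cases hxj : x = j
    · subst hxj
      by_cases hy : α x = i
      · rw [hy, Sji]
        have := inc_nonneg c x i
        have := inc_nonneg c l k
        omega
      · rw [zero1 x (α x) s1j (swap_apply_of_ne_of_ne hy hα.hj)]
    by_cases hxl : x = l
    · subst hxl
      by_cases hy : α x = k
      · rw [hy, Slk]
        have := inc_nonneg c j i
        have := inc_nonneg c x k
        omega
      · rw [zero1 x (α x) s1l (swap_apply_of_ne_of_ne hα.hl hy)]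
    have h1x : swap i k x = x := swap_apply_of_ne_of_ne hxi hxk
    have h2x : swap j l x = x := swap_apply_of_ne_of_ne hxj hxl
    by_cases hy : α x = i ∨ α x = k
    · have hy2 : swap j l (α x) = α x := by
        rcases hy with h | h
        · rw [h]
          exact s2i
        · rw [h]
          exact s2k
      rw [zero2 x (α x) h2x hy2]
    · push Not at hy
      rw [zero1 x (α x) h1x (swap_apply_of_ne_of_ne hy.1 hy.2)]
  have h1 := Finset.single_le_sum hnn (Finset.mem_univ i)
  rw [hα.hi, Sij] at h1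
  have := inc_nonneg c k l
  omega

theorem not_const_of_good (hX : 5 ≤ Fintype.card X) (hα : α ≠ 1) (hc : c ≠ 1) (K : ℤ)
    (hall : ∀ h : Perm X, agr α (h * c * h⁻¹) = K) : False := by
  obtain ⟨i, j, k, l, h1⟩ := exists_good hX α hα
  obtain ⟨i', j', k', l', h2⟩ := exists_good hX c hc
  obtain ⟨h, hi, hj, hk, hl⟩ := exists_map4 h2.hij h2.hik h2.hil h2.hjk h2.hjl h2.hkl h1.hij h1.hik h1.hil h1.hjk h1.hjl h1.hkl
  have hG : Good (h * c * h⁻¹) i j k l := by
    have e : ∀ z, (h * c * h⁻¹) (h z) = h (c z) := by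
      intro z
      simp
    refine ⟨h1.hij, h1.hik, h1.hil, h1.hjk, h1.hjl, h1.hkl, ?_, ?_, ?_⟩
    · rw [← hi, e, h2.hi, hj]
    · rw [← hj, e, ← hk]
      intro h3
      exact h2.hj (h.injective h3)
    · rw [← hl, e, ← hi]
      intro h3
      exact h2.hl (h.injective h3)
  have hT := specht_pos h1 hG
  have e1 := hall h
  have e2 := hall (swap i k * h)
  have e3 := hall (swap j l * h)
  have e4 := hall (swap i k * swap j l * h)
  have r2 : swap i k * h * c * (swap i k * h)⁻¹ = swap i k * (h * c * h⁻¹) * (swap i k)⁻¹ := by group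
  have r3 : swap j l * h * c * (swap j l * h)⁻¹ = swap j l * (h * c * h⁻¹) * (swap j l)⁻¹ := by group
  have r4 : swap i k * swap j l * h * c * (swap i k * swap j l * h)⁻¹ =
      (swap i k * swap j l) * (h * c * h⁻¹) * (swap i k * swap j l)⁻¹ := by group
  rw [r2] at e2
  rw [r3] at e3
  rw [r4] at e4
  rw [e1, e2, e3, e4] at hT
  omega

end Specht2

/-- Moving a chain by a three-cycle. -/
theorem chain_move (hX : 5 ≤ Fintype.card X) {α c : Perm X} {x u : X}
    (hα1 : α x ≠ x) (hα2 : α (α x) ≠ x) (hα3 : α (α (α x)) ≠ x)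
    (hc1 : c u ≠ u) (hc2 : c (c u) ≠ u) (hc3 : c (c (c u)) ≠ u) :
    ∃ h₁ ∈ alternatingGroup X, ∃ h₂ ∈ alternatingGroup X, agr α (h₁ * c * h₁⁻¹) ≠ agr α (h₂ * c * h₂⁻¹) := by
  set x₁ := x with hx₁
  set x₂ := α x with hx₂
  set x₃ := α x₂ with hx₃
  have h12 : x₁ ≠ x₂ := hα1.symm
  have h13 : x₁ ≠ x₃ := hα2.symm
  have h23 : x₂ ≠ x₃ := fun h => hα1 (α.injective h.symm)
  obtain ⟨h, hev, hu1, hu2, hu3⟩ := exists_even_map3 hX (u₁ := u) (u₂ := c u) (u₃ := c (c u))
    hc1.symm hc2.symm (fun h => hc1 (c.injective h.symm)) h12 h13 h23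
  set c' := h * c * h⁻¹ with hc'
  have e : ∀ z, c' (h z) = h (c z) := by
    intro z
    simp [hc']
  have c1 : c' x₁ = x₂ := by rw [← hu1, e, hu2]
  have c2 : c' x₂ = x₃ := by rw [← hu2, e, hu3]
  set y := c' x₃ with hy
  have y1 : y ≠ x₁ := by
    rw [hy, ← hu3, e, ← hu1]
    intro h3
    exact hc3 (h.injective h3)
  have y2 : y ≠ x₂ := by
    intro h3
    rw [← c1, hy] at h3
    exact h13 (c'.injective h3).symm
  have y3 : y ≠ x₃ := by
    intro h3
    rw [← c2, hy] at h3
    exact h23 (c'.injective h3).symm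
  set τ := swap x₁ x₂ * swap x₂ x₃ with hτ
  have t1 : τ x₁ = x₂ := by
    rw [hτ, Perm.mul_apply, swap_apply_of_ne_of_ne h12 h13, swap_apply_left]
  have t2 : τ x₂ = x₃ := by
    rw [hτ, Perm.mul_apply, swap_apply_left, swap_apply_of_ne_of_ne h13.symm h23.symm]
  have t3 : τ x₃ = x₁ := by
    rw [hτ, Perm.mul_apply, swap_apply_right, swap_apply_right]
  have tO : ∀ w, w ≠ x₁ → w ≠ x₂ → w ≠ x₃ → τ w = w := by
    intro w h1 h2 h3
    rw [hτ, Perm.mul_apply, swap_apply_of_ne_of_ne h2 h3, swap_apply_of_ne_of_ne h1 h2]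
  have i1 : τ⁻¹ x₁ = x₃ := by rw [Perm.inv_eq_iff_eq, t3]
  have i2 : τ⁻¹ x₂ = x₁ := by rw [Perm.inv_eq_iff_eq, t1]
  have i3 : τ⁻¹ x₃ = x₂ := by rw [Perm.inv_eq_iff_eq, t2]
  have io : ∀ w, w ≠ x₁ → w ≠ x₂ → w ≠ x₃ → τ⁻¹ w = w := by
    intro w h1 h2 h3
    rw [Perm.inv_eq_iff_eq, tO w h1 h2 h3]
  have hτev : τ ∈ alternatingGroup X := by
    rw [Equiv.Perm.mem_alternatingGroup, hτ, map_mul, Equiv.Perm.sign_swap h12, Equiv.Perm.sign_swap h23]
    decide
  refine ⟨h, hev, τ * h, (alternatingGroup X).mul_mem hτev hev, ?_⟩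
  have r : τ * h * c * (τ * h)⁻¹ = τ * c' * τ⁻¹ := by
    rw [hc']
    group
  rw [r]
  apply ne_of_gt
  unfold agr
  apply Finset.sum_lt_sum
  · intro w _
    have key : (τ * c' * τ⁻¹) w = α w → c' w = α w := by
      intro hw
      rw [Perm.mul_apply, Perm.mul_apply] at hw
      by_cases w1 : w = x₁
      · exfalso
        rw [w1, i1, ← hy, tO y y1 y2 y3] at hw
        apply y2
        rw [hw]
      by_cases w2 : w = x₂
      · rw [w2, c2]
      by_cases w3 : w = x₃
      · exfalso
        rw [w3, i3, c2, t3] at hw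
        exact hα3 hw.symm
      rw [io w w1 w2 w3] at hw
      by_cases d1 : c' w = x₁
      · exfalso
        rw [d1, t1] at hw
        apply w1
        exact (α.injective hw).symm
      by_cases d2 : c' w = x₂
      · exfalso
        apply w1
        apply c'.injective
        rw [d2, c1]
      by_cases d3 : c' w = x₃
      · exfalso
        apply w2
        apply c'.injective
        rw [d3, c2]
      rwa [tO _ d1 d2 d3] at hw
    split_ifs with h3 h4 h4
    · exact le_rfl
    · exact absurd (key h3) h4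
    · norm_num
    · exact le_rfl
  · refine ⟨x₁, Finset.mem_univ _, ?_⟩
    have h3 : ¬ (τ * c' * τ⁻¹) x₁ = α x₁ := by
      intro hw
      rw [Perm.mul_apply, Perm.mul_apply, i1, ← hy, tO y y1 y2 y3] at hw
      apply y2
      rw [hw]
    have h4 : c' x₁ = α x₁ := c1
    rw [if_neg h3, if_pos h4]
    norm_num

/-- Short cycles give an odd centralising permutation. -/
theorem exists_odd_centralizer (hX : 5 ≤ Fintype.card X) (p : Perm X)
    (h : ¬ ∃ x, p x ≠ x ∧ p (p x) ≠ x ∧ p (p (p x)) ≠ x) :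
    ∃ π : Perm X, π * p = p * π ∧ Perm.sign π = -1 := by
  push Not at h
  by_cases hA : ∃ x, p x ≠ x ∧ p (p x) = x
  · obtain ⟨x, h1, h2⟩ := hA
    refine ⟨swap x (p x), ?_, Equiv.Perm.sign_swap h1.symm⟩
    rw [Equiv.mul_swap_eq_swap_mul, h2, Equiv.swap_comm]
  push Not at hA
  by_cases hB : ∃ y₁ y₂, y₁ ≠ y₂ ∧ p y₁ = y₁ ∧ p y₂ = y₂
  · obtain ⟨y₁, y₂, h1, h2, h3⟩ := hB
    refine ⟨swap y₁ y₂, ?_, Equiv.Perm.sign_swap h1⟩
    rw [Equiv.mul_swap_eq_swap_mul, h2, h3]
  push Not at hB
  -- a moved point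
  obtain ⟨x, hx⟩ : ∃ x, p x ≠ x := by
    by_contra h1
    push Not at h1
    have h2 : 1 < Fintype.card X := by omega
    obtain ⟨a, b, hab⟩ := Fintype.exists_pair_of_one_lt_card h2
    exact hB a b hab (h1 a) (h1 b)
  have hx2 := hA x hx
  have hx3 := h x hx hx2
  obtain ⟨y₁, hy₁⟩ := exists_not_mem_finset ({x, p x, p (p x)} : Finset X)
    (lt_of_le_of_lt Finset.card_le_three (by omega))
  obtain ⟨y₂, hy₂⟩ := exists_not_mem_finset ({x, p x, p (p x), y₁} : Finset X)
    (lt_of_le_of_lt Finset.card_le_four (by omega))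
  simp only [Finset.mem_insert, Finset.mem_singleton, not_or] at hy₁ hy₂
  obtain ⟨y, hy1, hy2, hy3, hy⟩ : ∃ y, y ≠ x ∧ y ≠ p x ∧ y ≠ p (p x) ∧ p y ≠ y := by
    by_cases h1 : p y₁ = y₁
    · refine ⟨y₂, hy₂.1, hy₂.2.1, hy₂.2.2.1, ?_⟩
      intro h2
      exact hB y₁ y₂ (fun h3 => hy₂.2.2.2 h3.symm) h1 h2
    · exact ⟨y₁, hy₁.1, hy₁.2.1, hy₁.2.2, h1⟩
  have hy4 := hA y hy
  have hy5 := h y hy hy4
  -- the disjointness facts
  have a1 : x ≠ p y := by
    intro h1
    apply hy3
    apply p.injective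
    rw [hx3, ← h1]
  have a2 : x ≠ p (p y) := by
    intro h1
    apply hy2
    apply p.injective
    apply p.injective
    rw [hx3, ← h1]
  have a3 : p x ≠ p y := fun h1 => hy1 (p.injective h1).symm
  have a4 : p (p x) ≠ p (p y) := fun h1 => hy1 (p.injective (p.injective h1)).symm
  have c1 : Commute (swap (p x) (p y)) (swap x y) :=
    (swap_disj hx hy2.symm a1.symm hy).commute
  have c2 : Commute (swap (p (p x)) (p (p y))) (swap x y) :=
    (swap_disj hx2 hy3.symm a2.symm hy4).commute
  refine ⟨swap x y * swap (p x) (p y) * swap (p (p x)) (p (p y)), ?_, ?_⟩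
  · have e1 : p * swap x y = swap (p x) (p y) * p := Equiv.mul_swap_eq_swap_mul _ _ _
    have e2 : p * swap (p x) (p y) = swap (p (p x)) (p (p y)) * p := Equiv.mul_swap_eq_swap_mul _ _ _
    have e3 : p * swap (p (p x)) (p (p y)) = swap x y * p := by
      rw [Equiv.mul_swap_eq_swap_mul, hx3, hy5]
    calc swap x y * swap (p x) (p y) * swap (p (p x)) (p (p y)) * p
        = swap x y * swap (p x) (p y) * (swap (p (p x)) (p (p y)) * p) := by group
      _ = swap x y * swap (p x) (p y) * (p * swap (p x) (p y)) := by rw [e2]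
      _ = swap x y * (swap (p x) (p y) * p) * swap (p x) (p y) := by group
      _ = swap x y * (p * swap x y) * swap (p x) (p y) := by rw [e1]
      _ = (swap x y * p) * swap x y * swap (p x) (p y) := by group
      _ = (p * swap (p (p x)) (p (p y))) * swap x y * swap (p x) (p y) := by rw [e3]
      _ = p * (swap (p (p x)) (p (p y)) * swap x y) * swap (p x) (p y) := by group
      _ = p * (swap x y * swap (p (p x)) (p (p y))) * swap (p x) (p y) := by rw [c2.eq]
      _ = p * (swap x y * swap (p x) (p y) * swap (p (p x)) (p (p y))) := by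
          have c3 : Commute (swap (p (p x)) (p (p y))) (swap (p x) (p y)) :=
            (swap_disj (fun h1 => hx (p.injective h1)) (fun h1 => hy2 (p.injective h1).symm) (fun h1 => a1 (p.injective h1).symm) (fun h1 => hy (p.injective h1))).commute
          calc p * (swap x y * swap (p (p x)) (p (p y))) * swap (p x) (p y)
                = p * swap x y * (swap (p (p x)) (p (p y)) * swap (p x) (p y)) := by group
            _ = p * swap x y * (swap (p x) (p y) * swap (p (p x)) (p (p y))) := by rw [c3.eq]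
            _ = _ := by group
  · rw [map_mul, map_mul, Equiv.Perm.sign_swap (Ne.symm hy1), Equiv.Perm.sign_swap a3, Equiv.Perm.sign_swap a4]
    decide

/-- The main theorem. -/
theorem main_fix (hX : 5 ≤ Fintype.card X) (a b : Perm X) (ha : a ≠ 1) (hb : b ≠ 1) :
    ∃ g₁ h₁ g₂ h₂ : Perm X, g₁ ∈ alternatingGroup X ∧ h₁ ∈ alternatingGroup X ∧ g₂ ∈ alternatingGroup X ∧ h₂ ∈ alternatingGroup X ∧
      Nat.card (Function.fixedPoints ⇑(g₁ * a * g₁⁻¹ * (h₁ * b * h₁⁻¹))) ≠
        Nat.card (Function.fixedPoints ⇑(g₂ * a * g₂⁻¹ * (h₂ * b * h₂⁻¹))) := by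
  by_contra hcon
  push Not at hcon
  set α := a⁻¹ with hα
  have hα1 : α ≠ 1 := by
    intro h
    apply ha
    rw [hα] at h
    exact inv_eq_one.1 h
  have hval : ∀ g h : Perm X, (Nat.card (Function.fixedPoints ⇑(g * a * g⁻¹ * (h * b * h⁻¹))) : ℤ) =
      agr (g * α * g⁻¹) (h * b * h⁻¹) := by
    intro g h
    rw [card_fix_eq]
    congr 1
  set K := agr α b with hK
  have hconst : ∀ g ∈ alternatingGroup X, ∀ h ∈ alternatingGroup X, agr (g * α * g⁻¹) (h * b * h⁻¹) = K := by
    intro g hg h hh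
    have h1 := hcon g h 1 1 hg hh (alternatingGroup X).one_mem (alternatingGroup X).one_mem
    have h2 := congrArg (fun n : ℕ => (n : ℤ)) h1
    simp only [hval] at h2
    rw [h2, hK]
    simp
  by_cases hlong : (∃ x, α x ≠ x ∧ α (α x) ≠ x ∧ α (α (α x)) ≠ x) ∧ (∃ u, b u ≠ u ∧ b (b u) ≠ u ∧ b (b (b u)) ≠ u)
  · obtain ⟨⟨x, h1, h2, h3⟩, ⟨u, h4, h5, h6⟩⟩ := hlong
    obtain ⟨h₁, hh₁, h₂, hh₂, hne⟩ := chain_move hX h1 h2 h3 h4 h5 h6
    apply hne
    have e1 := hconst 1 (alternatingGroup X).one_mem h₁ hh₁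
    have e2 := hconst 1 (alternatingGroup X).one_mem h₂ hh₂
    simp only [one_mul, inv_one, mul_one] at e1 e2
    rw [e1, e2]
  · have hall : ∀ h : Perm X, agr α (h * b * h⁻¹) = K := by
      intro h
      by_cases hev : Perm.sign h = 1
      · have e1 := hconst 1 (alternatingGroup X).one_mem h (Equiv.Perm.mem_alternatingGroup.2 hev)
        simpa using e1
      have hodd : Perm.sign h = -1 := (Int.units_eq_one_or _).resolve_left hev
      by_cases hl : ∃ x, α x ≠ x ∧ α (α x) ≠ x ∧ α (α (α x)) ≠ x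
      · -- the second element has short cycles
        have hs : ¬ ∃ u, b u ≠ u ∧ b (b u) ≠ u ∧ b (b (b u)) ≠ u := fun h3 => hlong ⟨hl, h3⟩
        obtain ⟨π, hπ, hπs⟩ := exists_odd_centralizer hX b hs
        have e1 := hconst 1 (alternatingGroup X).one_mem (h * π)
          (Equiv.Perm.mem_alternatingGroup.2 (by rw [map_mul, hodd, hπs]; decide))
        have e2 : h * π * b * (h * π)⁻¹ = h * b * h⁻¹ := by
          calc h * π * b * (h * π)⁻¹ = h * (π * b) * π⁻¹ * h⁻¹ := by group
            _ = h * (b * π) * π⁻¹ * h⁻¹ := by rw [hπ]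
            _ = _ := by group
        rw [e2] at e1
        simpa using e1
      · obtain ⟨π, hπ, hπs⟩ := exists_odd_centralizer hX α hl
        have e1 := hconst 1 (alternatingGroup X).one_mem (π * h)
          (Equiv.Perm.mem_alternatingGroup.2 (by rw [map_mul, hodd, hπs]; decide))
        have e2 : π * h * b * (π * h)⁻¹ = π * (h * b * h⁻¹) * π⁻¹ := by group
        rw [e2] at e1
        have e3 : α = π * α * π⁻¹ := by
          rw [hπ]
          group
        simp only [one_mul, inv_one, mul_one] at e1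
        nth_rw 1 [e3] at e1
        rwa [agr_conj] at e1
    exact not_const_of_good hX hα1 hb K hall

end Cfsg.Agent.Lib.Known.ArHer
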