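import Mathlib
import Cfsg.Agent.Lib.Known.SL2IrrOdd3
import Cfsg.Agent.Lib.Known.IrrCount

set_option autoImplicit false

/-! Counting characters of `SL₂(F)`, `q` odd, with a condition on the degree. -/

namespace Cfsg.Agent.Lib.Known

open Cfsg Cfsg.Agent.Lib.Char

variable {F : Type*} [Field F] [Fintype F] [DecidableEq F]

open scoped _root_.Classical in
theorem SL2OddData.cusp_eq (D : SL2OddData F) (hodd : Odd (Fintype.card F)) :
    sl2CuspSet F = D.C11 ∪ D.C10 ∪ D.C01 ∧ Disjoint D.C11 D.C10 ∧ Disjoint (D.C11 ∪ D.C10) D.C01 := by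
  refine ⟨?_, ?_, ?_⟩
  · ext χ
    simp only [SL2OddData.C11, SL2OddData.C10, SL2OddData.C01, Finset.mem_union, Finset.mem_filter]
    constructor
    · intro h
      rcases D.cusp_types hodd h with h1 | h1 | h1
      · exact Or.inl (Or.inl ⟨h, h1⟩)
      · exact Or.inl (Or.inr ⟨h, h1⟩)
      · exact Or.inr ⟨h, h1⟩
    · rintro ((h | h) | h) <;> exact h.1
  · rw [Finset.disjoint_left]
    intro χ h1 h2
    simp only [SL2OddData.C11, SL2OddData.C10, Finset.mem_filter] at h1 h2
    omega
  · rw [Finset.disjoint_left]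
    intro χ h1 h2
    simp only [SL2OddData.C11, SL2OddData.C10, SL2OddData.C01, Finset.mem_union, Finset.mem_filter] at h1 h2
    omega

open scoped _root_.Classical in
/-- The number of irreducible characters of `SL₂(F)` whose degree satisfies a condition. -/
theorem SL2OddData.count_G (D : SL2OddData F) (hodd : Odd (Fintype.card F)) (r : ℕ) (hr : Fintype.card F = 2 * r + 3)
    (Pd : ℕ → Prop) :
    Nat.card {χ : IrrCharacter (SL2 F) // Pd (charDegree (χ : SL2 F → ℂ))} =
      (if Pd 1 then 1 else 0) + (if Pd (2 * r + 3) then 1 else 0) + (if Pd (r + 2) then 2 else 0) +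
        (if Pd (2 * r + 4) then r else 0) + (if Pd (2 * r + 2) then r + 1 else 0) + (if Pd (r + 1) then 2 else 0) := by
  let f : IrrCharacter (SL2 F) → ℕ := fun χ => if Pd (irrDeg χ) then 1 else 0
  have h0 : Nat.card {χ : IrrCharacter (SL2 F) // Pd (charDegree (χ : SL2 F → ℂ))} = ∑ χ, f χ := by
    rw [Nat.card_eq_fintype_card, Fintype.card_subtype, Finset.card_filter]
    apply Finset.sum_congr rfl
    intro χ _
    simp only [f, charDegree_eq_irrDeg]
  obtain ⟨hu, d1, d2⟩ := D.partition hodd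
  obtain ⟨hc, d3, d4⟩ := D.cusp_eq hodd
  obtain ⟨hcind, hccusp, _, _, _⟩ := D.counting hodd r hr
  obtain ⟨c11, c10, c01⟩ := D.card_cusp_types hodd r hr
  have e1 : (2 * r + 3 + 1) / 2 = r + 2 := by omega
  rw [h0, hu, Finset.sum_union d2, Finset.sum_union d1, D.sum_fourSet hodd, hc, Finset.sum_union d4, Finset.sum_union d3]
  have v1 : f (o F) = if Pd 1 then 1 else 0 := by simp only [f, irrDeg_o]
  have v2 : f (s F) = if Pd (2 * r + 3) then 1 else 0 := by simp only [f, irrDeg_s, hr]
  have v3 : f D.x₁ = if Pd (r + 2) then 1 else 0 := by simp only [f, D.irrDeg_x₁ hodd, hr, e1]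
  have v4 : f D.x₂ = if Pd (r + 2) then 1 else 0 := by simp only [f, D.irrDeg_x₂ hodd, hr, e1]
  have v5 : ∑ χ ∈ indSet F, f χ = if Pd (2 * r + 4) then r else 0 := by
    rw [Finset.sum_congr rfl (g := fun _ => if Pd (2 * r + 4) then 1 else 0)]
    · rw [Finset.sum_const, hcind, smul_eq_mul]
      split_ifs <;> simp
    · intro χ hχ
      simp only [f, irrDeg_ind hχ, hr]
  have v6 : ∑ χ ∈ D.C11, f χ = if Pd (2 * r + 2) then r + 1 else 0 := by
    rw [Finset.sum_congr rfl (g := fun _ => if Pd (2 * r + 2) then 1 else 0)]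
    · rw [Finset.sum_const, c11, smul_eq_mul]
      split_ifs <;> simp
    · intro χ hχ
      simp only [f, D.mem_C11_deg hodd hχ r hr]
  have v7 : ∑ χ ∈ D.C10, f χ = if Pd (r + 1) then 1 else 0 := by
    rw [Finset.sum_congr rfl (g := fun _ => if Pd (r + 1) then 1 else 0)]
    · rw [Finset.sum_const, c10, smul_eq_mul, one_mul]
    · intro χ hχ
      simp only [f, D.mem_C10_deg hodd hχ r hr]
  have v8 : ∑ χ ∈ D.C01, f χ = if Pd (r + 1) then 1 else 0 := by
    rw [Finset.sum_congr rfl (g := fun _ => if Pd (r + 1) then 1 else 0)]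
    · rw [Finset.sum_const, c01, smul_eq_mul, one_mul]
    · intro χ hχ
      simp only [f, D.mem_C01_deg hodd hχ r hr]
  rw [v1, v2, v3, v4, v5, v6, v7, v8]
  split_ifs <;> simp <;> omega

end Cfsg.Agent.Lib.Known
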