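import Mathlib

set_option autoImplicit false

/-! Sylow subgroups contained in a cyclic subgroup which is the centralizer of each of its
nontrivial `ℓ`-elements. -/

namespace Cfsg.Agent.Lib.Known

variable {G : Type*} [Group G]

theorem centralizer_map_conj (g : G) (S : Subgroup G) :
    Subgroup.centralizer ((S.map (MulAut.conj g).toMonoidHom : Subgroup G) : Set G)
      = (Subgroup.centralizer (S : Set G)).map (MulAut.conj g).toMonoidHom := by
  ext x
  simp only [Subgroup.mem_centralizer_iff, Subgroup.mem_map, SetLike.mem_coe]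
  constructor
  · intro h
    refine ⟨g⁻¹ * x * g, ?_, by simp [MulAut.conj_apply]; group⟩
    intro s hs
    have := h (g * s * g⁻¹) ⟨s, hs, by simp [MulAut.conj_apply]⟩
    have h2 : g⁻¹ * (g * s * g⁻¹ * x) * g = g⁻¹ * (x * (g * s * g⁻¹)) * g := by rw [this]
    calc s * (g⁻¹ * x * g) = g⁻¹ * (g * s * g⁻¹ * x) * g := by group
      _ = g⁻¹ * (x * (g * s * g⁻¹)) * g := h2
      _ = g⁻¹ * x * g * s := by group
  · rintro ⟨c, hc, rfl⟩ _ ⟨s, hs, rfl⟩
    have := hc s hs
    simp only [MulAut.conj_apply, MulEquiv.coe_toMonoidHom]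
    calc g * s * g⁻¹ * (g * c * g⁻¹) = g * (s * c) * g⁻¹ := by group
      _ = g * (c * s) * g⁻¹ := by rw [this]
      _ = g * c * g⁻¹ * (g * s * g⁻¹) := by group

theorem normalizer_map_conj (g : G) (S : Subgroup G) :
    Subgroup.normalizer ((S.map (MulAut.conj g).toMonoidHom : Subgroup G) : Set G)
      = (Subgroup.normalizer (S : Set G)).map (MulAut.conj g).toMonoidHom := by
  ext x
  simp only [Subgroup.mem_normalizer_iff, SetLike.mem_coe]
  have key : ∀ y : G, y ∈ S.map (MulAut.conj g).toMonoidHom ↔ g⁻¹ * y * g ∈ S := by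
    intro y
    rw [Subgroup.mem_map]
    constructor
    · rintro ⟨s, hs, rfl⟩
      simpa [MulAut.conj_apply, mul_assoc] using hs
    · intro h
      exact ⟨_, h, by simp [MulAut.conj_apply, mul_assoc]⟩
  rw [Subgroup.mem_map]
  constructor
  · intro h
    refine ⟨g⁻¹ * x * g, ?_, by simp [MulAut.conj_apply]; group⟩
    rw [Subgroup.mem_normalizer_iff]
    intro s
    have h1 := h (g * s * g⁻¹)
    rw [key, key] at h1
    have e1 : g⁻¹ * (g * s * g⁻¹) * g = s := by group
    have e2 : g⁻¹ * (x * (g * s * g⁻¹) * x⁻¹) * g = g⁻¹ * x * g * s * (g⁻¹ * x * g)⁻¹ := by group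
    rw [e1, e2] at h1
    exact h1
  · rintro ⟨c, hc, rfl⟩ y
    rw [Subgroup.mem_normalizer_iff] at hc
    rw [key, key]
    have e2 : g⁻¹ * (((MulAut.conj g).toMonoidHom c) * y * ((MulAut.conj g).toMonoidHom c)⁻¹) * g = c * (g⁻¹ * y * g) * c⁻¹ := by
      simp [MulAut.conj_apply]
      group
    rw [e2]
    exact hc _

variable [Finite G]

/-- Subgroups of a finite cyclic group with the same order are equal. -/
theorem subgroup_eq_of_card_eq_cyclic [IsCyclic G] (H K : Subgroup G) (h : Nat.card H = Nat.card K) : H = K := by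
  classical
  haveI := Fintype.ofFinite G
  set n := Nat.card K with hn
  have hn0 : 0 < n := Nat.card_pos
  have hle : (Finset.univ.filter (fun a : G => a ^ n = 1)).card ≤ n := IsCyclic.card_pow_eq_one_le hn0
  have key : ∀ L : Subgroup G, Nat.card L = n → (L : Set G) = ((Finset.univ.filter (fun a : G => a ^ n = 1) : Finset G) : Set G) := by
    intro L hL
    have hsub : (Finset.univ.filter (· ∈ L) : Finset G) ⊆ Finset.univ.filter (fun a : G => a ^ n = 1) := by
      intro a ha
      simp only [Finset.mem_filter, Finset.mem_univ, true_and] at ha ⊢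
      have := pow_card_eq_one' (x := (⟨a, ha⟩ : L))
      rw [hL] at this
      simpa using congrArg Subtype.val this
    have hcard : (Finset.univ.filter (· ∈ L) : Finset G).card = n := by
      rw [← hL, Nat.card_eq_fintype_card, Fintype.card_subtype]
    have heq := Finset.eq_of_subset_of_card_le hsub (by rw [hcard]; exact hle)
    rw [← heq]
    ext x
    simp
  apply SetLike.coe_injective
  rw [key H h, key K rfl]

/-- A cyclic subgroup `T` containing a Sylow `ℓ`-subgroup, which is the centralizer of all its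
nontrivial `ℓ`-elements, controls the centralizer and the normalizer of all Sylow
`ℓ`-subgroups. -/
theorem sylow_of_torus' {ℓ : ℕ} [Fact ℓ.Prime] (T : Subgroup G) (hcyc : IsCyclic T)
    (hdvd : ℓ ∣ Nat.card T) (hidx : ¬ ℓ ∣ T.index)
    (hC : ∀ x ∈ T, x ≠ 1 → (∃ k : ℕ, orderOf x = ℓ ^ k) → Subgroup.centralizer ({x} : Set G) = T)
    (P : Sylow ℓ G) :
    ∃ g : G, Subgroup.centralizer ((P : Subgroup G) : Set G) = T.map (MulAut.conj g).toMonoidHom ∧
      Subgroup.normalizer ((P : Subgroup G) : Set G) = (Subgroup.normalizer (T : Set G)).map (MulAut.conj g).toMonoidHom := by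
  classical
  have hℓ : ℓ.Prime := Fact.out
  -- a Sylow subgroup in `T`
  let Q : Sylow ℓ T := default
  let R : Subgroup G := (Q : Subgroup T).map T.subtype
  have hRT : R ≤ T := by
    rintro _ ⟨x, _, rfl⟩
    exact x.2
  have hRcard : Nat.card R = Nat.card (Q : Subgroup T) :=
    Nat.card_congr (Subgroup.equivMapOfInjective _ _ T.subtype_injective).symm.toEquiv
  have hT0 : Nat.card T ≠ 0 := Nat.card_pos.ne'
  have hG0 : T.index ≠ 0 := Subgroup.index_ne_zero_of_finite
  have hcardG : Nat.card G = Nat.card T * T.index := (Subgroup.card_mul_index T).symm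
  have hfac : (Nat.card G).factorization ℓ = (Nat.card T).factorization ℓ := by
    rw [hcardG, Nat.factorization_mul hT0 hG0, Finsupp.add_apply, Nat.factorization_eq_zero_of_not_dvd hidx, add_zero]
  have hQcard : Nat.card (Q : Subgroup T) = ℓ ^ (Nat.card T).factorization ℓ := Q.card_eq_multiplicity
  have hRcard' : Nat.card R = ℓ ^ (Nat.card G).factorization ℓ := by
    rw [hRcard, hQcard, hfac]
  let P₀ : Sylow ℓ G := Sylow.ofCard R hRcard'
  have hP₀ : (P₀ : Subgroup G) = R := rfl
  have hk : 1 ≤ (Nat.card T).factorization ℓ :=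
    (hℓ.dvd_iff_one_le_factorization hT0).mp hdvd
  -- a nontrivial element of `R`
  have hRne : ∃ x ∈ R, x ≠ 1 := by
    by_contra hcon
    push Not at hcon
    have : R = ⊥ := by
      rw [Subgroup.eq_bot_iff_forall]
      exact hcon
    have h1 : Nat.card R = 1 := by
      rw [this]
      simp
    rw [hRcard', hfac] at h1
    have h2 : 1 < ℓ ^ (Nat.card T).factorization ℓ := Nat.one_lt_pow (by omega) hℓ.one_lt
    omega
  obtain ⟨x, hxR, hx1⟩ := hRne
  have hxT := hRT hxR
  have hxord : ∃ k : ℕ, orderOf x = ℓ ^ k := by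
    have hp : IsPGroup ℓ P₀ := P₀.isPGroup'
    obtain ⟨k, hk⟩ := hp.exists_card_eq
    have hd : orderOf x ∣ Nat.card R := Subgroup.orderOf_dvd_natCard R hxR
    rw [hRcard'] at hd
    obtain ⟨j, _, hj⟩ := (Nat.dvd_prime_pow hℓ).mp hd
    exact ⟨j, hj⟩
  have hCx := hC x hxT hx1 hxord
  -- `T` is commutative
  have hcomm : ∀ a ∈ T, ∀ b ∈ T, a * b = b * a := by
    intro a ha b hb
    letI : CommGroup T := IsCyclic.commGroup
    have := mul_comm (⟨a, ha⟩ : T) ⟨b, hb⟩
    simpa using congrArg Subtype.val this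
  -- the centralizer of `R`
  have hCR : Subgroup.centralizer (R : Set G) = T := by
    apply le_antisymm
    · intro y hy
      rw [← hCx, Subgroup.mem_centralizer_singleton_iff]
      exact (hy x hxR).symm
    · intro y hy z hz
      exact hcomm z (hRT hz) y hy
  -- the normalizer of `R`
  have hNR : Subgroup.normalizer (R : Set G) = Subgroup.normalizer (T : Set G) := by
    apply le_antisymm
    · intro y hy
      rw [Subgroup.mem_normalizer_iff]
      intro z
      rw [← hCR]
      simp only [SetLike.mem_coe, Subgroup.mem_centralizer_iff]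
      constructor
      · intro hz r hr
        have h1 : y⁻¹ * r * y ∈ R := by
          have := (Subgroup.mem_normalizer_iff.mp (inv_mem hy) r)
          simpa using (this.mp hr)
        have h2 := hz _ h1
        calc r * (y * z * y⁻¹) = y * ((y⁻¹ * r * y) * z) * y⁻¹ := by group
          _ = y * (z * (y⁻¹ * r * y)) * y⁻¹ := by rw [h2]
          _ = y * z * y⁻¹ * r := by group
      · intro hz r hr
        have h1 : y * r * y⁻¹ ∈ R := (Subgroup.mem_normalizer_iff.mp hy r).mp hr
        have h2 := hz _ h1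
        have e1 : y * (r * z) * y⁻¹ = y * (z * r) * y⁻¹ := by
          calc y * (r * z) * y⁻¹ = y * r * y⁻¹ * (y * z * y⁻¹) := by group
            _ = y * z * y⁻¹ * (y * r * y⁻¹) := h2
            _ = y * (z * r) * y⁻¹ := by group
        exact mul_left_cancel (mul_right_cancel e1)
    · intro y hy
      -- `y R y⁻¹` has the same order as `R`, and lies in the cyclic group `T`
      have hsub : ∀ y ∈ Subgroup.normalizer (T : Set G), R.map (MulAut.conj y).toMonoidHom = R := by
        intro y hy
        let R1 : Subgroup T := R.subgroupOf T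
        let R2 : Subgroup T := (R.map (MulAut.conj y).toMonoidHom).subgroupOf T
        have hle2 : R.map (MulAut.conj y).toMonoidHom ≤ T := by
          rintro _ ⟨r, hr, rfl⟩
          exact (Subgroup.mem_normalizer_iff.mp hy r).mp (hRT hr)
        have hc1 : Nat.card R1 = Nat.card R := Nat.card_congr (Subgroup.subgroupOfEquivOfLe hRT).toEquiv
        have hc2 : Nat.card R2 = Nat.card R := by
          rw [Nat.card_congr (Subgroup.subgroupOfEquivOfLe hle2).toEquiv]
          exact Nat.card_congr (Subgroup.equivMapOfInjective _ _ (MulAut.conj y).injective).symm.toEquiv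
        have h12 : R2 = R1 := by
          exact subgroup_eq_of_card_eq_cyclic _ _ (by rw [hc1, hc2])
        have := congrArg (fun A : Subgroup T => A.map T.subtype) h12
        simp only [R1, R2] at this
        rwa [Subgroup.map_subgroupOf_eq_of_le hRT, Subgroup.map_subgroupOf_eq_of_le hle2] at this
      rw [Subgroup.mem_normalizer_iff]
      intro z
      constructor
      · intro hz
        have : y * z * y⁻¹ ∈ R.map (MulAut.conj y).toMonoidHom := ⟨z, hz, by simp [MulAut.conj_apply]⟩
        rwa [hsub y hy] at this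
      · intro hz
        have hy' : y⁻¹ ∈ Subgroup.normalizer (T : Set G) := inv_mem hy
        have : y⁻¹ * (y * z * y⁻¹) * y⁻¹⁻¹ ∈ R.map (MulAut.conj y⁻¹).toMonoidHom := ⟨_, hz, by simp [MulAut.conj_apply]⟩
        rw [hsub _ hy'] at this
        have e : y⁻¹ * (y * z * y⁻¹) * y⁻¹⁻¹ = z := by group
        rwa [e] at this
  -- transport to `P`
  obtain ⟨g, hg⟩ := MulAction.exists_smul_eq G P₀ P
  have hPeq : (P : Subgroup G) = R.map (MulAut.conj g).toMonoidHom := by
    rw [← hg, Sylow.coe_subgroup_smul, hP₀]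
    rfl
  refine ⟨g, ?_, ?_⟩
  · rw [hPeq, centralizer_map_conj, hCR]
  · rw [hPeq, normalizer_map_conj, hNR]

theorem sylow_of_torus {ℓ : ℕ} [Fact ℓ.Prime] (T : Subgroup G) (hcyc : IsCyclic T)
    (hdvd : ℓ ∣ Nat.card T) (hidx : ¬ ℓ ∣ T.index)
    (hC : ∀ x ∈ T, x ≠ 1 → (∃ k : ℕ, orderOf x = ℓ ^ k) → Subgroup.centralizer ({x} : Set G) = T)
    (P : Sylow ℓ G) :
    Nat.card (Subgroup.centralizer ((P : Subgroup G) : Set G)) = Nat.card T ∧
    IsCyclic (Subgroup.centralizer ((P : Subgroup G) : Set G)) ∧
    Nat.card (Subgroup.normalizer ((P : Subgroup G) : Set G)) = Nat.card (Subgroup.normalizer (T : Set G)) := by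
  obtain ⟨g, h1, h2⟩ := sylow_of_torus' T hcyc hdvd hidx hC P
  rw [h1, h2]
  refine ⟨Nat.card_congr (Subgroup.equivMapOfInjective _ _ (MulAut.conj g).injective).symm.toEquiv,
    isCyclic_of_surjective _ (Subgroup.equivMapOfInjective _ _ (MulAut.conj g).injective).surjective,
    Nat.card_congr (Subgroup.equivMapOfInjective _ _ (MulAut.conj g).injective).symm.toEquiv⟩

end Cfsg.Agent.Lib.Known
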