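import Mathlib
import Cfsg.Agent.Lib.Known.SylowTorus
import Cfsg.Agent.Lib.Known.Discrete2

set_option autoImplicit false

/-! Sylow subgroups of `SL₂(F)` for odd primes away from the characteristic. -/

namespace Cfsg.Agent.Lib.Known

variable {F : Type*} [Field F] [Fintype F]

theorem eq_one_of_sq_of_odd_prime_pow {G : Type*} [Group G] {x : G} {ℓ k : ℕ} (hℓ : ℓ.Prime) (hodd : ℓ ≠ 2)
    (h : x * x = 1) (ho : orderOf x = ℓ ^ k) : x = 1 := by
  have h1 : orderOf x ∣ 2 := orderOf_dvd_of_pow_eq_one (by rw [pow_two]; exact h)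
  rw [ho] at h1
  rcases Nat.eq_zero_or_pos k with rfl | hk
  · rw [pow_zero] at ho
    exact orderOf_eq_one_iff.mp ho
  · exfalso
    have h2 : ℓ ∣ 2 := (dvd_pow_self ℓ hk.ne').trans h1
    exact hodd ((Nat.prime_dvd_prime_iff_eq hℓ Nat.prime_two).mp h2)

theorem sl2Diag_sq_eq_one {d : SL2 F} (hd : d ∈ sl2Diag F) (ha : (d : Matrix (Fin 2) (Fin 2) F) 0 0 ^ 2 = 1) :
    d * d = 1 := by
  have hu := sl2Diag_unit hd
  have h1 : (d : Matrix (Fin 2) (Fin 2) F) 1 1 = (d : Matrix (Fin 2) (Fin 2) F) 0 0 := by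
    have h3 : (d : Matrix (Fin 2) (Fin 2) F) 0 0 * ((d : Matrix (Fin 2) (Fin 2) F) 1 1 - (d : Matrix (Fin 2) (Fin 2) F) 0 0) = 0 := by
      linear_combination hu - ha
    rcases mul_eq_zero.mp h3 with h4 | h4
    · rw [h4] at ha
      simp at ha
    · exact sub_eq_zero.mp h4
  apply sl2_ext <;> simp [sl2_mul_apply, hd.1, hd.2, h1] <;> simpa [pow_two] using ha

/-- The Sylow `ℓ`-subgroups, `ℓ` odd dividing `q - 1`: structural form -/
theorem sylow_split_struct (hodd : Odd (Fintype.card F)) (ℓ : ℕ) [Fact ℓ.Prime] (hℓ : ℓ ≠ 2)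
    (hdvd : ℓ ∣ Fintype.card F - 1) (P : Sylow ℓ (SL2 F)) :
    ∃ g : SL2 F, Subgroup.centralizer ((P : Subgroup (SL2 F)) : Set (SL2 F)) = (sl2Diag F).map (MulAut.conj g).toMonoidHom ∧
      Subgroup.normalizer ((P : Subgroup (SL2 F)) : Set (SL2 F)) = (Subgroup.normalizer ((sl2Diag F : Subgroup (SL2 F)) : Set (SL2 F))).map (MulAut.conj g).toMonoidHom := by
  have hp : ℓ.Prime := Fact.out
  have hq1 : 1 ≤ Fintype.card F := Fintype.card_pos
  obtain ⟨m, hm⟩ : ∃ m, Fintype.card F = m + 1 := ⟨Fintype.card F - 1, by omega⟩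
  have hm1 : Fintype.card F - 1 = m := by omega
  have hm0 : m ≠ 0 := by
    have : 1 < Fintype.card F := Fintype.one_lt_card
    omega
  rw [hm1] at hdvd
  refine sylow_of_torus' (sl2Diag F) isCyclic_sl2Diag (by rw [card_sl2Diag, hm1]; exact hdvd) ?_ ?_ P
  · intro hi
    have h1 := Subgroup.card_mul_index (sl2Diag F)
    rw [card_sl2Diag, card_sl2, hm1, hm] at h1
    have h2 : m * (sl2Diag F).index = m * ((m + 1) * (m + 2)) := by
      rw [h1]
      have : (m + 1) ^ 2 - 1 = m * (m + 2) := by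
        apply Nat.sub_eq_of_eq_add
        ring
      rw [this]
      ring
    have h3 := Nat.eq_of_mul_eq_mul_left (Nat.pos_of_ne_zero hm0) h2
    rw [h3] at hi
    rcases (Nat.Prime.dvd_mul hp).mp hi with h4 | h4
    · have h5 : ℓ ∣ 1 := (Nat.dvd_add_right hdvd).mp h4
      exact hp.one_lt.ne' (Nat.dvd_one.mp h5)
    · have h5 : ℓ ∣ 2 := (Nat.dvd_add_right hdvd).mp h4
      exact hℓ ((Nat.prime_dvd_prime_iff_eq hp Nat.prime_two).mp h5)
  · rintro x hx hx1 ⟨k, hk⟩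
    apply centralizer_eq_sl2Diag hx
    intro ha
    exact hx1 (eq_one_of_sq_of_odd_prime_pow hp hℓ (sl2Diag_sq_eq_one hx ha) hk)

/-- The Sylow `ℓ`-subgroups, `ℓ` odd dividing `q + 1`: structural form -/
theorem sylow_nonsplit_struct (ℓ : ℕ) [Fact ℓ.Prime] (hℓ : ℓ ≠ 2)
    (hdvd : ℓ ∣ Fintype.card F + 1) {g₀ : SL2 F} (hg₀ : sl2NoEig g₀) (P : Sylow ℓ (SL2 F)) :
    ∃ g : SL2 F, Subgroup.centralizer ((P : Subgroup (SL2 F)) : Set (SL2 F)) = (Subgroup.centralizer ({g₀} : Set (SL2 F))).map (MulAut.conj g).toMonoidHom ∧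
      Subgroup.normalizer ((P : Subgroup (SL2 F)) : Set (SL2 F)) = (Subgroup.normalizer ((Subgroup.centralizer ({g₀} : Set (SL2 F)) : Subgroup (SL2 F)) : Set (SL2 F))).map (MulAut.conj g).toMonoidHom := by
  have hp : ℓ.Prime := Fact.out
  have hq1 : 1 ≤ Fintype.card F := Fintype.card_pos
  obtain ⟨m, hm⟩ : ∃ m, Fintype.card F = m + 1 := ⟨Fintype.card F - 1, by omega⟩
  refine sylow_of_torus' _ (isCyclic_centralizer_noEig hg₀) (by rw [card_centralizer_noEig hg₀]; exact hdvd) ?_ ?_ P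
  · intro hi
    have h1 := Subgroup.card_mul_index (Subgroup.centralizer ({g₀} : Set (SL2 F)))
    rw [card_centralizer_noEig hg₀, card_sl2, hm] at h1
    rw [hm] at hdvd
    have h2 : (m + 1 + 1) * (Subgroup.centralizer ({g₀} : Set (SL2 F))).index = (m + 1 + 1) * ((m + 1) * m) := by
      rw [h1]
      have : (m + 1) ^ 2 - 1 = m * (m + 2) := by
        apply Nat.sub_eq_of_eq_add
        ring
      rw [this]
      ring
    have h3 := Nat.eq_of_mul_eq_mul_left (by omega) h2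
    rw [h3] at hi
    rcases (Nat.Prime.dvd_mul hp).mp hi with h4 | h4
    · have h5 : ℓ ∣ 1 := (Nat.dvd_add_right h4).mp hdvd
      exact hp.one_lt.ne' (Nat.dvd_one.mp h5)
    · have h5 : ℓ ∣ 2 := by
        have : ℓ ∣ m + 2 := hdvd
        exact (Nat.dvd_add_right h4).mp this
      exact hℓ ((Nat.prime_dvd_prime_iff_eq hp Nat.prime_two).mp h5)
  · rintro x hx hx1 ⟨k, hk⟩
    apply centralizer_eq_of_mem hg₀ hx
    intro hs
    apply hx1
    have h3 : x * x = 1 := by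
      rcases sq_one_of_mem_centralizer hg₀ hx (sl2_scalar_sq hs) with h | h
      · rw [h]
        simp
      · rw [sl2_eq_M1 h]
        exact sl2M1_mul_self
    exact eq_one_of_sq_of_odd_prime_pow hp hℓ h3 hk

end Cfsg.Agent.Lib.Known
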