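import Mathlib
import Cfsg.Agent.Lib.Known.Dicyclic
import Cfsg.Agent.Lib.Known.SylowTorus

set_option autoImplicit false

/-! Sylow `2`-subgroups of groups with a cyclic torus of even order inverted by `w`. -/

namespace Cfsg.Agent.Lib.Known

variable {G : Type*} [Group G]

/-- The elements of `T` killed by `n`. -/
def torsionIn (T : Subgroup G) (hcomm : ∀ a ∈ T, ∀ b ∈ T, a * b = b * a) (n : ℕ) : Subgroup G where
  carrier := {x | x ∈ T ∧ x ^ n = 1}
  one_mem' := ⟨T.one_mem, one_pow n⟩
  mul_mem' := by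
    rintro a b ⟨ha, ha'⟩ ⟨hb, hb'⟩
    refine ⟨T.mul_mem ha hb, ?_⟩
    rw [(show Commute a b from hcomm a ha b hb).mul_pow, ha', hb', one_mul]
  inv_mem' := by
    rintro a ⟨ha, ha'⟩
    exact ⟨T.inv_mem ha, by rw [inv_pow, ha', inv_one]⟩

theorem mem_torsionIn {T : Subgroup G} {hcomm : ∀ a ∈ T, ∀ b ∈ T, a * b = b * a} {n : ℕ} {x : G} :
    x ∈ torsionIn T hcomm n ↔ x ∈ T ∧ x ^ n = 1 := Iff.rfl

theorem card_torsionIn [Finite G] (T : Subgroup G) (hcomm : ∀ a ∈ T, ∀ b ∈ T, a * b = b * a) (hcyc : IsCyclic T) (n : ℕ) :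
    Nat.card (torsionIn T hcomm n) = (Nat.card T).gcd n := by
  letI : CommGroup T := { (inferInstance : Group T) with
    mul_comm := fun a b => Subtype.ext (hcomm a a.2 b b.2) }
  haveI : IsCyclic T := hcyc
  rw [← IsCyclic.card_powMonoidHom_ker (G := T) n]
  apply Nat.card_congr
  refine ⟨fun x => ⟨⟨x.1, x.2.1⟩, ?_⟩, fun x => ⟨x.1.1, x.1.2, ?_⟩, ?_, ?_⟩
  · rw [MonoidHom.mem_ker]
    apply Subtype.ext
    simpa using x.2.2
  · have := x.2
    rw [MonoidHom.mem_ker] at this
    simpa using congrArg Subtype.val this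
  · intro x
    rfl
  · intro x
    rfl

/-- `A ∪ wA`. -/
def dihSub (A : Subgroup G) (w z : G) (hinv : ∀ a ∈ A, w * a * w⁻¹ = a⁻¹) (hz : z ∈ A) (hw : w * w = z) : Subgroup G where
  carrier := {x | x ∈ A ∨ w⁻¹ * x ∈ A}
  one_mem' := Or.inl A.one_mem
  mul_mem' := by
    have hinv' : ∀ a ∈ A, w⁻¹ * a * w = a⁻¹ := by
      intro a ha
      have h1 := hinv a⁻¹ (A.inv_mem ha)
      rw [inv_inv, mul_inv_eq_iff_eq_mul] at h1
      rw [mul_assoc, ← h1]
      simp
    rintro x y (hx | hx) (hy | hy)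
    · exact Or.inl (A.mul_mem hx hy)
    · right
      have e : w⁻¹ * (x * y) = (w⁻¹ * x * w) * (w⁻¹ * y) := by group
      rw [e, hinv' x hx]
      exact A.mul_mem (A.inv_mem hx) hy
    · right
      have e : w⁻¹ * (x * y) = (w⁻¹ * x) * y := by group
      rw [e]
      exact A.mul_mem hx hy
    · left
      have e : x * y = (w * w) * (w⁻¹ * (w⁻¹ * x) * w) * (w⁻¹ * y) := by group
      rw [e, hinv' _ hx, hw]
      exact A.mul_mem (A.mul_mem hz (A.inv_mem hx)) hy
  inv_mem' := by
    rintro x (hx | hx)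
    · exact Or.inl (A.inv_mem hx)
    · right
      have hinv' : w⁻¹ * (w⁻¹ * x)⁻¹ * w = w⁻¹ * x := by
        have h1 := hinv _ (A.inv_mem (A.inv_mem hx))
        rw [inv_inv, mul_inv_eq_iff_eq_mul] at h1
        rw [mul_assoc, ← h1]
        simp
      have e : w⁻¹ * x⁻¹ = (w⁻¹ * (w⁻¹ * x)⁻¹ * w) * (w * w)⁻¹ := by group
      rw [e, hinv', hw]
      exact A.mul_mem hx (A.inv_mem hz)

theorem mem_dihSub {A : Subgroup G} {w z : G} {hinv : ∀ a ∈ A, w * a * w⁻¹ = a⁻¹} {hz : z ∈ A} {hw : w * w = z} {x : G} :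
    x ∈ dihSub A w z hinv hz hw ↔ x ∈ A ∨ w⁻¹ * x ∈ A := Iff.rfl

theorem card_dihSub [Finite G] (A : Subgroup G) (w z : G) (hinv : ∀ a ∈ A, w * a * w⁻¹ = a⁻¹) (hz : z ∈ A) (hw : w * w = z)
    (hwA : w ∉ A) : Nat.card (dihSub A w z hinv hz hw) = 2 * Nat.card A := by
  classical
  have h : Nat.card (dihSub A w z hinv hz hw) = Nat.card (A × Bool) := by
    apply Nat.card_congr
    symm
    refine Equiv.ofBijective (fun p : A × Bool => if p.2 then (⟨w * p.1, Or.inr (by simp)⟩ : dihSub A w z hinv hz hw) else ⟨p.1, Or.inl p.1.2⟩) ⟨?_, ?_⟩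
    · rintro ⟨a, _ | _⟩ ⟨b, _ | _⟩ h
      · simp only [Bool.false_eq_true, if_false] at h
        have := congrArg Subtype.val h
        exact Prod.ext (Subtype.ext this) rfl
      · simp only [Bool.false_eq_true, if_false, if_true] at h
        have := congrArg Subtype.val h
        exfalso
        apply hwA
        have h3 : w = a * (b : G)⁻¹ := by
          simp only at this
          rw [this]
          group
        rw [h3]
        exact A.mul_mem a.2 (A.inv_mem b.2)
      · simp only [Bool.false_eq_true, if_false, if_true] at h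
        have := congrArg Subtype.val h
        exfalso
        apply hwA
        have h3 : w = b * (a : G)⁻¹ := by
          simp only at this
          rw [← this]
          group
        rw [h3]
        exact A.mul_mem b.2 (A.inv_mem a.2)
      · simp only [if_true] at h
        have := congrArg Subtype.val h
        simp only at this
        exact Prod.ext (Subtype.ext (mul_left_cancel this)) rfl
    · rintro ⟨x, hx⟩
      by_cases h : x ∈ A
      · exact ⟨(⟨x, h⟩, false), by simp⟩
      · refine ⟨(⟨w⁻¹ * x, hx.resolve_left h⟩, true), ?_⟩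
        apply Subtype.ext
        simp
  rw [h, Nat.card_prod, Nat.card_eq_fintype_card (α := Bool), Fintype.card_bool, mul_comm]

/-- A conjugating element mapping a finite subgroup into itself normalizes it. -/
theorem mem_normalizer_of_conj_mem [Finite G] (H : Subgroup G) (g : G) (h : ∀ x ∈ H, g * x * g⁻¹ ∈ H) :
    g ∈ Subgroup.normalizer (H : Set G) := by
  have hle : H.map (MulAut.conj g).toMonoidHom ≤ H := by
    rintro _ ⟨x, hx, rfl⟩
    exact h x hx
  have hcard : Nat.card H ≤ Nat.card (H.map (MulAut.conj g).toMonoidHom) :=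
    (Nat.card_congr (Subgroup.equivMapOfInjective _ _ (MulAut.conj g).injective).toEquiv).le
  have heq := Subgroup.eq_of_le_of_card_ge hle hcard
  rw [Subgroup.mem_normalizer_iff]
  intro x
  refine ⟨h x, fun hx => ?_⟩
  have hx' : g * x * g⁻¹ ∈ H.map (MulAut.conj g).toMonoidHom := by
    rw [heq]
    exact hx
  obtain ⟨x', hx', e⟩ := hx'
  have e' : g * x' * g⁻¹ = g * x * g⁻¹ := e
  have : x' = x := mul_left_cancel (mul_right_cancel e')
  rwa [← this]

variable [Finite G]

/-- The structure of a Sylow `2`-subgroup built from a torus. -/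
structure TwoData (T : Subgroup G) (w z : G) (A S₀ : Subgroup G) (a m : ℕ) (y : G) : Prop where
  hAT : A ≤ T
  hS_mem : ∀ x, x ∈ S₀ ↔ x ∈ A ∨ w⁻¹ * x ∈ A
  hn : Nat.card T = 2 ^ a * m
  hm : Odd m
  ha : 2 ≤ a
  hAcard : Nat.card A = 2 ^ a
  hScard : Nat.card S₀ = 2 * 2 ^ a
  hSidx : ¬ 2 ∣ S₀.index
  hyA : y ∈ A
  hyord : orderOf y = 2 ^ a
  hAy : ∀ b ∈ A, ∃ k : ℕ, b = y ^ k
  hC : Subgroup.centralizer (S₀ : Set G) = Subgroup.center G
  hN₀ : 8 ∣ Nat.card T → Subgroup.normalizer (S₀ : Set G) = S₀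
  hN₁ : ¬ 8 ∣ Nat.card T → (∀ y ∈ T, y * y = z → ∃ ω : G, ω * y * ω⁻¹ = w ∧ ω * w * ω⁻¹ = y * w) →
      Nat.card (Subgroup.normalizer (S₀ : Set G)) = 3 * Nat.card S₀
  hyy : ¬ 8 ∣ Nat.card T → y * y = z
  hωN : ¬ 8 ∣ Nat.card T → ∀ ω : G, ω * y * ω⁻¹ = w → ω * w * ω⁻¹ = y * w → ω ∈ Subgroup.normalizer (S₀ : Set G)

/-- The main result on Sylow `2`-subgroups. -/
theorem exists_twoData {T : Subgroup G} {w z : G} (D : TorusData T w z) (hzc : ∀ g : G, g * z = z * g)
    (hcyc : IsCyclic T) (h4 : 4 ∣ Nat.card T) (r : ℕ) (hr : Odd r) (hG : Nat.card G = 2 * Nat.card T * r)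
    (hreg : ∀ x ∈ T, x * x ≠ 1 → Subgroup.centralizer ({x} : Set G) = T) :
    ∃ (A S₀ : Subgroup G) (a m : ℕ) (y : G), TwoData T w z A S₀ a m y := by
  classical
  haveI := hcyc
  have hcomm := D.comm
  obtain ⟨a, m, hm, hn⟩ := Nat.exists_eq_two_pow_mul_odd (n := Nat.card T) Nat.card_pos.ne'
  have hm4 : Nat.Coprime 4 m := by
    have : Nat.Coprime 2 m := Nat.coprime_two_left.mpr hm
    exact Nat.Coprime.pow_left 2 this
  have ha : 2 ≤ a := by
    rw [hn] at h4
    have h5 : (2 : ℕ) ^ 2 ∣ 2 ^ a := hm4.dvd_of_dvd_mul_right h4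
    exact (Nat.pow_dvd_pow_iff_le_right (by norm_num)).mp h5
  let A : Subgroup G := torsionIn T hcomm (2 ^ a)
  have hAT : A ≤ T := fun x hx => hx.1
  have hAcard : Nat.card A = 2 ^ a := by
    change Nat.card (torsionIn T hcomm (2 ^ a)) = _
    rw [card_torsionIn T hcomm hcyc, hn]
    exact Nat.gcd_eq_right (dvd_mul_right _ _)
  have hAsq : ∀ x ∈ T, x * x ∈ A → x ∈ A := by
    intro x hx hxx
    refine ⟨hx, ?_⟩
    have h1 : x ^ (2 * 2 ^ a) = 1 := by
      have := hxx.2
      rw [← pow_two, ← pow_mul] at this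
      exact this
    have h2 : x ^ (Nat.card T) = 1 := by
      have h := pow_card_eq_one' (x := (⟨x, hx⟩ : T))
      have h' := congrArg Subtype.val h
      rwa [Subgroup.coe_pow, Subgroup.coe_one] at h'
    have h3 := pow_gcd_eq_one.mpr ⟨h1, h2⟩
    have h4 : (2 * 2 ^ a).gcd (Nat.card T) = 2 ^ a := by
      rw [hn, mul_comm 2, Nat.gcd_mul_left]
      have : Nat.gcd 2 m = 1 := Nat.coprime_two_left.mpr hm
      rw [this, mul_one]
    rwa [h4] at h3
  haveI hAcyc : IsCyclic A := Subgroup.isCyclic_of_le hAT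
  obtain ⟨y', hy'⟩ := IsCyclic.exists_ofOrder_eq_natCard (α := A)
  set y : G := (y' : G) with hydef
  have hyA : y ∈ A := y'.2
  have hyT := hAT hyA
  have hyord : orderOf y = 2 ^ a := by
    rw [hydef, Subgroup.orderOf_coe, hy', hAcard]
  have hAy : ∀ b ∈ A, ∃ k : ℕ, b = y ^ k := by
    intro b hb
    have hz : (⟨b, hb⟩ : A) ∈ Subgroup.zpowers y' := by
      have htop : Subgroup.zpowers y' = ⊤ := by
        apply Subgroup.eq_top_of_card_eq
        rw [Nat.card_zpowers, hy']
      rw [htop]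
      trivial
    obtain ⟨k, hk⟩ := (mem_powers_iff_mem_zpowers).mpr hz
    refine ⟨k, ?_⟩
    have := congrArg Subtype.val hk
    simpa using this.symm
  have h4a : 4 ∣ 2 ^ a := by
    have : (2 : ℕ) ^ 2 ∣ 2 ^ a := pow_dvd_pow 2 ha
    simpa using this
  have hy2 : y * y ≠ 1 := by
    intro h
    have : orderOf y ∣ 2 := orderOf_dvd_of_pow_eq_one (by rw [pow_two]; exact h)
    rw [hyord] at this
    have := h4a.trans this
    omega
  have hCy := hreg y hyT hy2
  have hzA : z ∈ A := by
    refine ⟨D.z_mem, ?_⟩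
    obtain ⟨b, rfl⟩ : ∃ b, a = b + 1 := ⟨a - 1, by omega⟩
    rw [pow_succ, mul_comm, pow_mul, pow_two, D.z_sq, one_pow]
  have hinvA : ∀ b ∈ A, w * b * w⁻¹ = b⁻¹ := fun b hb => D.inv b hb.1
  have hwA : w ∉ A := fun h => D.w_notMem h.1
  let S₀ : Subgroup G := dihSub A w z hinvA hzA D.w_sq
  have hAS : A ≤ S₀ := fun x hx => Or.inl hx
  have hwS : w ∈ S₀ := Or.inr (by simp [A.one_mem])
  have hScard : Nat.card S₀ = 2 * 2 ^ a := by
    change Nat.card (dihSub A w z hinvA hzA D.w_sq) = _
    rw [card_dihSub A w z hinvA hzA D.w_sq hwA, hAcard]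
  have hSidx : S₀.index = m * r := by
    have h1 := Subgroup.card_mul_index S₀
    rw [hScard, hG, hn] at h1
    have h2 : (2 * 2 ^ a) * S₀.index = (2 * 2 ^ a) * (m * r) := by rw [h1]; ring
    exact Nat.eq_of_mul_eq_mul_left (by positivity) h2
  have hSp : IsPGroup 2 S₀ := IsPGroup.of_card (n := a + 1) (by rw [hScard]; ring)
  have hSdvd : ¬ 2 ∣ S₀.index := by
    rw [hSidx]
    exact (hm.mul hr).not_two_dvd_nat
  haveI : Fact (Nat.Prime 2) := ⟨Nat.prime_two⟩
  let P₀ : Sylow 2 G := hSp.toSylow hSdvd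
  have hP₀ : (P₀ : Subgroup G) = S₀ := rfl
  -- inverting from the other side
  have hinv' : ∀ b ∈ T, w⁻¹ * b * w = b⁻¹ := by
    intro b hb
    have h1 := D.inv b⁻¹ (T.inv_mem hb)
    rw [inv_inv, mul_inv_eq_iff_eq_mul] at h1
    rw [mul_assoc, ← h1]
    simp
  -- the centralizer
  have hC₀ : Subgroup.centralizer (S₀ : Set G) = Subgroup.center G := by
    apply le_antisymm
    · intro c hc
      have h1 : c ∈ Subgroup.centralizer ({y} : Set G) := by
        rw [Subgroup.mem_centralizer_singleton_iff]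
        exact (hc y (hAS hyA)).symm
      rw [hCy] at h1
      have h2 := hc w hwS
      have h3 := D.inv c h1
      rw [h2, mul_inv_cancel_right] at h3
      have h4 : c * c = 1 := by
        nth_rewrite 1 [h3]
        simp
      rw [Subgroup.mem_center_iff]
      rcases D.sq_one c h1 h4 with h5 | h5
      · simp [h5]
      · rw [h5]
        exact hzc
    · intro c hc x _
      exact (Subgroup.mem_center_iff.mp hc x)
  -- core
  have hcore : ∀ x ∈ T, x ∈ Subgroup.normalizer (S₀ : Set G) → x ∈ A := by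
    intro x hxT hxN
    have h1 : x * w * x⁻¹ ∈ S₀ := (Subgroup.mem_normalizer_iff.mp hxN w).mp hwS
    have h2 : x * w * x⁻¹ = x * x * w := by
      have h3 := D.inv x⁻¹ (T.inv_mem hxT)
      rw [inv_inv, mul_inv_eq_iff_eq_mul] at h3
      calc x * w * x⁻¹ = x * (w * x⁻¹) := by group
        _ = x * (x * w) := by rw [h3]
        _ = x * x * w := by group
    rw [h2] at h1
    apply hAsq x hxT
    rcases h1 with h1 | h1
    · exfalso
      apply D.w_notMem
      have h3 : w = (x * x)⁻¹ * (x * x * w) := by group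
      rw [h3]
      exact T.mul_mem (T.inv_mem (T.mul_mem hxT hxT)) (hAT h1)
    · have h3 : w⁻¹ * (x * x * w) = (x * x)⁻¹ := by
        have := hinv' (x * x) (T.mul_mem hxT hxT)
        rw [← this]
        group
      rw [h3] at h1
      simpa using A.inv_mem h1
  have hle : S₀ ≤ Subgroup.normalizer (S₀ : Set G) := Subgroup.le_normalizer
  -- elements outside `A`
  have houtside : ∀ t ∈ S₀, t ∉ A → t * t = z := by
    intro t ht htA
    have h1 := ht.resolve_left htA
    have h2 := hinvA _ h1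
    have e : t = w * (w⁻¹ * t) := by group
    generalize w⁻¹ * t = b at h1 h2 e
    subst e
    have h3 : w * b * (w * b) = (w * b * w⁻¹) * (w * w) * b := by group
    rw [h3, h2, D.w_sq, D.comm b⁻¹ (T.inv_mem (hAT h1)) z D.z_mem, mul_assoc]
    simp
  -- the normalizer, large case
  have hN₀ : 8 ∣ Nat.card T → Subgroup.normalizer (S₀ : Set G) = S₀ := by
    intro h8
    have ha3 : 3 ≤ a := by
      rw [hn] at h8
      have hm8 : Nat.Coprime 8 m := by
        have : Nat.Coprime 2 m := Nat.coprime_two_left.mpr hm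
        exact Nat.Coprime.pow_left 3 this
      have h5 : (2 : ℕ) ^ 3 ∣ 2 ^ a := hm8.dvd_of_dvd_mul_right h8
      exact (Nat.pow_dvd_pow_iff_le_right (by norm_num)).mp h5
    apply le_antisymm _ hle
    intro x hx
    have ht : x * y * x⁻¹ ∈ S₀ := (Subgroup.mem_normalizer_iff.mp hx y).mp (hAS hyA)
    have htord : orderOf (x * y * x⁻¹) = 2 ^ a := by
      have := orderOf_injective (MulAut.conj x).toMonoidHom (MulAut.conj x).injective y
      rw [← hyord, ← this]
      rfl
    have htA : x * y * x⁻¹ ∈ A := by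
      by_contra hcon
      have h1 := houtside _ ht hcon
      have h2 : (x * y * x⁻¹) ^ 4 = 1 := by
        have e : (x * y * x⁻¹) ^ 4 = ((x * y * x⁻¹) * (x * y * x⁻¹)) * ((x * y * x⁻¹) * (x * y * x⁻¹)) := by
          simp only [pow_succ, pow_zero, one_mul, mul_assoc]
        rw [e, h1]
        exact D.z_sq
      have h3 := orderOf_dvd_of_pow_eq_one h2
      rw [htord] at h3
      have h4 : (2 : ℕ) ^ 3 ∣ 2 ^ a := pow_dvd_pow 2 ha3
      have := h4.trans h3
      norm_num at this
    have ht2 : (x * y * x⁻¹) * (x * y * x⁻¹) ≠ 1 := by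
      intro h
      apply hy2
      have e : (x * y * x⁻¹) * (x * y * x⁻¹) = x * (y * y) * x⁻¹ := by group
      rw [e] at h
      have : y * y = x⁻¹ * (x * (y * y) * x⁻¹) * x := by group
      rw [this, h]
      simp
    have hCt := hreg _ (hAT htA) ht2
    have hxT : x ∈ Subgroup.normalizer (T : Set G) := by
      rw [Subgroup.mem_normalizer_iff]
      intro b
      have h1 : b ∈ T ↔ b * y = y * b := by
        conv_lhs => rw [← hCy]
        rw [Subgroup.mem_centralizer_singleton_iff]
      have h2 : x * b * x⁻¹ ∈ T ↔ (x * b * x⁻¹) * (x * y * x⁻¹) = (x * y * x⁻¹) * (x * b * x⁻¹) := by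
        conv_lhs => rw [← hCt]
        rw [Subgroup.mem_centralizer_singleton_iff]
      rw [h1, h2]
      have e1 : (x * b * x⁻¹) * (x * y * x⁻¹) = x * (b * y) * x⁻¹ := by group
      have e2 : (x * y * x⁻¹) * (x * b * x⁻¹) = x * (y * b) * x⁻¹ := by group
      rw [e1, e2]
      constructor
      · intro h
        rw [h]
      · intro h
        exact mul_left_cancel (mul_right_cancel h)
    rcases (D.mem_normalizer_iff x).mp hxT with h1 | h1
    · exact hAS (hcore x h1 hx)
    · have h2 : w⁻¹ * x ∈ Subgroup.normalizer (S₀ : Set G) :=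
        Subgroup.mul_mem _ (Subgroup.inv_mem _ (hle hwS)) hx
      exact Or.inr (hcore _ h1 h2)
  have hyy₀ : ¬ 8 ∣ Nat.card T → y * y = z := by
    intro h8
    have ha2 : a = 2 := by
      by_contra hne
      apply h8
      rw [hn]
      have : (2 : ℕ) ^ 3 ∣ 2 ^ a := pow_dvd_pow 2 (by omega)
      exact Dvd.dvd.trans (by simpa using this) (dvd_mul_right _ _)
    have hyord' : orderOf y = 4 := by
      rw [hyord, ha2]
      norm_num
    have h1 : (y * y) * (y * y) = 1 := by
      rw [← pow_orderOf_eq_one y, hyord']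
      simp only [pow_succ, pow_zero, one_mul, mul_assoc]
    exact (D.sq_one _ (T.mul_mem hyT hyT) h1).resolve_left hy2
  have hωN₀ : ¬ 8 ∣ Nat.card T → ∀ ω : G, ω * y * ω⁻¹ = w → ω * w * ω⁻¹ = y * w → ω ∈ Subgroup.normalizer (S₀ : Set G) := by
    intro h8 ω hω1 hω2
    have hωconj : ∀ k : ℕ, ω * y ^ k * ω⁻¹ = w ^ k := by
      intro k
      rw [← hω1, conj_pow]
    have hwk : ∀ k : ℕ, w ^ k ∈ S₀ := fun k => S₀.pow_mem hwS k
    apply mem_normalizer_of_conj_mem
    rintro x (hx | hx)
    · obtain ⟨k, rfl⟩ := hAy x hx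
      rw [hωconj]
      exact hwk k
    · obtain ⟨k, hk⟩ := hAy _ hx
      have e : x = w * y ^ k := by rw [← hk]; group
      have e2 : ω * x * ω⁻¹ = (ω * w * ω⁻¹) * (ω * y ^ k * ω⁻¹) := by rw [e]; group
      rw [e2, hω2, hωconj]
      exact S₀.mul_mem (S₀.mul_mem (hAS hyA) hwS) (hwk k)
  -- the normalizer, small case
  have hN₁ : ¬ 8 ∣ Nat.card T → (∀ y ∈ T, y * y = z → ∃ ω : G, ω * y * ω⁻¹ = w ∧ ω * w * ω⁻¹ = y * w) →
      Nat.card (Subgroup.normalizer (S₀ : Set G)) = 3 * Nat.card S₀ := by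
    intro h8 hω
    have ha2 : a = 2 := by
      by_contra hne
      apply h8
      rw [hn]
      have : (2 : ℕ) ^ 3 ∣ 2 ^ a := pow_dvd_pow 2 (by omega)
      exact Dvd.dvd.trans (by simpa using this) (dvd_mul_right _ _)
    subst ha2
    norm_num at hyord hAcard hScard
    have hyy : y * y = z := hyy₀ h8
    obtain ⟨ω, hω1, hω2⟩ := hω y hyT hyy
    have hωN : ω ∈ Subgroup.normalizer (S₀ : Set G) := hωN₀ h8 ω hω1 hω2
    have hωS : ω ∉ S₀ := by
      rintro (h | h)
      · apply D.w_notMem
        rw [← hω1, D.comm ω (hAT h) y hyT]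
        simp [hyT]
      · apply D.w_notMem
        have e : ω = w * (w⁻¹ * ω) := by group
        generalize w⁻¹ * ω = b at h e
        have e2 : ω * y * ω⁻¹ = w * (b * y * b⁻¹) * w⁻¹ := by rw [e]; group
        rw [D.comm b (hAT h) y hyT, mul_inv_cancel_right, D.inv y hyT] at e2
        rw [← hω1, e2]
        exact T.inv_mem hyT
    set N := Subgroup.normalizer (S₀ : Set G) with hN
    -- upper bound
    have hup : Nat.card N ≤ 24 := by
      haveI := Fintype.ofFinite G
      let f : G → G := fun x => x * y * x⁻¹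
      let sN : Finset G := Finset.univ.filter (· ∈ N)
      let sS : Finset G := Finset.univ.filter (· ∈ S₀)
      let sT : Finset G := sS.filter (fun t => t * t ≠ 1)
      have hcN : Nat.card N = sN.card := by
        rw [Nat.card_eq_fintype_card, Fintype.card_subtype]
      have hcS : sS.card = 8 := by
        rw [← hScard, Nat.card_eq_fintype_card, Fintype.card_subtype]
      have hcT : sT.card ≤ 6 := by
        have h1 := Finset.card_filter_add_card_filter_not (s := sS) (fun t => t * t = 1)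
        have h2 : ({1, z} : Finset G) ⊆ sS.filter (fun t => t * t = 1) := by
          intro t ht
          simp only [Finset.mem_insert, Finset.mem_singleton] at ht
          rcases ht with rfl | rfl
          · simp [sS, S₀.one_mem]
          · simp [sS, hAS hzA, D.z_sq]
        have h3 : ({1, z} : Finset G).card = 2 := Finset.card_pair D.z_ne.symm
        have h4 := Finset.card_le_card h2
        rw [hcS] at h1
        change _ + sT.card = 8 at h1
        omega
      have himg : sN.image f ⊆ sT := by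
        intro t ht
        obtain ⟨x, hx, rfl⟩ := Finset.mem_image.mp ht
        simp only [sN, Finset.mem_filter, Finset.mem_univ, true_and] at hx
        simp only [sT, sS, Finset.mem_filter, Finset.mem_univ, true_and]
        refine ⟨(Subgroup.mem_normalizer_iff.mp hx y).mp (hAS hyA), ?_⟩
        intro h
        apply hy2
        have e : (x * y * x⁻¹) * (x * y * x⁻¹) = x * (y * y) * x⁻¹ := by group
        have h' : f x * f x = 1 := h
        change (x * y * x⁻¹) * (x * y * x⁻¹) = 1 at h'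
        rw [e] at h'
        have : y * y = x⁻¹ * (x * (y * y) * x⁻¹) * x := by group
        rw [this, h']
        simp
      have hfib : ∀ t ∈ sN.image f, (sN.filter (fun x => f x = t)).card ≤ 4 := by
        intro t ht
        obtain ⟨x₀, hx₀, rfl⟩ := Finset.mem_image.mp ht
        simp only [sN, Finset.mem_filter, Finset.mem_univ, true_and] at hx₀
        have h1 : (sN.filter (fun x => f x = f x₀)).card ≤ (Finset.univ.filter (· ∈ A)).card := by
          apply Finset.card_le_card_of_injOn (fun x => x₀⁻¹ * x)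
          · intro x hx
            simp only [sN, Finset.coe_filter, Finset.mem_filter, Finset.mem_univ, true_and, Set.mem_setOf_eq] at hx
            simp only [Finset.coe_filter, Finset.mem_univ, true_and, Set.mem_setOf_eq]
            apply hcore
            · rw [← hCy, Subgroup.mem_centralizer_singleton_iff]
              have e : x * y * x⁻¹ = x₀ * y * x₀⁻¹ := hx.2
              have e3 : x₀⁻¹ * x * y = x₀⁻¹ * (x * y * x⁻¹) * x := by group
              rw [e3, e]
              group
            · exact Subgroup.mul_mem _ (Subgroup.inv_mem _ hx₀) hx.1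
          · intro a _ b _ h
            exact mul_left_cancel h
        have h2 : (Finset.univ.filter (· ∈ A)).card = 4 := by
          rw [← hAcard, Nat.card_eq_fintype_card, Fintype.card_subtype]
        omega
      have h1 := Finset.card_le_mul_card_image (f := f) sN 4 hfib
      have h2 := Finset.card_le_card himg
      rw [hcN]
      omega
    -- lower bound
    have hdvd : 8 ∣ Nat.card N := by
      have := Subgroup.card_dvd_of_le hle
      rwa [hScard] at this
    obtain ⟨M, hM⟩ := hdvd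
    have hMdvd : 8 * M ∣ 8 * (m * r) := by
      have h1 := Subgroup.card_subgroup_dvd_card N
      rw [hM, hG, hn] at h1
      have e : 2 * (2 ^ 2 * m) * r = 8 * (m * r) := by ring
      rwa [e] at h1
    have hMd : M ∣ m * r := Nat.dvd_of_mul_dvd_mul_left (by norm_num) hMdvd
    have hMo : Odd M := Odd.of_dvd_nat (hm.mul hr) hMd
    have hM1 : M ≠ 1 := by
      rintro rfl
      have h1 : Nat.card N ≤ Nat.card S₀ := by
        rw [hM, hScard]
      have := Subgroup.eq_of_le_of_card_ge hle h1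
      apply hωS
      rw [this]
      exact hωN
    have hM3 : M = 3 := by
      obtain ⟨c, rfl⟩ := hMo
      omega
    rw [hM, hM3, hScard]
  exact ⟨A, S₀, a, m, y, hAT, fun _ => Iff.rfl, hn, hm, ha, hAcard, hScard, hSdvd, hyA, hyord, hAy, hC₀, hN₀, hN₁, hyy₀, hωN₀⟩

/-- Every Sylow `2`-subgroup is conjugate to the one built from a torus. -/
theorem exists_conj_of_twoData {T : Subgroup G} {w z : G} {A S₀ : Subgroup G} {a m : ℕ} {y : G}
    (d : TwoData T w z A S₀ a m y) (S : Sylow 2 G) : ∃ g : G, (S : Subgroup G) = S₀.map (MulAut.conj g).toMonoidHom := by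
  haveI : Fact (Nat.Prime 2) := ⟨Nat.prime_two⟩
  have hSp : IsPGroup 2 S₀ := IsPGroup.of_card (n := a + 1) (by rw [d.hScard]; ring)
  let P₀ : Sylow 2 G := hSp.toSylow d.hSidx
  have hP₀ : (P₀ : Subgroup G) = S₀ := rfl
  obtain ⟨g, hg⟩ := MulAction.exists_smul_eq G P₀ S
  refine ⟨g, ?_⟩
  rw [← hg, Sylow.coe_subgroup_smul, hP₀]
  rfl

/-- The main result on Sylow `2`-subgroups. -/
theorem sylow_two_of_torus {T : Subgroup G} {w z : G} (D : TorusData T w z) (hzc : ∀ g : G, g * z = z * g)
    (hcyc : IsCyclic T) (h4 : 4 ∣ Nat.card T) (r : ℕ) (hr : Odd r) (hG : Nat.card G = 2 * Nat.card T * r)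
    (hreg : ∀ x ∈ T, x * x ≠ 1 → Subgroup.centralizer ({x} : Set G) = T) (S : Sylow 2 G) :
    Subgroup.centralizer ((S : Subgroup G) : Set G) = Subgroup.center G ∧
    (8 ∣ Nat.card T → Subgroup.normalizer ((S : Subgroup G) : Set G) = (S : Subgroup G)) ∧
    (¬ 8 ∣ Nat.card T → (∀ y ∈ T, y * y = z → ∃ ω : G, ω * y * ω⁻¹ = w ∧ ω * w * ω⁻¹ = y * w) →
      Nat.card (Subgroup.normalizer ((S : Subgroup G) : Set G)) = 3 * Nat.card (S : Subgroup G)) := by
  obtain ⟨A, S₀, a, m, y, d⟩ := exists_twoData D hzc hcyc h4 r hr hG hreg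
  obtain ⟨g, hPeq⟩ := exists_conj_of_twoData d S
  rw [hPeq, centralizer_map_conj, normalizer_map_conj, d.hC]
  refine ⟨?_, ?_, ?_⟩
  · exact (Subgroup.characteristic_iff_map_eq.mp inferInstance) (MulAut.conj g)
  · intro h8
    rw [d.hN₀ h8]
  · intro h8 hω
    rw [← Nat.card_congr (Subgroup.equivMapOfInjective _ _ (MulAut.conj g).injective).toEquiv,
      ← Nat.card_congr (Subgroup.equivMapOfInjective _ _ (MulAut.conj g).injective).toEquiv, d.hN₁ h8 hω]

end Cfsg.Agent.Lib.Known
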