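import Mathlib
import Cfsg.Agent.Lib.Known.Tori
import Cfsg.Agent.Lib.Known.SylowSL2
import Cfsg.Agent.Lib.Known.SylowTwo

set_option autoImplicit false

/-! The element `(1 + i + j + k)/2` of `SL₂(F)`, and the Sylow `2`-subgroups of `SL₂(F)`. -/

namespace Cfsg.Agent.Lib.Known

variable {F : Type*} [Field F]

theorem sl2_entries_of_sq {y : SL2 F} (hy : y * y = sl2M1 F) :
    (y : Matrix (Fin 2) (Fin 2) F) 1 1 = - (y : Matrix (Fin 2) (Fin 2) F) 0 0 ∧
      (y : Matrix (Fin 2) (Fin 2) F) 0 0 ^ 2 + (y : Matrix (Fin 2) (Fin 2) F) 0 1 * (y : Matrix (Fin 2) (Fin 2) F) 1 0 + 1 = 0 := by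
  have h00 : ((y * y : SL2 F) : Matrix (Fin 2) (Fin 2) F) 0 0 = -1 := by rw [hy]; simp
  have h11 : ((y * y : SL2 F) : Matrix (Fin 2) (Fin 2) F) 1 1 = -1 := by rw [hy]; simp
  rw [sl2_mul_apply] at h00 h11
  have hd := sl2_det y
  set a := (y : Matrix (Fin 2) (Fin 2) F) 0 0
  set b := (y : Matrix (Fin 2) (Fin 2) F) 0 1
  set c := (y : Matrix (Fin 2) (Fin 2) F) 1 0
  set d := (y : Matrix (Fin 2) (Fin 2) F) 1 1
  have h1 : a * (a + d) = 0 := by linear_combination h00 + hd
  have h2 : d * (a + d) = 0 := by linear_combination h11 + hd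
  have h3 : a + d = 0 := by
    by_contra hne
    have ha := (mul_eq_zero.mp h1).resolve_right hne
    have hd' := (mul_eq_zero.mp h2).resolve_right hne
    apply hne
    rw [ha, hd', add_zero]
  refine ⟨by linear_combination h3, by linear_combination h00⟩

theorem sl2_quat (h2 : (2 : F) ≠ 0) {y w : SL2 F} (hy : y * y = sl2M1 F) (hw : w * w = sl2M1 F)
    (hinv : w * y * w⁻¹ = y⁻¹) : ∃ ω : SL2 F, ω * y * ω⁻¹ = w ∧ ω * w * ω⁻¹ = y * w := by
  obtain ⟨hyd, R1⟩ := sl2_entries_of_sq hy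
  obtain ⟨hwd, R2⟩ := sl2_entries_of_sq hw
  have hanti : ((w * y : SL2 F) : Matrix (Fin 2) (Fin 2) F) 0 0 = - ((y * w : SL2 F) : Matrix (Fin 2) (Fin 2) F) 0 0 := by
    have e : w * y = sl2M1 F * (y * w) := by
      have h3 : y⁻¹ = sl2M1 F * y := by
        apply inv_eq_of_mul_eq_one_right
        rw [← mul_assoc, ← sl2M1_comm, mul_assoc, hy, sl2M1_mul_self]
      rw [mul_inv_eq_iff_eq_mul] at hinv
      rw [hinv, h3, mul_assoc]
    rw [e, sl2_mul_coe, sl2M1_coe]
    simp
  rw [sl2_mul_apply, sl2_mul_apply] at hanti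
  set a := (y : Matrix (Fin 2) (Fin 2) F) 0 0 with ha
  set b := (y : Matrix (Fin 2) (Fin 2) F) 0 1 with hb
  set c := (y : Matrix (Fin 2) (Fin 2) F) 1 0 with hc
  set e := (w : Matrix (Fin 2) (Fin 2) F) 0 0 with he
  set f := (w : Matrix (Fin 2) (Fin 2) F) 0 1 with hf
  set g := (w : Matrix (Fin 2) (Fin 2) F) 1 0 with hg
  have R3 : 2 * a * e + b * g + c * f = 0 := by linear_combination hanti
  set h := (2 : F)⁻¹ with hh
  have h2h : 2 * h = 1 := mul_inv_cancel₀ h2
  let ω : SL2 F := sl2Mk (h * (1 + a + e + a * e + b * g)) (h * (b + f + a * f - b * e))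
    (h * (c + g - a * g + c * e)) (h * (1 - a - e + a * e + c * f)) (by
      have e1 : (1 + a + e + a * e + b * g) * (1 - a - e + a * e + c * f) - (b + f + a * f - b * e) * (c + g - a * g + c * e) - 4
          = (-1 + e * e + f * g) * (a ^ 2 + b * c + 1) + (-2) * (e ^ 2 + f * g + 1) + 0 * (2 * a * e + b * g + c * f) := by ring
      have e2 : (1 + a + e + a * e + b * g) * (1 - a - e + a * e + c * f) - (b + f + a * f - b * e) * (c + g - a * g + c * e) = 4 := by
        rw [R1, R2, R3] at e1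
        linear_combination e1
      have e3 : h * h * 4 = 1 := by linear_combination (2 * h + 1) * h2h
      linear_combination h * h * e2 + e3)
  refine ⟨ω, ?_, ?_⟩
  · rw [mul_inv_eq_iff_eq_mul]
    apply sl2_ext <;> simp only [sl2_mul_apply, ω, sl2Mk_00, sl2Mk_01, sl2Mk_10, sl2Mk_11, hyd, hwd] <;> simp only [← ha, ← hb, ← hc, ← he, ← hf, ← hg]
    · linear_combination h * ((1 - e) * R1 + (-1 + a) * R2 + (a - e) * R3)
    · linear_combination h * ((-f) * R1 + b * R2 + (b - f) * R3)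
    · linear_combination h * ((-g) * R1 + c * R2 + (c - g) * R3)
    · linear_combination h * ((1 + e) * R1 + (-1 - a) * R2 + (-a + e) * R3)
  · rw [mul_inv_eq_iff_eq_mul]
    apply sl2_ext <;> simp only [sl2_mul_apply, ω, sl2Mk_00, sl2Mk_01, sl2Mk_10, sl2Mk_11, hyd, hwd] <;> simp only [← ha, ← hb, ← hc, ← he, ← hf, ← hg]
    · linear_combination h * ((e + e * e + f * g) * R1 + (-a - a * e - b * g) * R3)
    · linear_combination h * (f * R1 + (-b - a * f + b * e) * R3)
    · linear_combination h * (g * R1 + (-c + a * g - c * e) * R3)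
    · linear_combination h * ((-e + e * e + f * g) * R1 + (a - a * e - c * f) * R3)

end Cfsg.Agent.Lib.Known
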