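import Mathlib
import Cfsg.Agent.Lib.Known.SylowTwo
import Cfsg.Agent.Lib.Known.IrrCount

set_option autoImplicit false

/-! The number of odd degree characters of the normalizer of a Sylow `2`-subgroup. -/

namespace Cfsg.Agent.Lib.Known

open Cfsg Cfsg.Agent.Lib.Char
open scoped commutatorElement

variable {G : Type*} [Group G] [Finite G]

/-- The count for the `2`-group: four characters of odd degree. -/
theorem two_count_large {T : Subgroup G} {w z : G} (D : TorusData T w z) {A S₀ : Subgroup G} {a m : ℕ} {y : G}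
    (d : TwoData T w z A S₀ a m y) :
    Nat.card {ψ : IrrCharacter S₀ // ¬ 2 ∣ charDegree (ψ : S₀ → ℂ)} = 4 := by
  classical
  haveI := Fintype.ofFinite S₀
  have hAS : A ≤ S₀ := fun x hx => (d.hS_mem x).mpr (Or.inl hx)
  have hwS : w ∈ S₀ := (d.hS_mem w).mpr (Or.inr (by simp [A.one_mem]))
  let A' : Subgroup S₀ := A.subgroupOf S₀
  have hmem : ∀ x : S₀, x ∈ A' ↔ (x : G) ∈ A := fun x => Subgroup.mem_subgroupOf
  have hcardA' : Nat.card A' = 2 ^ a := by
    rw [← d.hAcard]
    exact Nat.card_congr (Subgroup.subgroupOfEquivOfLe hAS).toEquiv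
  have hidx : A'.index = 2 := by
    have h1 := Subgroup.card_mul_index A'
    rw [hcardA', d.hScard] at h1
    have h2 : 2 ^ a * A'.index = 2 ^ a * 2 := by rw [h1]; ring
    exact Nat.eq_of_mul_eq_mul_left (by positivity) h2
  haveI hnormal : A'.Normal := Subgroup.normal_of_index_eq_two hidx
  have hcomm : ∀ p ∈ A', ∀ q ∈ A', p * q = q * p := by
    intro p hp q hq
    apply Subtype.ext
    exact D.comm p (d.hAT ((hmem p).mp hp)) q (d.hAT ((hmem q).mp hq))
  have hcls : 2 * Nat.card (ConjClasses S₀) = Nat.card A' + 6 := by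
    refine two_mul_card_conjClasses_of_inverting A' hcomm ⟨w, hwS⟩ ?_ ?_ ?_ ?_
    · rw [hmem]
      exact fun h => D.w_notMem (d.hAT h)
    · intro x hx c hc
      have hx' : (x : G) ∉ A := fun h => hx ((hmem x).mpr h)
      have hx2 : w⁻¹ * (x : G) ∈ A := ((d.hS_mem x).mp x.2).resolve_left hx'
      have hc' : (c : G) ∈ A := (hmem c).mp hc
      apply Subtype.ext
      have e : (x : G) = w * (w⁻¹ * x) := by group
      have h1 : (w⁻¹ * (x : G)) * c * (w⁻¹ * x)⁻¹ = c := by
        rw [D.comm _ (d.hAT hx2) _ (d.hAT hc')]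
        group
      change (x : G) * c * (x : G)⁻¹ = (c : G)⁻¹
      calc (x : G) * c * (x : G)⁻¹ = w * ((w⁻¹ * x) * c * (w⁻¹ * x)⁻¹) * w⁻¹ := by group
        _ = (c : G)⁻¹ := by rw [h1, D.inv c (d.hAT hc')]
    · intro x hx
      have hx' : (x : G) ∉ A := fun h => hx ((hmem x).mpr h)
      have hx2 : w⁻¹ * (x : G) ∈ A := ((d.hS_mem x).mp x.2).resolve_left hx'
      rw [hmem]
      exact hx2
    · have hzA : z ∈ A := by
        have h1 : y * y ∈ A := A.mul_mem d.hyA d.hyA
        -- `z` is the element of order two of the cyclic group generated by `y`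
        have hyT := d.hAT d.hyA
        obtain ⟨b, hb⟩ : ∃ b, a = b + 1 := ⟨a - 1, by have := d.ha; omega⟩
        have h2 : (y ^ (2 ^ b)) * (y ^ (2 ^ b)) = 1 := by
          rw [← pow_add, ← two_mul, ← pow_succ', ← hb, ← d.hyord, pow_orderOf_eq_one]
        have h3 : y ^ (2 ^ b) ≠ 1 := by
          intro h
          have := orderOf_dvd_of_pow_eq_one h
          rw [d.hyord, hb] at this
          have h5 := Nat.le_of_dvd (by positivity) this
          have h6 : 2 ^ b < 2 ^ (b + 1) := Nat.pow_lt_pow_succ (by norm_num)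
          omega
        have h4 := (D.sq_one _ (T.pow_mem hyT _) h2).resolve_left h3
        rw [← h4]
        exact A.pow_mem d.hyA _
      have hzS : z ∈ S₀ := hAS hzA
      have : Nat.card {c : S₀ // c ∈ A' ∧ c * c = 1} = Nat.card ({(1 : S₀), ⟨z, hzS⟩} : Finset S₀) := by
        apply Nat.card_congr
        refine Equiv.subtypeEquivRight ?_
        intro c
        simp only [Finset.mem_insert, Finset.mem_singleton]
        constructor
        · rintro ⟨h1, h2⟩
          have h3 : (c : G) * c = 1 := congrArg Subtype.val h2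
          rcases D.sq_one c (d.hAT ((hmem c).mp h1)) h3 with h4 | h4
          · left
            exact Subtype.ext h4
          · right
            exact Subtype.ext h4
        · rintro (rfl | rfl)
          · exact ⟨A'.one_mem, one_mul 1⟩
          · refine ⟨(hmem _).mpr hzA, ?_⟩
            apply Subtype.ext
            exact D.z_sq
      rw [this, Nat.card_eq_fintype_card, Fintype.card_coe]
      apply Finset.card_pair
      intro h
      exact D.z_ne (congrArg Subtype.val h).symm
  have hdeg : ∀ ψ : IrrCharacter S₀, irrDeg ψ = 1 ∨ irrDeg ψ = 2 := by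
    intro ψ
    have h1 := irrDeg_dvd_of_abelian_normal ψ A' hcomm
    rw [hidx] at h1
    exact (Nat.dvd_prime Nat.prime_two).mp h1
  obtain ⟨h1, h2⟩ := sum_card_deg (Q := S₀) 2 (fun ψ => by rcases hdeg ψ with h | h <;> omega)
  simp only [Finset.sum_range_succ, Finset.sum_range_zero] at h1 h2
  have h0 : Nat.card {ψ : IrrCharacter S₀ // irrDeg ψ = 0} = 0 := by
    haveI : IsEmpty {ψ : IrrCharacter S₀ // irrDeg ψ = 0} :=
      ⟨fun ψ => (irrDeg_pos ψ.1).ne' ψ.2⟩
    exact Nat.card_of_isEmpty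
  rw [h0] at h1 h2
  rw [hcardA'] at hcls
  rw [d.hScard] at h2
  have h3 : Nat.card {ψ : IrrCharacter S₀ // irrDeg ψ = 1} = 4 := by
    generalize Nat.card {ψ : IrrCharacter S₀ // irrDeg ψ = 1} = n1 at h1 h2
    generalize Nat.card {ψ : IrrCharacter S₀ // irrDeg ψ = 2} = n2 at h1 h2
    generalize 2 ^ a = X at hcls h2
    omega
  rw [← h3]
  apply Nat.card_congr
  apply Equiv.subtypeEquivRight
  intro ψ
  rw [charDegree_eq_irrDeg]
  rcases hdeg ψ with h | h <;> rw [h] <;> norm_num

/-- The count for the group of order `24`. -/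
theorem two_count_small {T : Subgroup G} {w z : G} {A S₀ : Subgroup G} {a m : ℕ} {y : G}
    (d : TwoData T w z A S₀ a m y) (h8 : ¬ 8 ∣ Nat.card T)
    (hω : ∀ y ∈ T, y * y = z → ∃ ω : G, ω * y * ω⁻¹ = w ∧ ω * w * ω⁻¹ = y * w) :
    Nat.card {ψ : IrrCharacter (Subgroup.normalizer (S₀ : Set G)) // ¬ 2 ∣ charDegree (ψ : Subgroup.normalizer (S₀ : Set G) → ℂ)} = 4 := by
  classical
  set N := Subgroup.normalizer (S₀ : Set G) with hN
  haveI := Fintype.ofFinite N
  have ha2 : a = 2 := by
    by_contra hne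
    apply h8
    rw [d.hn]
    have : (2 : ℕ) ^ 3 ∣ 2 ^ a := pow_dvd_pow 2 (by have := d.ha; omega)
    exact Dvd.dvd.trans (by simpa using this) (dvd_mul_right _ _)
  have hSc : Nat.card S₀ = 8 := by
    rw [d.hScard, ha2]
    norm_num
  have hNc : Nat.card N = 24 := by
    rw [hN, d.hN₁ h8 hω, hSc]
  have hle : S₀ ≤ N := Subgroup.le_normalizer
  have hAS : A ≤ S₀ := fun x hx => (d.hS_mem x).mpr (Or.inl hx)
  have hwS : w ∈ S₀ := (d.hS_mem w).mpr (Or.inr (by simp [A.one_mem]))
  have hyS := hAS d.hyA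
  obtain ⟨ω, hω1, hω2⟩ := hω y (d.hAT d.hyA) (d.hyy h8)
  have hωN : ω ∈ N := d.hωN h8 ω hω1 hω2
  -- the commutator subgroup
  let yN : N := ⟨y, hle hyS⟩
  let wN : N := ⟨w, hle hwS⟩
  let ωN : N := ⟨ω, hωN⟩
  have c1 : yN ∈ commutator N := by
    have : yN = ⁅ωN, wN⁆ := by
      apply Subtype.ext
      change y = ω * w * ω⁻¹ * w⁻¹
      rw [hω2]
      group
    rw [this]
    exact Subgroup.commutator_mem_commutator (Subgroup.mem_top _) (Subgroup.mem_top _)
  have c2 : wN ∈ commutator N := by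
    have : wN = ⁅ωN, yN⁆ * yN := by
      apply Subtype.ext
      change w = ω * y * ω⁻¹ * y⁻¹ * y
      rw [hω1]
      group
    rw [this]
    exact Subgroup.mul_mem _ (Subgroup.commutator_mem_commutator (Subgroup.mem_top _) (Subgroup.mem_top _)) c1
  let K : Subgroup N := S₀.subgroupOf N
  have hK : K ≤ commutator N := by
    rintro ⟨x, hx⟩ hxK
    have hxS : x ∈ S₀ := Subgroup.mem_subgroupOf.mp hxK
    have hpow : ∀ k : ℕ, (⟨y ^ k, Subgroup.pow_mem _ (hle hyS) k⟩ : N) ∈ commutator N := by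
      intro k
      have : (⟨y ^ k, Subgroup.pow_mem _ (hle hyS) k⟩ : N) = yN ^ k := rfl
      rw [this]
      exact Subgroup.pow_mem _ c1 k
    rcases (d.hS_mem x).mp hxS with h | h
    · obtain ⟨k, rfl⟩ := d.hAy x h
      exact hpow k
    · obtain ⟨k, hk⟩ := d.hAy _ h
      have e : (⟨x, hx⟩ : N) = wN * ⟨y ^ k, Subgroup.pow_mem _ (hle hyS) k⟩ := by
        apply Subtype.ext
        change x = w * y ^ k
        rw [← hk]
        group
      rw [e]
      exact Subgroup.mul_mem _ c2 (hpow k)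
  have hKc : Nat.card K = 8 := by
    rw [← hSc]
    exact Nat.card_congr (Subgroup.subgroupOfEquivOfLe hle).toEquiv
  have hKidx : K.index = 3 := by
    have h1 := Subgroup.card_mul_index K
    rw [hKc, hNc] at h1
    omega
  have hcomm : (commutator N).index ∣ 3 := by
    rw [← hKidx]
    exact Subgroup.index_dvd_of_le hK
  have hle3 : (commutator N).index ≤ 3 := Nat.le_of_dvd (by norm_num) hcomm
  have hpos : 0 < (commutator N).index := Nat.pos_of_ne_zero Subgroup.index_ne_zero_of_finite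
  have hlin : Nat.card {ψ : IrrCharacter N // irrDeg ψ = 1} = (commutator N).index := by
    rw [← card_linear_eq_index_commutator]
    apply Nat.card_congr
    apply Equiv.subtypeEquivRight
    intro ψ
    rw [irrDeg_eq_iff]
    simp
  -- the degree distribution
  have hdeg4 : ∀ ψ : IrrCharacter N, irrDeg ψ ≤ 4 := by
    intro ψ
    have h1 := irrDeg_sq_le ψ
    rw [hNc] at h1
    by_contra hcon
    push Not at hcon
    have : 5 ^ 2 ≤ irrDeg ψ ^ 2 := Nat.pow_le_pow_left hcon 2
    omega
  obtain ⟨_, h2⟩ := sum_card_deg (Q := N) 4 hdeg4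
  simp only [Finset.sum_range_succ, Finset.sum_range_zero] at h2
  rw [hNc] at h2
  have hodd : Nat.card {ψ : IrrCharacter N // ¬ 2 ∣ charDegree (ψ : N → ℂ)} =
      Nat.card {ψ : IrrCharacter N // irrDeg ψ = 1} + Nat.card {ψ : IrrCharacter N // irrDeg ψ = 3} := by
    have e1 : Nat.card {ψ : IrrCharacter N // ¬ 2 ∣ charDegree (ψ : N → ℂ)} = Nat.card {ψ : IrrCharacter N // irrDeg ψ = 1 ∨ irrDeg ψ = 3} := by
      apply Nat.card_congr
      apply Equiv.subtypeEquivRight
      intro ψ
      rw [charDegree_eq_irrDeg]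
      have h1 := hdeg4 ψ
      have h0 := irrDeg_pos ψ
      omega
    rw [e1, Nat.card_eq_fintype_card, Nat.card_eq_fintype_card, Nat.card_eq_fintype_card,
      Fintype.card_subtype_or_disjoint]
    rw [disjoint_iff_inf_le]
    rintro ψ ⟨h1, h3⟩
    change irrDeg ψ = 1 at h1
    change irrDeg ψ = 3 at h3
    omega
  rw [hodd]
  rw [hlin] at h2 ⊢
  generalize (commutator N).index = n1 at h2 hle3 hpos ⊢
  generalize Nat.card {ψ : IrrCharacter N // irrDeg ψ = 3} = n3 at h2 ⊢
  generalize Nat.card {ψ : IrrCharacter N // irrDeg ψ = 2} = n2 at h2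
  generalize Nat.card {ψ : IrrCharacter N // irrDeg ψ = 4} = n4 at h2
  omega

/-- The number of characters of odd degree of the normalizer of a Sylow `2`-subgroup is four. -/
theorem two_count {T : Subgroup G} {w z : G} (D : TorusData T w z) {A S₀ : Subgroup G} {a m : ℕ} {y : G}
    (d : TwoData T w z A S₀ a m y)
    (hω : ¬ 8 ∣ Nat.card T → ∀ y ∈ T, y * y = z → ∃ ω : G, ω * y * ω⁻¹ = w ∧ ω * w * ω⁻¹ = y * w)
    (S : Sylow 2 G) :
    Nat.card {ψ : IrrCharacter (Subgroup.normalizer ((S : Subgroup G) : Set G)) // ¬ 2 ∣ charDegree (ψ : Subgroup.normalizer ((S : Subgroup G) : Set G) → ℂ)} = 4 := by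
  obtain ⟨g, hg⟩ := exists_conj_of_twoData d S
  have hN : Subgroup.normalizer ((S : Subgroup G) : Set G) = (Subgroup.normalizer (S₀ : Set G)).map (MulAut.conj g).toMonoidHom := by
    rw [hg, normalizer_map_conj]
  let e : Subgroup.normalizer ((S : Subgroup G) : Set G) ≃* Subgroup.normalizer (S₀ : Set G) :=
    (MulEquiv.subgroupCongr hN).trans (Subgroup.equivMapOfInjective _ _ (MulAut.conj g).injective).symm
  rw [card_irr_filter_congr e (fun n => ¬ 2 ∣ n)]
  by_cases h8 : 8 ∣ Nat.card T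
  · rw [card_irr_filter_congr (MulEquiv.subgroupCongr (d.hN₀ h8)) (fun n => ¬ 2 ∣ n)]
    exact two_count_large D d
  · exact two_count_small d h8 (hω h8)

end Cfsg.Agent.Lib.Known
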