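import Mathlib
import Cfsg.Agent.Lib.Known.TwoCount
import Cfsg.Agent.Lib.Known.McKayG
import Cfsg.Agent.Lib.Known.Quat
import Cfsg.Agent.Lib.Known.SL2Irr
import Cfsg.Agent.S2437

set_option autoImplicit false

/-! Local counts for the McKay equality in `SL₂(F)`, `q` odd. -/

namespace Cfsg.Agent.Lib.Known

open Cfsg Cfsg.Agent.Lib.Char

section torus

variable {G : Type*} [Group G] [Finite G] {T : Subgroup G} {w z : G}

theorem TorusData.irrDeg_normalizer_dvd (D : TorusData T w z)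
    (ψ : IrrCharacter (Subgroup.normalizer (T : Set G))) : irrDeg ψ ∣ 2 := by
  classical
  have hle : T ≤ Subgroup.normalizer (T : Set G) := Subgroup.le_normalizer
  let T' : Subgroup (Subgroup.normalizer (T : Set G)) := T.subgroupOf _
  have e1 : Nat.card T' = Nat.card T := Nat.card_congr (Subgroup.subgroupOfEquivOfLe hle).toEquiv
  have hcardN : Nat.card (Subgroup.normalizer (T : Set G)) = 2 * Nat.card T := D.card_normalizer
  have hidx : T'.index = 2 := by
    have h1 := Subgroup.card_mul_index T'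
    rw [e1, hcardN] at h1
    have h2 : Nat.card T * T'.index = Nat.card T * 2 := by rw [h1]; ring
    exact Nat.eq_of_mul_eq_mul_left Nat.card_pos h2
  haveI : T'.Normal := Subgroup.normal_of_index_eq_two hidx
  have h3 := irrDeg_dvd_of_abelian_normal ψ T' (fun a ha b hb => Subtype.ext (D.comm a (Subgroup.mem_subgroupOf.mp ha) b (Subgroup.mem_subgroupOf.mp hb)))
  rwa [hidx] at h3

/-- For an odd prime, all irreducible degrees of the normalizer of a torus are prime to it. -/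
theorem TorusData.count_normalizer (D : TorusData T w z) {ℓ : ℕ} (hℓ : ℓ.Prime) (hodd : ℓ ≠ 2) :
    2 * Nat.card {ψ : IrrCharacter (Subgroup.normalizer (T : Set G)) //
      ¬ ℓ ∣ charDegree (ψ : Subgroup.normalizer (T : Set G) → ℂ)} = Nat.card T + 6 := by
  rw [card_irr_filter_of_forall (fun n => ¬ ℓ ∣ n), D.two_mul_card_conjClasses]
  intro ψ h
  rw [charDegree_eq_irrDeg] at h
  have := h.trans (D.irrDeg_normalizer_dvd ψ)
  exact hodd ((Nat.prime_dvd_prime_iff_eq hℓ Nat.prime_two).mp this)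

end torus

variable {F : Type*} [Field F] [Fintype F]

/-- The normalizers of conjugate subgroups. -/
noncomputable def normalizerConjEquiv {G : Type*} [Group G] {H K : Subgroup G} (g : G)
    (h : Subgroup.normalizer (H : Set G) = (Subgroup.normalizer (K : Set G)).map (MulAut.conj g).toMonoidHom) :
    Subgroup.normalizer (H : Set G) ≃* Subgroup.normalizer (K : Set G) :=
  (MulEquiv.subgroupCongr h).trans (Subgroup.equivMapOfInjective _ _ (MulAut.conj g).injective).symm

theorem torusData_split_of_dvd (hodd : Odd (Fintype.card F)) (ℓ : ℕ) [Fact ℓ.Prime] (hℓ : ℓ ≠ 2)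
    (hdvd : ℓ ∣ Fintype.card F - 1) : TorusData (sl2Diag F) sl2W (sl2M1 F) := by
  have h2 := two_ne_zero_of_odd hodd
  have hp : ℓ.Prime := Fact.out
  have hcard : ℓ ∣ Nat.card (sl2Diag F) := by rw [card_sl2Diag]; exact hdvd
  obtain ⟨x, hx⟩ := exists_prime_orderOf_dvd_card' ℓ hcard
  have hx' : orderOf (x : SL2 F) = ℓ ^ 1 := by
    rw [pow_one, ← hx]
    exact Subgroup.orderOf_coe x
  have hne : ((x : SL2 F) : Matrix (Fin 2) (Fin 2) F) 0 0 ^ 2 ≠ 1 := by
    intro ha
    have := eq_one_of_sq_of_odd_prime_pow hp hℓ (sl2Diag_sq_eq_one x.2 ha) hx'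
    rw [this, orderOf_one, pow_one] at hx'
    exact hp.one_lt.ne hx'
  exact torusData_sl2Diag h2 x.2 hne

/-- The local count for an odd prime dividing `q - 1`. -/
theorem count_split (hodd : Odd (Fintype.card F)) (ℓ : ℕ) [Fact ℓ.Prime] (hℓ : ℓ ≠ 2)
    (hdvd : ℓ ∣ Fintype.card F - 1) (P : Sylow ℓ (SL2 F)) :
    2 * Nat.card {ψ : IrrCharacter (Subgroup.normalizer ((P : Subgroup (SL2 F)) : Set (SL2 F))) //
      ¬ ℓ ∣ charDegree (ψ : Subgroup.normalizer ((P : Subgroup (SL2 F)) : Set (SL2 F)) → ℂ)} = Fintype.card F + 5 := by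
  have hq : 1 ≤ Fintype.card F := Fintype.card_pos
  obtain ⟨g, _, h⟩ := sylow_split_struct hodd ℓ hℓ hdvd P
  rw [card_irr_filter_congr (normalizerConjEquiv g h) (fun n => ¬ ℓ ∣ n),
    (torusData_split_of_dvd hodd ℓ hℓ hdvd).count_normalizer Fact.out hℓ, card_sl2Diag]
  omega

/-- The local count for an odd prime dividing `q + 1`. -/
theorem count_nonsplit (hodd : Odd (Fintype.card F)) (ℓ : ℕ) [Fact ℓ.Prime] (hℓ : ℓ ≠ 2)
    (hdvd : ℓ ∣ Fintype.card F + 1) (P : Sylow ℓ (SL2 F)) :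
    2 * Nat.card {ψ : IrrCharacter (Subgroup.normalizer ((P : Subgroup (SL2 F)) : Set (SL2 F))) //
      ¬ ℓ ∣ charDegree (ψ : Subgroup.normalizer ((P : Subgroup (SL2 F)) : Set (SL2 F)) → ℂ)} = Fintype.card F + 7 := by
  have h2 := two_ne_zero_of_odd hodd
  obtain ⟨g₀, hg₀⟩ := exists_sl2NoEig (F := F)
  obtain ⟨w, hw⟩ := exists_inverting hg₀
  have D := torusData_noEig h2 hg₀ hw
  obtain ⟨g, _, h⟩ := sylow_nonsplit_struct ℓ hℓ hdvd hg₀ P
  rw [card_irr_filter_congr (normalizerConjEquiv g h) (fun n => ¬ ℓ ∣ n),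
    D.count_normalizer Fact.out hℓ, card_centralizer_noEig hg₀]

/-- The data for the Sylow `2`-subgroups. -/
theorem exists_torus_two (hodd : Odd (Fintype.card F)) :
    ∃ (T : Subgroup (SL2 F)) (w : SL2 F), TorusData T w (sl2M1 F) ∧ IsCyclic T ∧ 4 ∣ Nat.card T ∧
      (∃ r, Odd r ∧ Nat.card (SL2 F) = 2 * Nat.card T * r) ∧
      (∀ x ∈ T, x * x ≠ 1 → Subgroup.centralizer ({x} : Set (SL2 F)) = T) := by
  classical
  have h2 := two_ne_zero_of_odd hodd
  have hq : Fintype.card F % 2 = 1 := Nat.odd_iff.mp hodd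
  have hcase : Fintype.card F % 4 = 1 ∨ Fintype.card F % 4 = 3 := by omega
  rcases hcase with h1 | h3
  · -- the split torus
    obtain ⟨k, hk⟩ : ∃ k, Fintype.card F = 4 * k + 1 := ⟨Fintype.card F / 4, by omega⟩
    have hcard : Nat.card (sl2Diag F) = 4 * k := by
      rw [card_sl2Diag, hk]
      simp
    have h4 : 4 ∣ Nat.card (sl2Diag F) := by
      rw [hcard]
      exact dvd_mul_right _ _
    haveI hcyc : IsCyclic (sl2Diag F) := isCyclic_sl2Diag
    obtain ⟨d, hd⟩ := IsCyclic.exists_ofOrder_eq_natCard (α := sl2Diag F)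
    have hd2 : ((d : SL2 F) : Matrix (Fin 2) (Fin 2) F) 0 0 ^ 2 ≠ 1 := by
      intro ha
      have h5 := sl2Diag_sq_eq_one d.2 ha
      have h6 : orderOf d ∣ 2 := by
        apply orderOf_dvd_of_pow_eq_one
        apply Subtype.ext
        rw [pow_two]
        exact h5
      rw [hd] at h6
      have := h4.trans h6
      omega
    have D := torusData_sl2Diag h2 d.2 hd2
    refine ⟨_, _, D, hcyc, h4, ⟨(4 * k + 1) * (2 * k + 1), ?_, ?_⟩, ?_⟩
    · apply Odd.mul
      · exact ⟨2 * k, by ring⟩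
      · exact ⟨k, rfl⟩
    · rw [card_sl2, hcard, hk]
      have : (4 * k + 1) ^ 2 - 1 = 4 * k * (4 * k + 2) := by
        apply Nat.sub_eq_of_eq_add
        ring
      rw [this]
      ring
    · intro x hx hxx
      apply centralizer_eq_sl2Diag hx
      intro ha
      exact hxx (sl2Diag_sq_eq_one hx ha)
  · -- the non-split torus
    obtain ⟨k, hk⟩ : ∃ k, Fintype.card F = 4 * k + 3 := ⟨Fintype.card F / 4, by omega⟩
    obtain ⟨g₀, hg₀⟩ := exists_sl2NoEig (F := F)
    obtain ⟨w, hw⟩ := exists_inverting hg₀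
    have D := torusData_noEig h2 hg₀ hw
    have hcard : Nat.card (Subgroup.centralizer ({g₀} : Set (SL2 F))) = 4 * (k + 1) := by
      rw [card_centralizer_noEig hg₀, hk]
      ring
    have h4 : 4 ∣ Nat.card (Subgroup.centralizer ({g₀} : Set (SL2 F))) := by
      rw [hcard]
      exact dvd_mul_right _ _
    refine ⟨_, _, D, isCyclic_centralizer_noEig hg₀, h4, ⟨(4 * k + 3) * (2 * k + 1), ?_, ?_⟩, ?_⟩
    · apply Odd.mul
      · exact ⟨2 * k + 1, by ring⟩
      · exact ⟨k, rfl⟩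
    · rw [card_sl2, hcard, hk]
      have : (4 * k + 3) ^ 2 - 1 = (4 * k + 2) * (4 * k + 4) := by
        apply Nat.sub_eq_of_eq_add
        ring
      rw [this]
      ring
    · intro x hx hxx
      apply centralizer_eq_of_mem hg₀ hx
      intro hs
      exact hxx (sl2_scalar_sq hs)

/-- The local count at the prime `2`. -/
theorem count_two (hodd : Odd (Fintype.card F)) (S : Sylow 2 (SL2 F)) :
    Nat.card {ψ : IrrCharacter (Subgroup.normalizer ((S : Subgroup (SL2 F)) : Set (SL2 F))) //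
      ¬ 2 ∣ charDegree (ψ : Subgroup.normalizer ((S : Subgroup (SL2 F)) : Set (SL2 F)) → ℂ)} = 4 := by
  have h2 := two_ne_zero_of_odd hodd
  obtain ⟨T, w, D, hcyc, h4, ⟨r, hr, hG⟩, hreg⟩ := exists_torus_two hodd
  obtain ⟨A, S₀, a, m, y, d⟩ := exists_twoData D (fun g => (sl2M1_comm g).symm) hcyc h4 r hr hG hreg
  exact two_count D d (fun _ y hyT hy => sl2_quat h2 hy D.w_sq (D.inv y hyT)) S

/-! ### The characteristic -/

/-- The unipotent group. -/
def sl2UG (F : Type*) [Field F] : Subgroup (SL2 F) where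
  carrier := Set.range sl2U
  one_mem' := ⟨0, sl2U_zero⟩
  mul_mem' := by
    rintro _ _ ⟨a, rfl⟩ ⟨b, rfl⟩
    exact ⟨a + b, (sl2U_add a b).symm⟩
  inv_mem' := by
    rintro _ ⟨a, rfl⟩
    refine ⟨-a, ?_⟩
    apply eq_inv_of_mul_eq_one_left
    rw [sl2U_add]
    simp

theorem mem_sl2UG {x : SL2 F} : x ∈ sl2UG F ↔ ∃ b, sl2U b = x := Iff.rfl

theorem card_sl2UG : Nat.card (sl2UG F) = Fintype.card F := by
  rw [← Nat.card_eq_fintype_card (α := F)]
  exact (Nat.card_congr (Equiv.ofInjective sl2U sl2U_injective)).symm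

theorem sl2UG_comm {a b : SL2 F} (ha : a ∈ sl2UG F) (hb : b ∈ sl2UG F) : a * b = b * a := by
  obtain ⟨x, rfl⟩ := ha
  obtain ⟨y, rfl⟩ := hb
  rw [sl2U_add, sl2U_add, add_comm]

theorem normalizer_sl2UG : Subgroup.normalizer ((sl2UG F : Subgroup (SL2 F)) : Set (SL2 F)) = sl2Borel F := by
  classical
  have key : ∀ g ∈ sl2Borel F, ∀ v : F, g * sl2U v * g⁻¹ ∈ sl2UG F := by
    intro g hg v
    obtain ⟨a, t, rfl, _, _⟩ := sl2_exists_borelMk g ((mem_sl2Borel_iff g).mp hg)
    refine ⟨(a : F) * a * v, ?_⟩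
    rw [eq_mul_inv_iff_mul_eq]
    have ha : (a : F) * ((a⁻¹ : Fˣ) : F) = 1 := by simp
    have ha0 : (a : F) ≠ 0 := a.ne_zero
    apply sl2_ext <;> simp [sl2_mul_apply, sl2BorelMk]
    · field_simp
      ring
  apply le_antisymm
  · intro x hx
    rw [mem_sl2Borel_iff]
    have h1 : x * sl2U 1 * x⁻¹ ∈ sl2UG F := (Subgroup.mem_normalizer_iff.mp hx _).mp ⟨1, rfl⟩
    obtain ⟨b, hb⟩ := h1
    have h2 := congrArg (fun z : SL2 F => (z : Matrix (Fin 2) (Fin 2) F) 1 0) hb
    simp only [sl2_mul_apply, sl2U_00, sl2U_01, sl2U_10, sl2U_11, sl2_inv_00, sl2_inv_10] at h2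
    have h3 : (x : Matrix (Fin 2) (Fin 2) F) 1 0 ^ 2 = 0 := by linear_combination h2
    exact pow_eq_zero_iff (two_ne_zero) |>.mp h3
  · intro x hx
    rw [Subgroup.mem_normalizer_iff]
    intro y
    constructor
    · rintro ⟨v, rfl⟩
      exact key x hx v
    · intro hy
      obtain ⟨b, hb⟩ := hy
      have h1 := key x⁻¹ (Subgroup.inv_mem _ hx) b
      rw [hb] at h1
      simpa [mul_assoc] using h1

/-- The local count at the characteristic. -/
theorem count_char (hodd : Odd (Fintype.card F)) (ℓ : ℕ) [Fact ℓ.Prime] (hdvd : ℓ ∣ Fintype.card F) (S : Sylow ℓ (SL2 F)) :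
    Nat.card {ψ : IrrCharacter (Subgroup.normalizer ((S : Subgroup (SL2 F)) : Set (SL2 F))) //
      ¬ ℓ ∣ charDegree (ψ : Subgroup.normalizer ((S : Subgroup (SL2 F)) : Set (SL2 F)) → ℂ)} = Fintype.card F + 3 := by
  classical
  have hp : ℓ.Prime := Fact.out
  have hq2 : 1 < Fintype.card F := Fintype.one_lt_card
  obtain ⟨p, _, n, hpp, hn⟩ := FiniteField.card' F
  have hlp : ℓ = p := by
    rw [hn] at hdvd
    exact (Nat.prime_dvd_prime_iff_eq hp hpp).mp (hp.dvd_of_dvd_pow hdvd)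
  subst hlp
  obtain ⟨m, hm⟩ : ∃ m, Fintype.card F = m + 1 := ⟨Fintype.card F - 1, by omega⟩
  have hSp : IsPGroup ℓ (sl2UG F) := IsPGroup.of_card (n := n) (by rw [card_sl2UG, hn])
  have hidx : ¬ ℓ ∣ (sl2UG F).index := by
    have h1 := Subgroup.card_mul_index (sl2UG F)
    rw [card_sl2UG, card_sl2] at h1
    have h3 := Nat.eq_of_mul_eq_mul_left (by omega) h1
    rw [h3]
    intro h
    have h4 : ℓ ∣ Fintype.card F ^ 2 := hdvd.trans (dvd_pow_self _ two_ne_zero)
    have h5 : ℓ ∣ 1 := by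
      have h6 : Fintype.card F ^ 2 - 1 + 1 = Fintype.card F ^ 2 := Nat.sub_add_cancel (Nat.one_le_pow _ _ (by omega))
      rw [← h6] at h4
      exact (Nat.dvd_add_right h).mp h4
    exact hp.one_lt.ne' (Nat.dvd_one.mp h5)
  let P₀ : Sylow ℓ (SL2 F) := hSp.toSylow hidx
  have hP₀ : (P₀ : Subgroup (SL2 F)) = sl2UG F := rfl
  obtain ⟨g, hg⟩ := MulAction.exists_smul_eq (SL2 F) P₀ S
  have hPeq : (S : Subgroup (SL2 F)) = (sl2UG F).map (MulAut.conj g).toMonoidHom := by
    rw [← hg, Sylow.coe_subgroup_smul, hP₀]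
    rfl
  have hN : Subgroup.normalizer ((S : Subgroup (SL2 F)) : Set (SL2 F)) = (Subgroup.normalizer ((sl2UG F : Subgroup (SL2 F)) : Set (SL2 F))).map (MulAut.conj g).toMonoidHom := by
    rw [hPeq, normalizer_map_conj]
  rw [card_irr_filter_congr (normalizerConjEquiv g hN) (fun n => ¬ ℓ ∣ n),
    card_irr_filter_congr (MulEquiv.subgroupCongr (normalizer_sl2UG (F := F))) (fun n => ¬ ℓ ∣ n),
    card_irr_filter_of_forall (fun n => ¬ ℓ ∣ n)]
  · exact Cfsg.Agent.S2437.result hodd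
  · intro ψ h
    rw [charDegree_eq_irrDeg] at h
    have hle : sl2UG F ≤ sl2Borel F := by
      rw [← normalizer_sl2UG]
      exact Subgroup.le_normalizer
    let U' : Subgroup (sl2Borel F) := (sl2UG F).subgroupOf (sl2Borel F)
    haveI hnorm : U'.Normal := by
      constructor
      intro x hx b
      rw [Subgroup.mem_subgroupOf] at hx ⊢
      have hb : (b : SL2 F) ∈ Subgroup.normalizer ((sl2UG F : Subgroup (SL2 F)) : Set (SL2 F)) := by
        rw [normalizer_sl2UG]
        exact b.2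
      exact (Subgroup.mem_normalizer_iff.mp hb x).mp hx
    have hd := irrDeg_dvd_of_abelian_normal ψ U' (fun a ha b hb => Subtype.ext (sl2UG_comm (Subgroup.mem_subgroupOf.mp ha) (Subgroup.mem_subgroupOf.mp hb)))
    have hcardU : Nat.card U' = Fintype.card F := by
      rw [← card_sl2UG]
      exact Nat.card_congr (Subgroup.subgroupOfEquivOfLe hle).toEquiv
    have hcardB : Nat.card (sl2Borel F) = Fintype.card F * m := by
      have h1 := card_sl2Borel (F := F)
      rw [hm] at h1 ⊢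
      have h2 : (Nat.card (sl2Borel F) : ℂ) = (((m + 1) * m : ℕ) : ℂ) := by
        rw [h1]
        push_cast
        ring
      exact_mod_cast h2
    have hU'idx : U'.index = m := by
      have h1 := Subgroup.card_mul_index U'
      rw [hcardU, hcardB] at h1
      exact Nat.eq_of_mul_eq_mul_left (by omega) h1
    rw [hU'idx] at hd
    have h2 := h.trans hd
    have h3 : ℓ ∣ m + 1 := by rw [← hm]; exact hdvd
    have h5 : ℓ ∣ 1 := (Nat.dvd_add_right h2).mp h3
    exact hp.one_lt.ne' (Nat.dvd_one.mp h5)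

end Cfsg.Agent.Lib.Known
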