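import Mathlib
import Cfsg.Agent.Lib.Known.SL2

set_option autoImplicit false

/-! Ping-pong over `F[X]`: a nontrivial word is not a law in `PSL₂(F)` for large fields. -/

namespace Cfsg.Agent.Lib.Known

open Polynomial Matrix

namespace NoLaw

variable {F : Type*} [Field F]

/-- The generator `x_k ↦ u(t^{k+1}) v(t^{k+1})`. -/
noncomputable def genM (F : Type*) [Field F] (k : ℕ) : SpecialLinearGroup (Fin 2) F[X] :=
  ⟨!![1 + (X ^ (k + 1)) ^ 2, X ^ (k + 1); X ^ (k + 1), 1], by
    rw [Matrix.det_fin_two_of]; ring⟩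

theorem genM_coe (k : ℕ) : ((genM F k : SpecialLinearGroup (Fin 2) F[X]) : Matrix (Fin 2) (Fin 2) F[X]) =
    !![1 + (X ^ (k + 1)) ^ 2, X ^ (k + 1); X ^ (k + 1), 1] := rfl

theorem genM_inv_coe (k : ℕ) : (((genM F k)⁻¹ : SpecialLinearGroup (Fin 2) F[X]) : Matrix (Fin 2) (Fin 2) F[X]) =
    !![1, -X ^ (k + 1); -X ^ (k + 1), 1 + (X ^ (k + 1)) ^ 2] := by
  rw [Matrix.SpecialLinearGroup.SL2_inv_expl]
  ext i j
  fin_cases i <;> fin_cases j <;> simp [genM_coe]

/-- The state of the ping-pong game. -/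
def Good (a b : F[X]) (k : ℕ) (e : Bool) : Prop :=
  a ≠ 0 ∧ b ≠ 0 ∧ (if e then (a.natDegree = b.natDegree + (k + 1) ∧ a.leadingCoeff = b.leadingCoeff)
    else (b.natDegree = a.natDegree + (k + 1) ∧ a.leadingCoeff = -b.leadingCoeff))

theorem add_cases (P Q : F[X]) (hP : P ≠ 0) (hQ : Q ≠ 0)
    (h : ¬ (P.natDegree = Q.natDegree ∧ P.leadingCoeff = -Q.leadingCoeff)) :
    P + Q ≠ 0 ∧ (P + Q).natDegree = max P.natDegree Q.natDegree := by
  rcases lt_trichotomy P.natDegree Q.natDegree with h1 | h1 | h1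
  · have h2 := natDegree_add_eq_right_of_natDegree_lt h1
    refine ⟨?_, by rw [h2, max_eq_right h1.le]⟩
    intro h0
    rw [h0, natDegree_zero] at h2
    omega
  · have hlc : P.leadingCoeff + Q.leadingCoeff ≠ 0 := by
      intro h0
      exact h ⟨h1, eq_neg_of_add_eq_zero_left h0⟩
    have hne : P + Q ≠ 0 := by
      intro h0
      have : P.leadingCoeff = -Q.leadingCoeff := by
        rw [eq_neg_of_add_eq_zero_left h0, leadingCoeff_neg]
      exact hlc (by rw [this]; ring)
    refine ⟨hne, ?_⟩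
    rw [max_eq_left h1.ge]
    have h3 := natDegree_add_le P Q
    rw [max_eq_left h1.ge] at h3
    apply le_antisymm h3
    have h4 : (P + Q).coeff P.natDegree ≠ 0 := by
      rw [coeff_add]
      have : Q.coeff P.natDegree = Q.leadingCoeff := by rw [h1]; rfl
      rw [this]
      exact hlc
    exact le_natDegree_of_ne_zero h4
  · have h2 := natDegree_add_eq_left_of_natDegree_lt h1
    refine ⟨?_, by rw [h2, max_eq_left h1.le]⟩
    intro h0
    rw [h0, natDegree_zero] at h2
    omega

theorem natDegree_Xpow_mul (S : ℕ) (a : F[X]) (ha : a ≠ 0) : (X ^ S * a).natDegree = S + a.natDegree := by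
  rw [natDegree_mul (pow_ne_zero _ X_ne_zero) ha, natDegree_X_pow]

theorem leadingCoeff_Xpow_mul (S : ℕ) (a : F[X]) : (X ^ S * a).leadingCoeff = a.leadingCoeff := by
  simp

theorem dominant (P Q : F[X]) (hP : P ≠ 0) (h : Q.natDegree < P.natDegree) :
    P + Q ≠ 0 ∧ (P + Q).natDegree = P.natDegree ∧ (P + Q).leadingCoeff = P.leadingCoeff := by
  have h2 := natDegree_add_eq_left_of_natDegree_lt h
  refine ⟨?_, h2, leadingCoeff_add_of_degree_lt' (degree_lt_degree h)⟩
  intro h0
  rw [h0, natDegree_zero] at h2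
  omega

theorem stepPlus (k : ℕ) (a b : F[X]) (ha : a ≠ 0) (hb : b ≠ 0)
    (hex : ¬ (b.natDegree = a.natDegree + (k + 1) ∧ a.leadingCoeff = -b.leadingCoeff)) :
    Good ((1 + (X ^ (k + 1)) ^ 2) * a + X ^ (k + 1) * b) (X ^ (k + 1) * a + b) k true := by
  set S := k + 1 with hS
  have hsa : (X : F[X]) ^ S * a ≠ 0 := mul_ne_zero (pow_ne_zero _ X_ne_zero) ha
  have h1 := add_cases (X ^ S * a) b hsa hb (by
    rw [natDegree_Xpow_mul S a ha, leadingCoeff_Xpow_mul]
    rintro ⟨h1, h2⟩
    exact hex ⟨by omega, h2⟩)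
  set b' := (X : F[X]) ^ S * a + b with hb'
  have hsb' : (X : F[X]) ^ S * b' ≠ 0 := mul_ne_zero (pow_ne_zero _ X_ne_zero) h1.1
  have hdeg : a.natDegree < ((X : F[X]) ^ S * b').natDegree := by
    rw [natDegree_Xpow_mul S b' h1.1, h1.2, natDegree_Xpow_mul S a ha]
    have := le_max_left (S + a.natDegree) b.natDegree
    omega
  have ea : (1 + (X ^ S) ^ 2) * a + X ^ S * b = X ^ S * b' + a := by
    rw [hb']; ring
  rw [ea]
  have h2 := dominant _ _ hsb' hdeg
  refine ⟨h2.1, h1.1, ?_⟩
  simp only [if_true]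
  rw [h2.2.1, h2.2.2, natDegree_Xpow_mul S b' h1.1, leadingCoeff_Xpow_mul]
  exact ⟨by omega, rfl⟩

theorem stepMinus (k : ℕ) (a b : F[X]) (ha : a ≠ 0) (hb : b ≠ 0)
    (hex : ¬ (a.natDegree = b.natDegree + (k + 1) ∧ a.leadingCoeff = b.leadingCoeff)) :
    Good (a + -X ^ (k + 1) * b) (-X ^ (k + 1) * a + (1 + (X ^ (k + 1)) ^ 2) * b) k false := by
  set S := k + 1 with hS
  have hsb : (X : F[X]) ^ S * b ≠ 0 := mul_ne_zero (pow_ne_zero _ X_ne_zero) hb
  have e1 : a + -X ^ S * b = a + -(X ^ S * b) := by ring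
  rw [e1]
  have h1 := add_cases a (-(X ^ S * b)) ha (neg_ne_zero.mpr hsb) (by
    rw [natDegree_neg, natDegree_Xpow_mul S b hb, leadingCoeff_neg, leadingCoeff_Xpow_mul, neg_neg]
    rintro ⟨h1, h2⟩
    exact hex ⟨by omega, h2⟩)
  set a' := a + -(X ^ S * b) with ha'
  have hsa' : (-(X : F[X]) ^ S * a') ≠ 0 :=
    mul_ne_zero (neg_ne_zero.mpr (pow_ne_zero _ X_ne_zero)) h1.1
  have hdegsa : (-(X : F[X]) ^ S * a').natDegree = S + a'.natDegree := by
    rw [neg_mul, natDegree_neg, natDegree_Xpow_mul S a' h1.1]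
  have hdeg : b.natDegree < (-(X : F[X]) ^ S * a').natDegree := by
    rw [hdegsa, h1.2, natDegree_neg, natDegree_Xpow_mul S b hb]
    have := le_max_right a.natDegree (S + b.natDegree)
    omega
  have eb : -X ^ S * a + (1 + (X ^ S) ^ 2) * b = -X ^ S * a' + b := by
    rw [ha']; ring
  rw [eb]
  have h2 := dominant _ _ hsa' hdeg
  refine ⟨h1.1, h2.1, ?_⟩
  simp only [Bool.false_eq_true, if_false]
  rw [h2.2.1, h2.2.2, hdegsa, neg_mul, leadingCoeff_neg, leadingCoeff_Xpow_mul, neg_neg]
  exact ⟨by omega, rfl⟩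

/-- The letter in a word. -/
noncomputable def letter (F : Type*) [Field F] (x : ℕ × Bool) : SpecialLinearGroup (Fin 2) F[X] :=
  cond x.2 (genM F x.1) (genM F x.1)⁻¹

/-- The image of the vector `(1,1)` under a word. -/
noncomputable def wordVec (F : Type*) [Field F] (L : List (ℕ × Bool)) : Fin 2 → F[X] :=
  ((L.map (letter F)).prod : SpecialLinearGroup (Fin 2) F[X]).1.mulVec ![1, 1]

/-- A degree bound for a word. -/
def wordBound (L : List (ℕ × Bool)) : ℕ := (L.map fun x => 2 * (x.1 + 1)).sum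

theorem wordVec_cons (l : ℕ × Bool) (L : List (ℕ × Bool)) :
    wordVec F (l :: L) = (letter F l).1.mulVec (wordVec F L) := by
  simp only [wordVec, List.map_cons, List.prod_cons]
  rw [Matrix.mulVec_mulVec]
  rfl

theorem wordVec_plus (k : ℕ) (L : List (ℕ × Bool)) :
    wordVec F ((k, true) :: L) =
      ![(1 + (X ^ (k + 1)) ^ 2) * wordVec F L 0 + X ^ (k + 1) * wordVec F L 1,
        X ^ (k + 1) * wordVec F L 0 + wordVec F L 1] := by
  rw [wordVec_cons]
  ext i
  fin_cases i <;> simp [letter, genM_coe, Matrix.mulVec, dotProduct, Fin.sum_univ_two]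

theorem wordVec_minus (k : ℕ) (L : List (ℕ × Bool)) :
    wordVec F ((k, false) :: L) =
      ![wordVec F L 0 + -X ^ (k + 1) * wordVec F L 1,
        -X ^ (k + 1) * wordVec F L 0 + (1 + (X ^ (k + 1)) ^ 2) * wordVec F L 1] := by
  rw [wordVec_cons]
  have h : (letter F (k, false)).1 = !![1, -X ^ (k + 1); -X ^ (k + 1), 1 + (X ^ (k + 1)) ^ 2] :=
    genM_inv_coe k
  rw [h]
  ext i
  fin_cases i <;> simp [Matrix.mulVec, dotProduct, Fin.sum_univ_two]

theorem wordVec_nil : wordVec F [] = ![1, 1] := by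
  simp [wordVec]

theorem good_of_reduced (l : ℕ × Bool) (L : List (ℕ × Bool)) (hL : FreeGroup.IsReduced (l :: L)) :
    Good (wordVec F (l :: L) 0) (wordVec F (l :: L) 1) l.1 l.2 := by
  induction L generalizing l with
  | nil =>
    obtain ⟨k, e⟩ := l
    cases e
    · rw [wordVec_minus, wordVec_nil]
      simpa using stepMinus (F := F) k 1 1 one_ne_zero one_ne_zero (by simp)
    · rw [wordVec_plus, wordVec_nil]
      simpa using stepPlus (F := F) k 1 1 one_ne_zero one_ne_zero (by simp)
  | cons m L ih =>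
    rw [FreeGroup.isReduced_cons_cons] at hL
    have h1 := ih m hL.2
    obtain ⟨h1a, h1b, h1c⟩ := h1
    obtain ⟨k, e⟩ := l
    obtain ⟨k', e'⟩ := m
    have hr : k = k' → e = e' := hL.1
    cases e
    · rw [wordVec_minus]
      refine stepMinus k _ _ h1a h1b ?_
      rintro ⟨h2, h3⟩
      cases e'
      · simp only [Bool.false_eq_true, if_false] at h1c
        omega
      · simp only [if_true] at h1c
        have : k = k' := by omega
        simpa using hr this
    · rw [wordVec_plus]
      refine stepPlus k _ _ h1a h1b ?_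
      rintro ⟨h2, h3⟩
      cases e'
      · simp only [Bool.false_eq_true, if_false] at h1c
        have : k = k' := by omega
        simpa using hr this
      · simp only [if_true] at h1c
        omega

theorem natDegree_wordVec_le (L : List (ℕ × Bool)) :
    (wordVec F L 0).natDegree ≤ wordBound L ∧ (wordVec F L 1).natDegree ≤ wordBound L := by
  have hd1 : ∀ (S : ℕ) (a : F[X]), (X ^ S * a).natDegree ≤ S + a.natDegree := by
    intro S a
    refine natDegree_mul_le.trans ?_
    rw [natDegree_X_pow]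
  have hd2 : ∀ (S : ℕ) (a : F[X]), (-X ^ S * a).natDegree ≤ S + a.natDegree := by
    intro S a
    rw [neg_mul, natDegree_neg]
    exact hd1 S a
  have hd3 : ∀ (S : ℕ) (a : F[X]), ((1 + (X ^ S) ^ 2) * a).natDegree ≤ 2 * S + a.natDegree := by
    intro S a
    have : (1 + (X ^ S) ^ 2) * a = a + X ^ (2 * S) * a := by ring
    rw [this]
    refine (natDegree_add_le _ _).trans (max_le (by omega) (hd1 _ a))
  induction L with
  | nil =>
    rw [wordVec_nil]
    simp [wordBound]
  | cons l L ih =>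
    obtain ⟨k, e⟩ := l
    have hb : wordBound ((k, e) :: L) = 2 * (k + 1) + wordBound L := by
      simp [wordBound]
    rw [hb]
    cases e
    · rw [wordVec_minus]
      constructor
      · refine (natDegree_add_le _ _).trans (max_le (by have := ih.1; change (wordVec F L 0).natDegree ≤ _; omega) ?_)
        refine (hd2 _ _).trans ?_
        have := ih.2
        omega
      · refine (natDegree_add_le _ _).trans (max_le ?_ ?_)
        · refine (hd2 _ _).trans ?_
          have := ih.1
          omega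
        · refine (hd3 _ _).trans ?_
          have := ih.2
          omega
    · rw [wordVec_plus]
      constructor
      · refine (natDegree_add_le _ _).trans (max_le ?_ ?_)
        · refine (hd3 _ _).trans ?_
          have := ih.1
          omega
        · refine (hd1 _ _).trans ?_
          have := ih.2
          omega
      · refine (natDegree_add_le _ _).trans (max_le ?_ ?_)
        · refine (hd1 _ _).trans ?_
          have := ih.1
          omega
        · have := ih.2
          change (wordVec F L 1).natDegree ≤ _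
          omega

/-- The word vector is not proportional to `(1,1)`. -/
theorem wordVec_sub_ne_zero (L : List (ℕ × Bool)) (hL : FreeGroup.IsReduced L) (hne : L ≠ []) :
    wordVec F L 0 - wordVec F L 1 ≠ 0 := by
  obtain ⟨l, L', rfl⟩ := List.exists_cons_of_ne_nil hne
  have h := good_of_reduced (F := F) l L' hL
  obtain ⟨_, _, h3⟩ := h
  intro h0
  have h1 : wordVec F (l :: L') 0 = wordVec F (l :: L') 1 := sub_eq_zero.mp h0
  rw [h1] at h3
  cases he : l.2
  · rw [he] at h3
    simp only [Bool.false_eq_true, if_false] at h3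
    omega
  · rw [he] at h3
    simp only [if_true] at h3
    omega

/-- Center of `SL₂`: scalar matrices. -/
theorem center_scalar (c : SL2 F) (hc : c ∈ Subgroup.center (SL2 F)) :
    (c : Matrix (Fin 2) (Fin 2) F) 0 1 = 0 ∧ (c : Matrix (Fin 2) (Fin 2) F) 1 0 = 0 ∧
      (c : Matrix (Fin 2) (Fin 2) F) 0 0 = (c : Matrix (Fin 2) (Fin 2) F) 1 1 := by
  have h1 := Subgroup.mem_center_iff.mp hc (sl2U 1)
  have h2 := Subgroup.mem_center_iff.mp hc sl2W
  have e1 := congrArg (fun g : SL2 F => (g : Matrix (Fin 2) (Fin 2) F) 0 0) h1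
  have e2 := congrArg (fun g : SL2 F => (g : Matrix (Fin 2) (Fin 2) F) 0 1) h1
  have e3 := congrArg (fun g : SL2 F => (g : Matrix (Fin 2) (Fin 2) F) 0 0) h2
  simp [sl2_mul_apply, sl2U, sl2W] at e1 e2 e3
  refine ⟨?_, e1, ?_⟩
  · rw [e1] at e3
    linear_combination e3
  · linear_combination -e2

end NoLaw

/-- Main theorem: a nontrivial word is not a law in `PSL₂(F)` for `F` large. -/
theorem exists_no_law_psl2 (w : FreeGroup ℕ) (hw : w ≠ 1) :
    ∃ N : ℕ, ∀ (F : Type*) [Field F] [Fintype F], N ≤ Fintype.card F →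
      ∃ f : ℕ → Matrix.ProjectiveSpecialLinearGroup (Fin 2) F, FreeGroup.lift f w ≠ 1 := by
  classical
  refine ⟨NoLaw.wordBound w.toWord + 1, ?_⟩
  intro F _ _ hF
  set L := w.toWord with hL
  have hLne : L ≠ [] := by
    intro h
    apply hw
    have := FreeGroup.mk_toWord (x := w)
    rw [← this, ← hL, h]
    rfl
  have hP := NoLaw.wordVec_sub_ne_zero (F := F) L FreeGroup.isReduced_toWord hLne
  set P := NoLaw.wordVec F L 0 - NoLaw.wordVec F L 1 with hPdef
  have hdeg : P.natDegree ≤ NoLaw.wordBound L := by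
    have h := NoLaw.natDegree_wordVec_le (F := F) L
    refine (natDegree_sub_le _ _).trans (max_le h.1 h.2)
  obtain ⟨τ, hτ⟩ : ∃ τ : F, P.eval τ ≠ 0 := by
    by_contra hall
    push Not at hall
    have h1 : (Finset.univ : Finset F) ⊆ P.roots.toFinset := by
      intro a _
      rw [Multiset.mem_toFinset, mem_roots hP]
      exact hall a
    have h2 := Finset.card_le_card h1
    have h3 := Multiset.toFinset_card_le P.roots
    have h4 := P.card_roots'
    rw [Finset.card_univ] at h2
    omega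
  let ev : SpecialLinearGroup (Fin 2) F[X] →* SL2 F := SpecialLinearGroup.map (evalRingHom τ)
  let π : SL2 F →* Matrix.ProjectiveSpecialLinearGroup (Fin 2) F := QuotientGroup.mk' _
  refine ⟨fun k => π (ev (NoLaw.genM F k)), ?_⟩
  have hlift : FreeGroup.lift (fun k => π (ev (NoLaw.genM F k))) w =
      π (ev ((L.map (NoLaw.letter F)).prod)) := by
    conv_lhs => rw [← FreeGroup.mk_toWord (x := w), FreeGroup.lift_mk]
    rw [← hL, ← MonoidHom.comp_apply π ev, map_list_prod, List.map_map]
    congr 1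
    apply List.map_congr_left
    rintro ⟨k, e⟩ _
    cases e <;> simp [NoLaw.letter]
  rw [hlift]
  intro h1
  have h2 : ev ((L.map (NoLaw.letter F)).prod) ∈ Subgroup.center (SL2 F) :=
    (QuotientGroup.eq_one_iff _).mp h1
  obtain ⟨h01, h10, hd⟩ := NoLaw.center_scalar _ h2
  apply hτ
  have hev : ∀ i, eval τ (NoLaw.wordVec F L i) =
      ((ev ((L.map (NoLaw.letter F)).prod) : SL2 F) : Matrix (Fin 2) (Fin 2) F).mulVec ![1, 1] i := by
    intro i
    change (evalRingHom τ) (NoLaw.wordVec F L i) = _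
    rw [NoLaw.wordVec, RingHom.map_mulVec]
    have : (![1, 1] : Fin 2 → F[X]) i = C ((![1, 1] : Fin 2 → F) i) := by
      fin_cases i <;> simp
    simp only [Matrix.mulVec, dotProduct, Fin.sum_univ_two]
    fin_cases i <;> simp <;> rfl
  rw [hPdef, eval_sub, hev, hev]
  simp [Matrix.mulVec, dotProduct, Fin.sum_univ_two, h01, h10, hd]

end Cfsg.Agent.Lib.Known
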