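import Mathlib
import Cfsg.Agent.Lib.Known.NoLaw

set_option autoImplicit false

/-! Basic facts on conjugacy in `PSL₂` via traces. -/

namespace Cfsg.Agent.Lib.Known

open Matrix

variable {F : Type*} [Field F]

/-- The trace of an element of `SL₂`. -/
def trS (g : SL2 F) : F := (g : Matrix (Fin 2) (Fin 2) F) 0 0 + (g : Matrix (Fin 2) (Fin 2) F) 1 1

theorem trS_mul_comm (g h : SL2 F) : trS (g * h) = trS (h * g) := by
  simp only [trS, sl2_mul_apply]
  ring

theorem trS_conj (g x : SL2 F) : trS (x * g * x⁻¹) = trS g := by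
  rw [mul_assoc, trS_mul_comm, mul_assoc, inv_mul_cancel, mul_one]

/-- Central elements are `e • 1`, with `e² = 1`. -/
theorem center_sq (z : SL2 F) (hz : z ∈ Subgroup.center (SL2 F)) :
    (z : Matrix (Fin 2) (Fin 2) F) 0 1 = 0 ∧ (z : Matrix (Fin 2) (Fin 2) F) 1 0 = 0 ∧
    (z : Matrix (Fin 2) (Fin 2) F) 1 1 = (z : Matrix (Fin 2) (Fin 2) F) 0 0 ∧
    (z : Matrix (Fin 2) (Fin 2) F) 0 0 * (z : Matrix (Fin 2) (Fin 2) F) 0 0 = 1 := by
  obtain ⟨h1, h2, h3⟩ := NoLaw.center_scalar z hz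
  have hdet := sl2_det z
  rw [h1, h2, ← h3] at hdet
  exact ⟨h1, h2, h3.symm, by linear_combination hdet⟩

/-- Traces of `PSL₂`-conjugate elements agree up to sign. -/
theorem trS_of_isConj_mk (C G : SL2 F)
    (h : IsConj (C : Matrix.ProjectiveSpecialLinearGroup (Fin 2) F) (G : Matrix.ProjectiveSpecialLinearGroup (Fin 2) F)) :
    trS G = trS C ∨ trS G = -trS C := by
  obtain ⟨y, hy⟩ := isConj_iff.mp h
  obtain ⟨Y, rfl⟩ := QuotientGroup.mk_surjective y
  have h1 : ((Y * C * Y⁻¹ : SL2 F) : Matrix.ProjectiveSpecialLinearGroup (Fin 2) F) = G := hy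
  have h2 := QuotientGroup.eq.mp h1
  set z := (Y * C * Y⁻¹)⁻¹ * G with hz
  have hG : G = (Y * C * Y⁻¹) * z := by rw [hz]; group
  obtain ⟨z1, z2, z3, z4⟩ := center_sq z h2
  have h3 : trS G = (z : Matrix (Fin 2) (Fin 2) F) 0 0 * trS C := by
    rw [← trS_conj C Y, hG]
    simp only [trS, sl2_mul_apply, z1, z2, z3]
    ring
  have h4 : ((z : Matrix (Fin 2) (Fin 2) F) 0 0 - 1) * ((z : Matrix (Fin 2) (Fin 2) F) 0 0 + 1) = 0 := by
    linear_combination z4
  rcases mul_eq_zero.mp h4 with h5 | h5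
  · left
    rw [h3, sub_eq_zero.mp h5, one_mul]
  · right
    rw [h3, eq_neg_of_add_eq_zero_left h5]
    ring

theorem sl2U_inv' (s : F) : (sl2U s)⁻¹ = sl2U (-s) := by
  rw [inv_eq_iff_mul_eq_one, sl2U_add]
  simp

/-- Non-central elements have a conjugate with nonzero lower left entry. -/
theorem exists_conj_lower_ne (A : SL2 F) (hA : A ∉ Subgroup.center (SL2 F)) :
    ∃ x : SL2 F, ((x * A * x⁻¹ : SL2 F) : Matrix (Fin 2) (Fin 2) F) 1 0 ≠ 0 := by
  by_contra hall
  push Not at hall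
  apply hA
  have h1 := hall 1
  have h2 := hall sl2W
  have h3 := hall (sl2Mk 1 0 1 1 (by ring))
  simp only [one_mul, inv_one, mul_one] at h1
  have hW : (sl2W : SL2 F)⁻¹ = sl2Mk 0 (-1) 1 0 (by ring) := by
    rw [inv_eq_iff_mul_eq_one]
    apply sl2_ext <;> simp [sl2_mul_apply, sl2W]
  have hL : (sl2Mk 1 0 1 1 (by ring) : SL2 F)⁻¹ = sl2Mk 1 0 (-1) 1 (by ring) := by
    rw [inv_eq_iff_mul_eq_one]
    apply sl2_ext <;> simp [sl2_mul_apply]
  rw [hW] at h2
  rw [hL] at h3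
  simp [sl2_mul_apply, sl2W] at h2 h3
  rw [h1, h2] at h3
  have h4 : (A : Matrix (Fin 2) (Fin 2) F) 0 0 = (A : Matrix (Fin 2) (Fin 2) F) 1 1 := by
    linear_combination h3
  rw [Subgroup.mem_center_iff]
  intro g
  apply sl2_ext <;> simp only [sl2_mul_apply, h1, h2, h4] <;> ring

/-- The traces of `A * U(s) B U(-s)`. -/
theorem trS_family (A B : SL2 F) (s : F) :
    trS (A * (sl2U s * B * (sl2U s)⁻¹)) =
      -((A : Matrix (Fin 2) (Fin 2) F) 1 0 * (B : Matrix (Fin 2) (Fin 2) F) 1 0) * s ^ 2 +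
      ((A : Matrix (Fin 2) (Fin 2) F) 0 0 * (B : Matrix (Fin 2) (Fin 2) F) 1 0 +
        (A : Matrix (Fin 2) (Fin 2) F) 1 0 * ((B : Matrix (Fin 2) (Fin 2) F) 1 1 - (B : Matrix (Fin 2) (Fin 2) F) 0 0) -
        (A : Matrix (Fin 2) (Fin 2) F) 1 1 * (B : Matrix (Fin 2) (Fin 2) F) 1 0) * s +
      trS (A * B) := by
  rw [sl2U_inv']
  simp only [trS, sl2_mul_apply, sl2U_00, sl2U_01, sl2U_10, sl2U_11]
  ring

/-- A nondegenerate quadratic takes every value at most twice. -/
theorem card_quadratic_roots [Fintype F] [DecidableEq F] (a b c : F) (ha : a ≠ 0) :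
    (Finset.univ.filter (fun s : F => a * s ^ 2 + b * s + c = 0)).card ≤ 2 := by
  classical
  let P : Polynomial F := Polynomial.C a * Polynomial.X ^ 2 + Polynomial.C b * Polynomial.X + Polynomial.C c
  have hP : P ≠ 0 := by
    intro h
    have := congrArg (fun Q => Polynomial.coeff Q 2) h
    simp [P, Polynomial.coeff_X] at this
    exact ha this
  have hdeg : P.natDegree ≤ 2 := by
    simp only [P]
    compute_degree
  have h1 : (Finset.univ.filter (fun s : F => a * s ^ 2 + b * s + c = 0)) ⊆ P.roots.toFinset := by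
    intro s hs
    rw [Multiset.mem_toFinset, Polynomial.mem_roots hP]
    simp only [Finset.mem_filter, Finset.mem_univ, true_and] at hs
    simpa [P, Polynomial.IsRoot] using hs
  calc _ ≤ P.roots.toFinset.card := Finset.card_le_card h1
    _ ≤ Multiset.card P.roots := Multiset.toFinset_card_le _
    _ ≤ P.natDegree := P.card_roots'
    _ ≤ 2 := hdeg

end Cfsg.Agent.Lib.Known
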