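import Mathlib
import Cfsg.Agent.Lib.Known.PSL2Conj
import Cfsg.Agent.Lib.Known.SL2Classes

set_option autoImplicit false

/-! Products of two conjugates in `SL₂`. -/

namespace Cfsg.Agent.Lib.Known

open Matrix Polynomial

variable {F : Type*} [Field F]

theorem trS_eq_trace (g : SL2 F) : trS g = (g : Matrix (Fin 2) (Fin 2) F).trace := by
  simp [trS, Matrix.trace_fin_two]

/-- A factorisation of the companion matrix from a point on the conic. -/
theorem exists_factor_of_conic (t γ u v : F)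
    (h : u ^ 2 + v ^ 2 - γ * u * v - t * u + t * v + 1 = 0) :
    ∃ A B : SL2 F, A * B = sl2C γ ∧ trS A = t ∧ trS B = t := by
  have hdet : u * (t - u) - v * (t + v - u * γ) = 1 := by linear_combination -h
  refine ⟨sl2Mk u v (t + v - u * γ) (t - u) hdet,
    sl2Mk (t - u) (-v) (-(t + v - u * γ)) u (by linear_combination hdet) * sl2C γ, ?_, ?_, ?_⟩
  · rw [← mul_assoc]
    have : sl2Mk u v (t + v - u * γ) (t - u) hdet *
        sl2Mk (t - u) (-v) (-(t + v - u * γ)) u (by linear_combination hdet) = 1 := by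
      apply sl2_ext <;> simp [sl2_mul_apply] <;> first | ring1 | linear_combination hdet
    rw [this, one_mul]
  · simp [trS]
  · simp only [trS, sl2_mul_apply]
    simp [sl2C, comp2]

/-- Odd characteristic: the conic has a point. -/
theorem exists_conic_point_odd [Fintype F] (hodd : Fintype.card F % 2 = 1) (h2 : (2 : F) ≠ 0)
    (t γ : F) (ht : t ≠ 0) (hγ : γ ≠ 2) :
    ∃ u v : F, u ^ 2 + v ^ 2 - γ * u * v - t * u + t * v + 1 = 0 := by
  by_cases hγ2 : γ = -2
  · subst hγ2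
    have h8 : (8 * t : F) ≠ 0 := by
      have : (8 : F) = 2 * 2 * 2 := by norm_num
      rw [this]
      exact mul_ne_zero (mul_ne_zero (mul_ne_zero h2 h2) h2) ht
    obtain ⟨v, hv⟩ : ∃ v : F, 8 * t * v = t ^ 2 - 4 := ⟨(t ^ 2 - 4) / (8 * t), by rw [mul_comm]; exact div_mul_cancel₀ _ h8⟩
    refine ⟨-v + t / 2, v, ?_⟩
    have h4 : (4 : F) ≠ 0 := by
      have : (4 : F) = 2 * 2 := by norm_num
      rw [this]
      exact mul_ne_zero h2 h2
    have : (-v + t / 2) ^ 2 + v ^ 2 - -2 * (-v + t / 2) * v - t * (-v + t / 2) + t * v + 1 =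
        (8 * t * v - (t ^ 2 - 4)) / 4 := by
      field_simp
      ring
    rw [this, hv]
    simp
  · have hne : γ ^ 2 - 4 ≠ 0 := by
      have : γ ^ 2 - 4 = (γ - 2) * (γ + 2) := by ring
      rw [this]
      refine mul_ne_zero (sub_ne_zero.mpr hγ) ?_
      intro h
      exact hγ2 (eq_neg_of_add_eq_zero_left h)
    let f : F[X] := X ^ 2
    let g : F[X] := C (-(γ ^ 2 - 4)) * X ^ 2 + C (-(2 * γ * t - 4 * t)) * X + C (-(t ^ 2 - 4))
    have hf : f.degree = 2 := by simp [f]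
    have hg : g.degree = 2 := by
      apply degree_quadratic
      exact neg_ne_zero.mpr hne
    obtain ⟨a, b, hab⟩ := FiniteField.exists_root_sum_quadratic hf hg hodd
    simp only [f, g, eval_pow, eval_X, eval_add, eval_mul, eval_C] at hab
    refine ⟨a / 2 + (γ * b + t) / 2, b, ?_⟩
    field_simp
    linear_combination hab

/-- Conjugating into `SL₂` a factorisation of the companion matrix. -/
theorem exists_factor_of_nonscalar (G : SL2 F) (hG : ¬ m2Scalar (G : Matrix (Fin 2) (Fin 2) F))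
    (t : F) (h : ∀ γ : F, γ = trS G → ∃ A B : SL2 F, A * B = sl2C γ ∧ trS A = t ∧ trS B = t) :
    ∃ a b : SL2 F, a * b = G ∧ trS a = t ∧ trS b = t := by
  obtain ⟨Q, hQ, e⟩ := m2_exists_companion (G : Matrix (Fin 2) (Fin 2) F) hG
  obtain ⟨A, B, hAB, hA, hB⟩ := h _ rfl
  rw [G.2, ← trS_eq_trace] at e
  have hQu : IsUnit Q.det := isUnit_iff_ne_zero.mpr hQ
  have hQi : Q⁻¹ * Q = 1 := Matrix.nonsing_inv_mul Q hQu
  have hQi' : Q * Q⁻¹ = 1 := Matrix.mul_nonsing_inv Q hQu
  have hdet : ∀ M : SL2 F, (Q * (M : Matrix (Fin 2) (Fin 2) F) * Q⁻¹).det = 1 := by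
    intro M
    rw [Matrix.det_mul, Matrix.det_mul, M.2, mul_one, ← Matrix.det_mul, hQi', Matrix.det_one]
  let conjS : SL2 F → SL2 F := fun M => ⟨Q * (M : Matrix (Fin 2) (Fin 2) F) * Q⁻¹, hdet M⟩
  have htr : ∀ M : SL2 F, trS (conjS M) = trS M := by
    intro M
    rw [trS_eq_trace, trS_eq_trace]
    change (Q * (M : Matrix (Fin 2) (Fin 2) F) * Q⁻¹).trace = _
    rw [Matrix.trace_mul_comm, ← mul_assoc, hQi, one_mul]
  refine ⟨conjS A, conjS B, ?_, by rw [htr, hA], by rw [htr, hB]⟩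
  apply Subtype.ext
  change Q * (A : Matrix (Fin 2) (Fin 2) F) * Q⁻¹ * (Q * (B : Matrix (Fin 2) (Fin 2) F) * Q⁻¹) = G
  have h1 : (A : Matrix (Fin 2) (Fin 2) F) * (B : Matrix (Fin 2) (Fin 2) F) = ((sl2C (trS G) : SL2 F) : Matrix (Fin 2) (Fin 2) F) := by
    rw [← hAB]
    rfl
  have h2 : (G : Matrix (Fin 2) (Fin 2) F) * Q * Q⁻¹ = G := by
    rw [mul_assoc, hQi', mul_one]
  calc Q * (A : Matrix (Fin 2) (Fin 2) F) * Q⁻¹ * (Q * (B : Matrix (Fin 2) (Fin 2) F) * Q⁻¹)
      = Q * ((A : Matrix (Fin 2) (Fin 2) F) * (Q⁻¹ * Q) * (B : Matrix (Fin 2) (Fin 2) F)) * Q⁻¹ := by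
        simp only [Matrix.mul_assoc]
    _ = Q * ((A : Matrix (Fin 2) (Fin 2) F) * (B : Matrix (Fin 2) (Fin 2) F)) * Q⁻¹ := by
        rw [hQi, mul_one]
    _ = Q * comp2 (trS G) 1 * Q⁻¹ := by rw [h1]; rfl
    _ = (G : Matrix (Fin 2) (Fin 2) F) * Q * Q⁻¹ := by rw [← e]
    _ = _ := h2

/-- A non-scalar element with trace `t²≠ 4` is conjugate to any element of trace `t` that is
nonscalar, under the representation hypothesis. -/
theorem isConj_of_trS_eq (X a : SL2 F)
    (hX : ¬ m2Scalar (X : Matrix (Fin 2) (Fin 2) F)) (ha : ¬ m2Scalar (a : Matrix (Fin 2) (Fin 2) F))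
    (h : trS a = trS X)
    (hrep : ∀ δ : F, δ ≠ 0 → ∃ x y : F, x * x + trS X * x * y + y * y = δ) :
    IsConj a X := by
  apply sl2_isConj_of_trace a X ha hX
  · rw [← trS_eq_trace, ← trS_eq_trace, h]
  · rw [← trS_eq_trace]
    exact hrep

/-- If `a` has the trace of `X` and `X` is semisimple (`t ≠ ±2`, char not 2), `a` is non-scalar. -/
theorem not_scalar_of_trS (a : SL2 F) (h : trS a ^ 2 ≠ 4) :
    ¬ m2Scalar (a : Matrix (Fin 2) (Fin 2) F) := by
  rintro ⟨h1, h2, h3⟩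
  apply h
  have hdet := sl2_det a
  rw [h1, h2, ← h3] at hdet
  simp only [trS, ← h3]
  linear_combination 4 * hdet

/-- The covering theorem for `SL₂` in odd characteristic. -/
theorem exists_two_conj_odd [Fintype F] (hodd : Fintype.card F % 2 = 1) (h2 : (2 : F) ≠ 0)
    (X G : SL2 F) (ht0 : trS X ≠ 0) (ht2 : trS X ^ 2 ≠ 4)
    (hG : ¬ m2Scalar (G : Matrix (Fin 2) (Fin 2) F)) (hγ : trS G ≠ 2) :
    ∃ u v : SL2 F, G = (u * X * u⁻¹) * (v * X * v⁻¹) := by
  obtain ⟨a, b, hab, ha, hb⟩ := exists_factor_of_nonscalar G hG (trS X) (by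
    intro γ hγ'
    obtain ⟨u, v, huv⟩ := exists_conic_point_odd hodd h2 (trS X) γ ht0 (by rw [hγ']; exact hγ)
    exact exists_factor_of_conic _ _ u v huv)
  have hrep : ∀ δ : F, δ ≠ 0 → ∃ x y : F, x * x + trS X * x * y + y * y = δ := by
    intro δ _
    refine form_surj_odd (Nat.odd_iff.mpr hodd) (trS X) ht2 δ
  have hX := not_scalar_of_trS X ht2
  obtain ⟨u, hu⟩ := isConj_iff.mp (isConj_of_trS_eq X a hX (not_scalar_of_trS a (by rw [ha]; exact ht2)) ha hrep).symm
  obtain ⟨v, hv⟩ := isConj_iff.mp (isConj_of_trS_eq X b hX (not_scalar_of_trS b (by rw [hb]; exact ht2)) hb hrep).symm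
  exact ⟨u, v, by rw [hu, hv, hab]⟩

theorem mem_center_of_scalar (G : SL2 F) (hs : m2Scalar (G : Matrix (Fin 2) (Fin 2) F)) :
    G ∈ Subgroup.center (SL2 F) := by
  rw [Subgroup.mem_center_iff]
  intro x
  apply Subtype.ext
  exact (m2Scalar_comm hs _).symm

/-- The Cayley-Hamilton relation. -/
theorem sl2_cayley (X : SL2 F) :
    (X : Matrix (Fin 2) (Fin 2) F) * (X : Matrix (Fin 2) (Fin 2) F) =
      trS X • (X : Matrix (Fin 2) (Fin 2) F) - 1 := by
  have hdet := sl2_det X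
  ext i j
  fin_cases i <;> fin_cases j <;> simp [Matrix.mul_apply, Fin.sum_univ_two, trS] <;>
    first | ring1 | linear_combination hdet | linear_combination -hdet

/-- Elements of trace zero square to `-1`, so have order at most two modulo the centre. -/
theorem sq_mem_center_of_trS_zero (X : SL2 F) (h : trS X = 0) : X ^ 2 ∈ Subgroup.center (SL2 F) := by
  apply mem_center_of_scalar
  have h1 := sl2_cayley X
  rw [h, zero_smul, zero_sub] at h1
  have h2 : ((X ^ 2 : SL2 F) : Matrix (Fin 2) (Fin 2) F) = -1 := by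
    rw [pow_two]
    exact h1
  rw [h2]
  simp [m2Scalar]

/-- Elements with `t² = 4` have central `p`-th powers in characteristic `p ≠ 2`. -/
theorem pow_char_mem_center_of_sq (p : ℕ) [Fact p.Prime] [CharP F p] (X : SL2 F)
    (h2 : (2 : F) ≠ 0) (h : trS X ^ 2 = 4) : X ^ p ∈ Subgroup.center (SL2 F) := by
  apply mem_center_of_scalar
  set t := trS X with ht
  set e : F := t / 2 with he
  have he2 : 2 * e = t := by rw [he]; field_simp
  have hee : e * e = 1 := by
    have h' : (2 * e) ^ 2 = 4 := by rw [he2]; exact h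
    have : 4 * (e * e) = 4 := by linear_combination h'
    have h4 : (4 : F) ≠ 0 := by
      have : (4 : F) = 2 * 2 := by norm_num
      rw [this]
      exact mul_ne_zero h2 h2
    exact mul_left_cancel₀ h4 (by rw [this, mul_one])
  set N : Matrix (Fin 2) (Fin 2) F := (X : Matrix (Fin 2) (Fin 2) F) - e • 1 with hN
  have hN2 : N * N = 0 := by
    have h1 := sl2_cayley X
    rw [← ht] at h1
    rw [hN]
    have hXC : (X : Matrix (Fin 2) (Fin 2) F) * (e • 1) = e • (X : Matrix (Fin 2) (Fin 2) F) := by simp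
    have hCX : (e • 1) * (X : Matrix (Fin 2) (Fin 2) F) = e • (X : Matrix (Fin 2) (Fin 2) F) := by simp
    have hCC : (e • (1 : Matrix (Fin 2) (Fin 2) F)) * (e • 1) = 1 := by simp [smul_smul, hee]
    rw [sub_mul, mul_sub, mul_sub, hXC, hCX, hCC, h1, ← he2, two_mul, add_smul]
    abel
  have hNp : N ^ p = 0 := by
    have hp2 : 2 ≤ p := (Fact.out : p.Prime).two_le
    obtain ⟨k, rfl⟩ : ∃ k, p = k + 2 := ⟨p - 2, by omega⟩
    rw [pow_add, pow_two, hN2, mul_zero]
  have hX : (X : Matrix (Fin 2) (Fin 2) F) = e • 1 + N := by rw [hN]; abel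
  have hXp : ((X ^ p : SL2 F) : Matrix (Fin 2) (Fin 2) F) = (e ^ p) • 1 := by
    have h1 : ((X ^ p : SL2 F) : Matrix (Fin 2) (Fin 2) F) = (X : Matrix (Fin 2) (Fin 2) F) ^ p :=
      Matrix.SpecialLinearGroup.coe_pow X p
    rw [h1, hX, add_pow_char_of_commute (p := p) ((Commute.one_left N).smul_left e), hNp, add_zero, _root_.smul_pow, one_pow]
  rw [hXp]
  simp [m2Scalar]

end Cfsg.Agent.Lib.Known
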