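import Mathlib
import Cfsg.Agent.Lib.Known.PSL2Cover
import Cfsg.Agent.Lib.Known.Discrete8

set_option autoImplicit false

/-! Element orders in `PSL₂`. -/

namespace Cfsg.Agent.Lib.Known

open Matrix

variable {F : Type*} [Field F]

theorem psl_mk_pow_eq_one (Y : SL2 F) (n : ℕ) :
    ((Y : Matrix.ProjectiveSpecialLinearGroup (Fin 2) F) ^ n = 1) ↔ Y ^ n ∈ Subgroup.center (SL2 F) := by
  rw [← QuotientGroup.mk_pow]
  exact QuotientGroup.eq_one_iff _

theorem central_mul_self (z : SL2 F) (hz : z ∈ Subgroup.center (SL2 F)) : z * z = 1 := by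
  obtain ⟨z1, z2, z3, z4⟩ := center_sq z hz
  apply sl2_ext <;> simp [sl2_mul_apply, z1, z2, z3, z4]

theorem central_of_sq_one (h2 : (2 : F) ≠ 0) (c : SL2 F) (h : c * c = 1) :
    c ∈ Subgroup.center (SL2 F) := by
  rcases sl2_sq_one_odd h2 h with rfl | rfl
  · exact one_mem _
  · rw [Subgroup.mem_center_iff]
    intro g
    exact (sl2M1_comm g).symm

theorem orderOf_mk_even (h2 : (2 : F) ≠ 0) (c : SL2 F) (n : ℕ) (hc : orderOf c = 2 * n) :
    orderOf (c : Matrix.ProjectiveSpecialLinearGroup (Fin 2) F) = n := by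
  apply Nat.dvd_antisymm
  · apply orderOf_dvd_of_pow_eq_one
    rw [psl_mk_pow_eq_one]
    apply central_of_sq_one h2
    rw [← pow_add, ← two_mul, ← hc, pow_orderOf_eq_one]
  · have h1 : (c : Matrix.ProjectiveSpecialLinearGroup (Fin 2) F) ^
        orderOf (c : Matrix.ProjectiveSpecialLinearGroup (Fin 2) F) = 1 := pow_orderOf_eq_one _
    rw [psl_mk_pow_eq_one] at h1
    have h3 := central_mul_self _ h1
    rw [← pow_add, ← two_mul] at h3
    have h4 := orderOf_dvd_of_pow_eq_one h3
    rw [hc] at h4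
    exact Nat.dvd_of_mul_dvd_mul_left (by norm_num) h4

theorem orderOf_mk_odd (c : SL2 F) (n : ℕ) (hc : orderOf c = n) (hn : Odd n) :
    orderOf (c : Matrix.ProjectiveSpecialLinearGroup (Fin 2) F) = n := by
  apply Nat.dvd_antisymm
  · apply orderOf_dvd_of_pow_eq_one
    rw [psl_mk_pow_eq_one, ← hc, pow_orderOf_eq_one]
    exact one_mem _
  · have h1 : (c : Matrix.ProjectiveSpecialLinearGroup (Fin 2) F) ^
        orderOf (c : Matrix.ProjectiveSpecialLinearGroup (Fin 2) F) = 1 := pow_orderOf_eq_one _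
    rw [psl_mk_pow_eq_one] at h1
    have h3 := central_mul_self _ h1
    rw [← pow_add, ← two_mul] at h3
    have h4 := orderOf_dvd_of_pow_eq_one h3
    rw [hc] at h4
    exact (Nat.Coprime.dvd_of_dvd_mul_left (Nat.coprime_comm.mp (Nat.coprime_two_left.mpr hn)) h4)

theorem exists_orderOf_of_dvd {G : Type*} [Group G] (g : G) {m : ℕ} (hg : 0 < orderOf g)
    (hm : m ∣ orderOf g) : ∃ x : G, orderOf x = m := by
  have hm0 : 0 < m := Nat.pos_of_dvd_of_pos hm hg
  have hd : orderOf g / m ∣ orderOf g := Nat.div_dvd_of_dvd hm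
  have hd0 : orderOf g / m ≠ 0 := (Nat.div_pos (Nat.le_of_dvd hg hm) hm0).ne'
  refine ⟨g ^ (orderOf g / m), ?_⟩
  rw [orderOf_pow_of_dvd hd0 hd, Nat.div_div_self hm hg.ne']

variable [Fintype F]

theorem char_facts (p : ℕ) [Fact p.Prime] [CharP F p] :
    (p = 2 ∧ (2 : F) = 0 ∧ Even (Fintype.card F) ∧ Nat.gcd 2 (Fintype.card F - 1) = 1) ∨
    (p ≠ 2 ∧ (2 : F) ≠ 0 ∧ Odd (Fintype.card F) ∧ Nat.gcd 2 (Fintype.card F - 1) = 2) := by
  have hp' : p.Prime := Fact.out
  obtain ⟨n, hn, hn'⟩ := FiniteField.card F p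
  have hq1 : 1 < Fintype.card F := Fintype.one_lt_card
  by_cases hp : p = 2
  · left
    subst hp
    have h2 : (2 : F) = 0 := by exact_mod_cast CharP.cast_eq_zero F 2
    have he : Even (Fintype.card F) := by
      rw [hn']
      exact (Nat.even_pow.mpr ⟨even_two, n.2.ne'⟩)
    refine ⟨rfl, h2, he, ?_⟩
    apply (Nat.coprime_two_left.mpr ?_)
    obtain ⟨k, hk⟩ := he
    exact ⟨k - 1, by omega⟩
  · right
    have h2 : (2 : F) ≠ 0 := by
      intro h
      have : ((2 : ℕ) : F) = 0 := by exact_mod_cast h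
      rw [CharP.cast_eq_zero_iff F p] at this
      exact hp ((Nat.prime_dvd_prime_iff_eq hp' Nat.prime_two).mp this)
    have ho : Odd (Fintype.card F) := by
      rw [hn']
      exact (hp'.odd_of_ne_two hp).pow
    refine ⟨hp, h2, ho, ?_⟩
    apply Nat.gcd_eq_left
    obtain ⟨k, hk⟩ := ho
    exact ⟨k, by omega⟩

theorem sl2D_pow (u : Fˣ) (n : ℕ) : sl2D u ^ n = sl2D (u ^ n) := by
  induction n with
  | zero =>
    apply sl2_ext <;> simp
  | succ k ih =>
    rw [pow_succ, ih, pow_succ]
    apply sl2_ext <;> simp [sl2_mul_apply, mul_comm]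

/-- Element orders in `PSL₂` divide `p`, `(q-1)/d` or `(q+1)/d`. -/
theorem psl2_order_cases (p : ℕ) [Fact p.Prime] [CharP F p] (X : SL2 F) :
    orderOf (X : Matrix.ProjectiveSpecialLinearGroup (Fin 2) F) ∣ p ∨
    orderOf (X : Matrix.ProjectiveSpecialLinearGroup (Fin 2) F) ∣ (Fintype.card F - 1) / Nat.gcd 2 (Fintype.card F - 1) ∨
    orderOf (X : Matrix.ProjectiveSpecialLinearGroup (Fin 2) F) ∣ (Fintype.card F + 1) / Nat.gcd 2 (Fintype.card F - 1) := by
  classical
  have hp' : p.Prime := Fact.out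
  have hcf := char_facts (F := F) p
  set q := Fintype.card F with hq
  have hq1 : 1 < q := Fintype.one_lt_card
  -- The power law
  have key : ∀ (c : SL2 F) (n : ℕ), c ^ n = 1 → Nat.gcd 2 (q - 1) ∣ n →
      (c : Matrix.ProjectiveSpecialLinearGroup (Fin 2) F) ^ (n / Nat.gcd 2 (q - 1)) = 1 := by
    intro c n hc hd
    rw [psl_mk_pow_eq_one]
    rcases hcf with ⟨_, _, _, hg⟩ | ⟨_, h2, _, hg⟩
    · rw [hg, Nat.div_one, hc]
      exact one_mem _
    · rw [hg] at hd ⊢
      apply central_of_sq_one h2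
      rw [← pow_add, ← two_mul, Nat.mul_div_cancel' hd, hc]
  have hqp1 : Nat.gcd 2 (q - 1) ∣ q + 1 := by
    have h1 : Nat.gcd 2 (q - 1) ∣ 2 := Nat.gcd_dvd_left _ _
    have h3 : Nat.gcd 2 (q - 1) ∣ q - 1 := Nat.gcd_dvd_right _ _
    have : q + 1 = (q - 1) + 2 := by omega
    rw [this]
    exact dvd_add h3 h1
  by_cases hne : sl2NoEig X
  · right; right
    apply orderOf_dvd_of_pow_eq_one
    apply key _ _ _ hqp1
    have hmem : X ∈ sl2T X := by
      rw [sl2T, Subgroup.mem_centralizer_singleton_iff]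
    have h1 := pow_card_eq_one' (x := (⟨X, hmem⟩ : sl2T X))
    rw [card_centralizer_noEig hne] at h1
    exact congrArg Subtype.val h1
  · by_cases ht : trS X ^ 2 = 4
    · left
      apply orderOf_dvd_of_pow_eq_one
      rw [psl_mk_pow_eq_one]
      rcases hcf with ⟨hp2, h2, _, _⟩ | ⟨_, h2, _, _⟩
      · subst hp2
        apply sq_mem_center_of_trS_zero
        have h4 : (4 : F) = 0 := by
          have : (4 : F) = 2 * 2 := by norm_num
          rw [this, h2, zero_mul]
        rw [h4] at ht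
        exact pow_eq_zero_iff (by norm_num) |>.mp ht
      · exact pow_char_mem_center_of_sq p X h2 ht
    · right; left
      rw [sl2NoEig_iff] at hne
      push Not at hne
      obtain ⟨r, hr⟩ := hne
      have hr0 : r ≠ 0 := by
        rintro rfl
        simp at hr
      have hr1 : trS X = r + r⁻¹ := by
        have h5 : trS X = sl2Tr X := trS_eq_trace X
        rw [h5]
        field_simp
        linear_combination -hr
      let u : Fˣ := Units.mk0 r hr0
      have hD : trS (sl2D u) = trS X := by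
        rw [hr1]
        simp [trS, u]
      have hrep : ∀ δ : F, δ ≠ 0 → ∃ x y : F, x * x + trS X * x * y + y * y = δ := by
        intro δ _
        rcases hcf with ⟨hp2, _, _, _⟩ | ⟨_, _, hodd, _⟩
        · subst hp2
          exact form_surj_two _ δ
        · exact form_surj_odd hodd _ ht δ
      have hconj := isConj_of_trS_eq X (sl2D u) (not_scalar_of_trS X ht)
        (not_scalar_of_trS _ (by rw [hD]; exact ht)) hD hrep
      obtain ⟨y, hy⟩ := isConj_iff.mp hconj
      apply orderOf_dvd_of_pow_eq_one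
      apply key
      · have hDq : (sl2D u) ^ (q - 1) = 1 := by
          rw [sl2D_pow]
          have : u ^ (q - 1) = 1 := by
            have := FiniteField.pow_card_sub_one_eq_one (K := F) r hr0
            ext
            simpa [u] using this
          rw [this]
          apply sl2_ext <;> simp
        rw [← hy, conj_pow, hDq]
        simp
      · exact Nat.gcd_dvd_right _ _

/-- Existence of the element orders. -/
theorem psl2_order_exists (p : ℕ) [Fact p.Prime] [CharP F p] (hq4 : 4 ≤ Fintype.card F) (m : ℕ)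
    (hm : m ∣ p ∨ m ∣ (Fintype.card F - 1) / Nat.gcd 2 (Fintype.card F - 1) ∨
      m ∣ (Fintype.card F + 1) / Nat.gcd 2 (Fintype.card F - 1)) :
    ∃ x : Matrix.ProjectiveSpecialLinearGroup (Fin 2) F, orderOf x = m := by
  classical
  have hp' : p.Prime := Fact.out
  have hcf := char_facts (F := F) p
  set q := Fintype.card F with hq
  have himg : ∀ (c : SL2 F) (n : ℕ), orderOf c = n → 0 < n → Nat.gcd 2 (q - 1) ∣ n →
      (Even n → Nat.gcd 2 (q - 1) = 2) →
      orderOf (c : Matrix.ProjectiveSpecialLinearGroup (Fin 2) F) = n / Nat.gcd 2 (q - 1) := by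
    intro c n hc hn0 hd he
    rcases hcf with ⟨_, _, _, hg⟩ | ⟨_, h2, _, hg⟩
    · rw [hg, Nat.div_one]
      apply orderOf_mk_odd c n hc
      rcases Nat.even_or_odd n with h | h
      · rw [he h] at hg
        omega
      · exact h
    · rw [hg] at hd ⊢
      apply orderOf_mk_even h2
      rw [hc, Nat.mul_div_cancel' hd]
  rcases hm with hm | hm | hm
  · rcases (Nat.dvd_prime hp').mp hm with rfl | rfl
    · exact ⟨1, orderOf_one⟩
    · refine ⟨((sl2U 1 : SL2 F) : Matrix.ProjectiveSpecialLinearGroup (Fin 2) F), ?_⟩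
      apply orderOf_eq_prime
      · rw [psl_mk_pow_eq_one, sl2U_pow]
        have : ((m : ℕ) : F) = 0 := CharP.cast_eq_zero F m
        rw [this, zero_mul, sl2U_zero]
        exact one_mem _
      · intro h
        have h1 : sl2U (1 : F) ∈ Subgroup.center (SL2 F) := (QuotientGroup.eq_one_iff _).mp h
        obtain ⟨z1, _, _, _⟩ := center_sq _ h1
        simp at z1
  · haveI hcyc : IsCyclic (sl2Diag F) := isCyclic_sl2Diag
    obtain ⟨d, hd⟩ := IsCyclic.exists_ofOrder_eq_natCard (α := sl2Diag F)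
    rw [card_sl2Diag] at hd
    have hd' : orderOf (d : SL2 F) = q - 1 := by rw [Subgroup.orderOf_coe, hd]
    have h1 := himg d (q - 1) hd' (by omega) (Nat.gcd_dvd_right _ _) (by
      intro he
      rcases hcf with ⟨_, _, he', _⟩ | ⟨_, _, _, hg⟩
      · exfalso
        obtain ⟨a, ha⟩ := he
        obtain ⟨b, hb⟩ := he'
        omega
      · exact hg)
    rw [← h1] at hm
    refine exists_orderOf_of_dvd _ ?_ hm
    rw [h1]
    apply Nat.div_pos
    · have : Nat.gcd 2 (q - 1) ≤ 2 := Nat.le_of_dvd (by norm_num) (Nat.gcd_dvd_left _ _)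
      omega
    · exact Nat.gcd_pos_of_pos_left _ (by norm_num)
  · obtain ⟨g, hg⟩ := exists_sl2NoEig (F := F)
    haveI hcyc := isCyclic_centralizer_noEig hg
    obtain ⟨d, hd⟩ := IsCyclic.exists_ofOrder_eq_natCard (α := Subgroup.centralizer ({g} : Set (SL2 F)))
    rw [card_centralizer_noEig hg] at hd
    have hd' : orderOf (d : SL2 F) = q + 1 := by rw [Subgroup.orderOf_coe, hd]
    have hqp1 : Nat.gcd 2 (q - 1) ∣ q + 1 := by
      have h1 : Nat.gcd 2 (q - 1) ∣ 2 := Nat.gcd_dvd_left _ _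
      have h3 : Nat.gcd 2 (q - 1) ∣ q - 1 := Nat.gcd_dvd_right _ _
      have : q + 1 = (q - 1) + 2 := by omega
      rw [this]
      exact dvd_add h3 h1
    have h1 := himg d (q + 1) hd' (by omega) hqp1 (by
      intro he
      rcases hcf with ⟨_, _, he', _⟩ | ⟨_, _, _, hg⟩
      · exfalso
        obtain ⟨a, ha⟩ := he
        obtain ⟨b, hb⟩ := he'
        omega
      · exact hg)
    rw [← h1] at hm
    refine exists_orderOf_of_dvd _ ?_ hm
    rw [h1]
    apply Nat.div_pos
    · have : Nat.gcd 2 (q - 1) ≤ 2 := Nat.le_of_dvd (by norm_num) (Nat.gcd_dvd_left _ _)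
      omega
    · exact Nat.gcd_pos_of_pos_left _ (by norm_num)

end Cfsg.Agent.Lib.Known
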