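import Cfsg.Agent.Lib.Known.PSpPG3

/-!
# Constructing elements of `Sp_{2n}(q)` of given orders
-/

set_option autoImplicit false
set_option linter.unusedVariables false
set_option linter.unusedSectionVars false
set_option linter.unusedSimpArgs false

namespace Cfsg.Agent.Lib.Known.PSpPG

open Polynomial Module Matrix Cfsg.Agent.Lib.Known.PG Cfsg.Agent.Lib.EigCount Cfsg.Agent.Lib.Classical Cfsg.Agent.Lib.KnownSimple

section Embed

variable {F : Type*} [Field F]

/-- The block embedding of a product of symplectic groups. -/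
theorem exists_prod_embed (a b n : ℕ) (h : a + b = n) :
    ∃ φ : (Matrix.symplecticGroup (Fin a) F × Matrix.symplecticGroup (Fin b) F) →* Matrix.symplecticGroup (Fin n) F,
      Function.Injective φ := by
  let V₁ := Fin a ⊕ Fin a → F
  let V₂ := Fin b ⊕ Fin b → F
  let e₁ : Matrix.symplecticGroup (Fin a) F →* (V₁ ≃ₗ[F] V₁) :=
    (pres (Cfsg.sympForm a F)).subtype.comp (spEquivPres a).toMonoidHom
  let e₂ : Matrix.symplecticGroup (Fin b) F →* (V₂ ≃ₗ[F] V₂) :=
    (pres (Cfsg.sympForm b F)).subtype.comp (spEquivPres b).toMonoidHom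
  have he₁ : ∀ g u v, Cfsg.sympForm a F (e₁ g u) (e₁ g v) = Cfsg.sympForm a F u v := fun g => (spEquivPres a g).2
  have he₂ : ∀ g u v, Cfsg.sympForm b F (e₂ g u) (e₂ g v) = Cfsg.sympForm b F u v := fun g => (spEquivPres b g).2
  have hi₁ : Function.Injective e₁ := by
    intro x y hxy
    exact (spEquivPres a).injective (Subtype.ext hxy)
  have hi₂ : Function.Injective e₂ := by
    intro x y hxy
    exact (spEquivPres b).injective (Subtype.ext hxy)
  let ρ : (Matrix.symplecticGroup (Fin a) F × Matrix.symplecticGroup (Fin b) F) →* ((V₁ × V₂) ≃ₗ[F] (V₁ × V₂)) :=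
    { toFun := fun z => LinearEquiv.prodCongr (e₁ z.1) (e₂ z.2)
      map_one' := by
        apply LinearEquiv.ext
        rintro ⟨u, v⟩
        simp [map_one]
      map_mul' := by
        intro x y
        apply LinearEquiv.ext
        rintro ⟨u, v⟩
        simp [map_mul] }
  have hρ : Function.Injective ρ := by
    intro x y hxy
    apply Prod.ext
    · apply hi₁
      apply LinearEquiv.ext
      intro u
      have := LinearEquiv.congr_fun hxy (u, 0)
      exact congrArg Prod.fst this
    · apply hi₂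
      apply LinearEquiv.ext
      intro u
      have := LinearEquiv.congr_fun hxy (0, u)
      exact congrArg Prod.snd this
  let B : LinearMap.BilinForm F (V₁ × V₂) :=
    (sympBil a F).compl₁₂ (LinearMap.fst F V₁ V₂) (LinearMap.fst F V₁ V₂) +
      (sympBil b F).compl₁₂ (LinearMap.snd F V₁ V₂) (LinearMap.snd F V₁ V₂)
  have hB : ∀ u v, B u v = Cfsg.sympForm a F u.1 v.1 + Cfsg.sympForm b F u.2 v.2 := fun u v => rfl
  have hA : B.IsAlt := by
    intro u
    rw [hB, sympForm_self, sympForm_self, add_zero]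
  have hnd : ∀ v, (∀ w, B v w = 0) → v = 0 := by
    rintro ⟨u, v⟩ hv
    apply Prod.ext
    · apply form_nd
      intro w
      have := hv (w, 0)
      rw [hB] at this
      have h0 : Cfsg.sympForm b F v (0 : V₂) = 0 := by
        rw [← sympBil_apply]
        exact map_zero _
      change Cfsg.sympForm a F u w + Cfsg.sympForm b F v 0 = 0 at this
      rw [h0, add_zero] at this
      exact this
    · apply form_nd
      intro w
      have := hv (0, w)
      rw [hB] at this
      have h0 : Cfsg.sympForm a F u (0 : V₁) = 0 := by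
        rw [← sympBil_apply]
        exact map_zero _
      change Cfsg.sympForm a F u 0 + Cfsg.sympForm b F v w = 0 at this
      rw [h0, zero_add] at this
      exact this
  have hdim : finrank F (V₁ × V₂) = 2 * n := by
    have h1 : finrank F V₁ = 2 * a := finrank_VV
    have h2 : finrank F V₂ = 2 * b := finrank_VV
    rw [Module.finrank_prod, h1, h2, ← h]
    ring
  obtain ⟨Ψ, hΨ⟩ := Cfsg.Agent.Lib.Embed.exists_sp_equiv B hA hnd hdim
  exact Cfsg.Agent.Lib.Embed.exists_sp_embed ρ hρ Ψ (fun u v => B u v) hΨ (by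
    rintro g ⟨u₁, u₂⟩ ⟨v₁, v₂⟩
    change Cfsg.sympForm a F (e₁ g.1 u₁) (e₁ g.1 v₁) + Cfsg.sympForm b F (e₂ g.2 u₂) (e₂ g.2 v₂) = _
    rw [he₁, he₂]
    rfl)

/-- Commuting blocks of coprime orders. -/
theorem exists_block_order (a b n : ℕ) (h : a + b = n) (x : Matrix.symplecticGroup (Fin a) F)
    (y : Matrix.symplecticGroup (Fin b) F) (hc : Nat.Coprime (orderOf x) (orderOf y)) :
    ∃ z : Matrix.symplecticGroup (Fin n) F, orderOf z = orderOf x * orderOf y := by
  obtain ⟨φ, hφ⟩ := exists_prod_embed (F := F) a b n h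
  refine ⟨φ (x, y), ?_⟩
  rw [orderOf_injective φ hφ, Prod.orderOf_mk, hc.lcm_eq_mul]

variable {V : Type*} [AddCommGroup V] [Module F V] [FiniteDimensional F V]

/-- An isometry of an abstract symplectic space as a symplectic matrix. -/
theorem exists_sp_of_iso (B : LinearMap.BilinForm F V) (hA : B.IsAlt) (hnd : ∀ v, (∀ w, B v w = 0) → v = 0) {m : ℕ}
    (hdim : finrank F V = 2 * m) (T : Module.End F V) (hT : ∀ u v, B (T u) (T v) = B u v) :
    ∃ g : Matrix.symplecticGroup (Fin m) F, ∀ j : ℕ, g ^ j = 1 ↔ T ^ j = 1 := by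
  obtain ⟨Ψ, hΨ⟩ := Cfsg.Agent.Lib.Embed.exists_sp_equiv B hA hnd hdim
  let L : Module.End F (Fin m ⊕ Fin m → F) := Ψ.symm.toLinearMap ∘ₗ T ∘ₗ Ψ.toLinearMap
  have hL : ∀ x, Ψ (L x) = T (Ψ x) := fun x => by simp [L]
  have hLpow : ∀ (j : ℕ) (x : Fin m ⊕ Fin m → F), Ψ ((L ^ j) x) = (T ^ j) (Ψ x) := by
    intro j
    induction j with
    | zero => simp
    | succ j ih =>
      intro x
      rw [pow_succ, pow_succ, Module.End.mul_apply, Module.End.mul_apply, ih, hL]
  have hM : LinearMap.toMatrix' L ∈ Matrix.symplecticGroup (Fin m) F := by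
    apply mem_sp_of_preserves
    intro u v
    rw [LinearMap.toMatrix'_mulVec, LinearMap.toMatrix'_mulVec, ← hΨ, hL, hL, hT, hΨ]
  refine ⟨⟨_, hM⟩, fun j => ?_⟩
  have hcoe : ∀ j : ℕ, Matrix.toLin' (((⟨_, hM⟩ : Matrix.symplecticGroup (Fin m) F) ^ j : Matrix.symplecticGroup (Fin m) F) :
      Matrix (Fin m ⊕ Fin m) (Fin m ⊕ Fin m) F) = L ^ j := by
    intro j
    rw [SubmonoidClass.coe_pow, Matrix.toLin'_pow, Matrix.toLin'_toMatrix']
  constructor
  · intro h
    have h1 := hcoe j
    rw [h] at h1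
    have h2 : L ^ j = 1 := by
      rw [← h1]
      change Matrix.toLin' (1 : Matrix (Fin m ⊕ Fin m) (Fin m ⊕ Fin m) F) = 1
      rw [Matrix.toLin'_one]
      rfl
    apply LinearMap.ext
    intro v
    have h3 := hLpow j (Ψ.symm v)
    rw [h2] at h3
    simpa using h3.symm
  · intro h
    apply Subtype.ext
    have h1 := hcoe j
    have h2 : L ^ j = 1 := by
      apply LinearMap.ext
      intro x
      apply Ψ.injective
      rw [hLpow, h]
      rfl
    rw [h2] at h1
    apply Matrix.toLin'.injective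
    rw [h1]
    change (1 : Module.End F (Fin m ⊕ Fin m → F)) = Matrix.toLin' (1 : Matrix (Fin m ⊕ Fin m) (Fin m ⊕ Fin m) F)
    rw [Matrix.toLin'_one]
    rfl

end Embed

section Ext

variable {F : Type*} [Field F] [Fintype F]

/-- Elements in the "minus type" torus. -/
theorem exists_elt_even (p : ℕ) [Fact p.Prime] [CharP F p] {η N : ℕ} (hη : 1 ≤ η) (hN : N ∣ Fintype.card F ^ η + 1) (hN2 : ¬ N ∣ 2) :
    ∃ g : Matrix.symplecticGroup (Fin η) F, orderOf g = N := by
  classical
  set q := Fintype.card F with hq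
  have hq1 : 1 ≤ q ^ η := Nat.one_le_pow _ _ Fintype.card_pos
  have hd : N ∣ q ^ (2 * η) - 1 := by
    have e : q ^ (2 * η) - 1 = (q ^ η + 1) * (q ^ η - 1) := by
      have h1 : q ^ (2 * η) = q ^ η * q ^ η := by rw [two_mul, pow_add]
      rw [h1]
      obtain ⟨c, hc⟩ := Nat.exists_eq_add_of_le hq1
      rw [hc]
      simp only [Nat.add_sub_cancel_left]
      have : (1 + c) * (1 + c) - 1 = (1 + c + 1) * c := by
        have h2 : (1 + c) * (1 + c) = (1 + c + 1) * c + 1 := by ring
        omega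
      exact this
    rw [e]
    exact hN.mul_right _
  obtain ⟨K, _, _, _, u, hK, hu0, hu⟩ := exists_ext_elt (F := F) p (2 * η) N (by omega) hd
  have : FiniteDimensional F K := finiteDimensional_of_finrank hK (by omega)
  have : Finite K := inferInstance
  obtain ⟨φ, hφ⟩ : ∃ φ : K ≃ₐ[F] K, φ = FiniteField.frobeniusAlgEquivOfAlgebraic F K ^ η := ⟨_, rfl⟩
  have hφx : ∀ x, φ x = x ^ (q ^ η) := by
    intro x
    rw [hφ]
    simp only [AlgEquiv.coe_pow]
    rw [FiniteField.coe_frobeniusAlgEquivOfAlgebraic_iterate]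
  have hcard : Fintype.card K = q ^ (2 * η) := by
    rw [Module.card_eq_pow_finrank (K := F) (V := K), hK]
  have hφφ : ∀ x, φ (φ x) = x := by
    intro x
    rw [hφx, hφx, ← pow_mul, ← pow_add, ← two_mul, ← hcard]
    exact FiniteField.pow_card x
  have hφu : u * φ u = 1 := by
    rw [hφx, ← pow_one u, ← pow_mul, one_mul, ← pow_add, add_comm]
    rw [← hu] at hN
    exact orderOf_dvd_iff_pow_eq_one.1 hN
  have hc0 : u - φ u ≠ 0 := by
    intro h
    have h1 : u = φ u := sub_eq_zero.1 h
    rw [← h1] at hφu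
    have h2 : u ^ 2 = 1 := by rw [pow_two, hφu]
    apply hN2
    rw [← hu]
    exact orderOf_dvd_of_pow_eq_one h2
  obtain ⟨c, hc⟩ : ∃ c, c = u - φ u := ⟨_, rfl⟩
  rw [← hc] at hc0
  let B : LinearMap.BilinForm F K := LinearMap.mk₂ F (fun x y => Algebra.trace F K (c * x * φ y))
    (fun a a' w => by simp [mul_add, add_mul, map_add])
    (fun t a w => by
      rw [show c * t • a * φ w = t • (c * a * φ w) by rw [mul_smul_comm, smul_mul_assoc]]
      simp)
    (fun a w w' => by simp [mul_add, add_mul, map_add])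
    (fun t a w => by
      rw [show c * a * φ (t • w) = t • (c * a * φ w) by rw [map_smul, mul_smul_comm]]
      simp)
  have hB : ∀ x y, B x y = Algebra.trace F K (c * x * φ y) := fun x y => rfl
  have htr : ∀ x, Algebra.trace F K (φ x) = Algebra.trace F K x := fun x => Algebra.trace_eq_of_algEquiv φ x
  have hA : B.IsAlt := by
    intro x
    rw [hB, hc]
    have h1 : (u - φ u) * x * φ x = u * (x * φ x) - φ (u * (x * φ x)) := by
      rw [map_mul, map_mul, hφφ]
      ring
    rw [h1, map_sub, htr, sub_self]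
  have hnd : ∀ v, (∀ w, B v w = 0) → v = 0 := by
    intro x hx
    have h1 : ∀ z, Algebra.trace F K ((c * x) * z) = 0 := by
      intro z
      have := hx (φ z)
      rwa [hB, hφφ] at this
    have h2 : c * x = 0 := (traceForm_nondegenerate F K).1 (c * x) fun z => h1 z
    exact (mul_eq_zero.1 h2).resolve_left hc0
  have hT : ∀ x y, B (LinearMap.mulLeft F u x) (LinearMap.mulLeft F u y) = B x y := by
    intro x y
    change Algebra.trace F K (c * (u * x) * φ (u * y)) = _
    rw [hB]
    congr 1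
    rw [map_mul]
    calc c * (u * x) * (φ u * φ y) = c * x * φ y * (u * φ u) := by ring
      _ = c * x * φ y := by rw [hφu, mul_one]
  obtain ⟨g, hg⟩ := exists_sp_of_iso B hA hnd hK (LinearMap.mulLeft F u) hT
  refine ⟨g, ?_⟩
  have hmul : ∀ j : ℕ, g ^ j = 1 ↔ u ^ j = 1 := by
    intro j
    rw [hg, LinearMap.pow_mulLeft]
    constructor
    · intro h
      have := LinearMap.congr_fun h 1
      simpa using this
    · intro h
      rw [h, LinearMap.mulLeft_one]
      rfl
  rw [← hu]
  apply Nat.dvd_antisymm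
  · exact orderOf_dvd_of_pow_eq_one ((hmul _).2 (pow_orderOf_eq_one u))
  · exact orderOf_dvd_of_pow_eq_one ((hmul _).1 (pow_orderOf_eq_one g))

/-- Elements in the "plus type" torus. -/
theorem exists_elt_odd (p : ℕ) [Fact p.Prime] [CharP F p] {η N : ℕ} (hη : 1 ≤ η) (hN : N ∣ Fintype.card F ^ η - 1) :
    ∃ g : Matrix.symplecticGroup (Fin η) F, orderOf g = N := by
  classical
  obtain ⟨K, _, _, _, u, hK, hu0, hu⟩ := exists_ext_elt (F := F) p η N hη hN
  have : FiniteDimensional F K := finiteDimensional_of_finrank hK hη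
  let B : LinearMap.BilinForm F (K × K) := LinearMap.mk₂ F
    (fun x y => Algebra.trace F K (x.1 * y.2) - Algebra.trace F K (x.2 * y.1))
    (fun a a' w => by simp [add_mul, map_add]; ring)
    (fun t a w => by simp [smul_mul_assoc, map_smul]; ring)
    (fun a w w' => by simp [mul_add, map_add]; ring)
    (fun t a w => by simp [mul_smul_comm, map_smul]; ring)
  have hB : ∀ x y : K × K, B x y = Algebra.trace F K (x.1 * y.2) - Algebra.trace F K (x.2 * y.1) := fun x y => rfl
  have hA : B.IsAlt := by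
    intro x
    rw [hB, mul_comm x.2 x.1, sub_self]
  have hnd : ∀ v, (∀ w, B v w = 0) → v = 0 := by
    rintro ⟨x₁, x₂⟩ hx
    apply Prod.ext
    · apply (traceForm_nondegenerate F K).1
      intro z
      have := hx (0, z)
      rw [hB] at this
      simpa using this
    · apply (traceForm_nondegenerate F K).1
      intro z
      have := hx (z, 0)
      rw [hB] at this
      simpa using this
  let T : Module.End F (K × K) := LinearMap.prodMap (LinearMap.mulLeft F u) (LinearMap.mulLeft F u⁻¹)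
  have hTv : ∀ x : K × K, T x = (u * x.1, u⁻¹ * x.2) := fun x => rfl
  have hT : ∀ x y, B (T x) (T y) = B x y := by
    intro x y
    rw [hTv, hTv, hB, hB]
    dsimp only
    have e1 : u * x.1 * (u⁻¹ * y.2) = x.1 * y.2 := by field_simp
    have e2 : u⁻¹ * x.2 * (u * y.1) = x.2 * y.1 := by field_simp
    rw [e1, e2]
  have hdim : finrank F (K × K) = 2 * η := by
    rw [Module.finrank_prod, hK]
    ring
  obtain ⟨g, hg⟩ := exists_sp_of_iso B hA hnd hdim T hT
  refine ⟨g, ?_⟩
  have hTpow : ∀ (j : ℕ) (x : K × K), (T ^ j) x = (u ^ j * x.1, (u⁻¹) ^ j * x.2) := by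
    intro j
    induction j with
    | zero => simp
    | succ j ih =>
      intro x
      rw [pow_succ, Module.End.mul_apply, ih, hTv]
      apply Prod.ext
      · dsimp only
        rw [pow_succ]
        ring
      · dsimp only
        rw [pow_succ]
        ring
  have hmul : ∀ j : ℕ, g ^ j = 1 ↔ u ^ j = 1 := by
    intro j
    rw [hg]
    constructor
    · intro h
      have h1 := LinearMap.congr_fun h (1, 1)
      rw [hTpow] at h1
      have h2 := congrArg Prod.fst h1
      simpa using h2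
    · intro h
      apply LinearMap.ext
      intro x
      rw [hTpow, inv_pow, h]
      simp
  rw [← hu]
  apply Nat.dvd_antisymm
  · exact orderOf_dvd_of_pow_eq_one ((hmul _).2 (pow_orderOf_eq_one u))
  · exact orderOf_dvd_of_pow_eq_one ((hmul _).1 (pow_orderOf_eq_one g))

theorem exists_order_of_prime {m η r : ℕ} [Fact r.Prime] (hη1 : 1 ≤ η) (hηm : η ≤ m)
    (hk : Conv (orderOf ((Fintype.card F : ℕ) : ZMod r)) η) :
    ∃ x : Matrix.symplecticGroup (Fin m) F, orderOf x = r := by
  have hdk : orderOf ((Fintype.card F : ℕ) : ZMod r) ∣ 2 * η := by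
    rcases hk with ⟨_, h⟩ | ⟨_, h⟩
    · rw [← h]
      exact dvd_mul_left _ _
    · rw [h]
  have h1 : r ∣ Fintype.card F ^ (2 * η) - 1 := (dvd_pow_sub_one_iff (F := F) (2 * η)).2 hdk
  have h2 : r ∣ Nat.card (Matrix.symplecticGroup (Fin m) F) := by
    rw [card_sp rfl m]
    apply Dvd.dvd.mul_left
    have h3 : η - 1 ∈ Finset.range m := Finset.mem_range.2 (by omega)
    have h4 := Finset.dvd_prod_of_mem (fun i => Fintype.card F ^ (2 * (i + 1)) - 1) h3
    rw [Nat.sub_add_cancel hη1] at h4
    exact h1.trans h4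
  exact exists_prime_orderOf_dvd_card' r h2

theorem exists_order_p (p : ℕ) [Fact p.Prime] [CharP F p] : ∃ x : Matrix.symplecticGroup (Fin 1) F, orderOf x = p := by
  have h2 : p ∣ Nat.card (Matrix.symplecticGroup (Fin 1) F) := by
    rw [card_sp rfl 1]
    apply Dvd.dvd.mul_right
    simpa using p_dvd_card (F := F) p
  exact exists_prime_orderOf_dvd_card' p h2

theorem half_dvd {r η : ℕ} [Fact r.Prime] (h0 : 0 < η) (h : 2 * η = orderOf ((Fintype.card F : ℕ) : ZMod r)) :
    r ∣ Fintype.card F ^ η + 1 := by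
  set x := ((Fintype.card F : ℕ) : ZMod r) with hx
  have h1 : (x ^ η) ^ 2 = 1 := by
    rw [← pow_mul, mul_comm, h]
    exact pow_orderOf_eq_one x
  have h2 : (x ^ η - 1) * (x ^ η + 1) = 0 := by
    linear_combination h1
  rcases mul_eq_zero.1 h2 with h3 | h3
  · exfalso
    have h4 : orderOf x ∣ η := orderOf_dvd_of_pow_eq_one (sub_eq_zero.1 h3)
    rw [← h] at h4
    have := Nat.le_of_dvd h0 h4
    omega
  · rw [← ZMod.natCast_eq_zero_iff]
    push_cast
    exact h3

/-- The order of the projective element. -/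
theorem mem_range_of_sp {n N : ℕ} (hn : 1 ≤ n) (z : Matrix.symplecticGroup (Fin n) F) (hz : orderOf z = N)
    (h : Odd N ∨ (-1 : F) = 1) : N ∈ Set.range (orderOf : Cfsg.PSp n F → ℕ) := by
  refine ⟨piS n F z, ?_⟩
  rw [order_mk hn z (by rwa [hz]), hz]

end Ext

section Main

variable {F : Type*} [Field F] [Fintype F] (p : ℕ) [Fact p.Prime] [CharP F p]

/-- Adjacency of a prime and the characteristic. -/
theorem adj_rp (n : ℕ) (hn : 2 ≤ n) (r : ℕ) (hr : r.Prime) (hr2 : r ≠ 2) (hrp : r ≠ p) (ηk : ℕ)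
    (hηk : Conv (orderOf ((Fintype.card F : ℕ) : ZMod r)) ηk) :
    (r * p ∉ Set.range (orderOf : Cfsg.PSp n F → ℕ)) ↔ n - 1 < ηk := by
  have : Fact r.Prime := ⟨hr⟩
  have hppr : p.Prime := Fact.out
  have hk0 : 0 < orderOf ((Fintype.card F : ℕ) : ZMod r) := order_pos' (p := p) rfl hr hrp
  have hη1 : 1 ≤ ηk := by
    rcases hηk with ⟨_, h⟩ | ⟨_, h⟩ <;> omega
  constructor
  · intro h
    by_contra hle
    apply h
    obtain ⟨x, hx⟩ := exists_order_of_prime (F := F) (m := n - 1) hη1 (by omega) hηk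
    obtain ⟨t, ht⟩ := exists_order_p (F := F) p
    obtain ⟨z, hz⟩ := exists_block_order (n - 1) 1 n (by omega) x t (by
      rw [hx, ht]
      exact (Nat.coprime_primes hr hppr).2 hrp)
    rw [hx, ht] at hz
    refine mem_range_of_sp (by omega) z hz ?_
    by_cases hp2 : p = 2
    · exact Or.inr (neg_one_of_two (p := p) hp2)
    · exact Or.inl ((hr.odd_of_ne_two hr2).mul (hppr.odd_of_ne_two hp2))
  · rintro h ⟨a, ha⟩
    have := no_rp_elt (p := p) (by omega : 1 ≤ n) hrp hr2 a ha hηk
    omega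

theorem eta_le_of_dvd {n s ηl : ℕ} (hs : s.Prime) (hsp : s ≠ p) (hsG : s ∣ Nat.card (Cfsg.PSp n F))
    (hl : Conv (orderOf ((Fintype.card F : ℕ) : ZMod s)) ηl) : ηl ≤ n := by
  have : Fact s.Prime := ⟨hs⟩
  have hl0 : 0 < orderOf ((Fintype.card F : ℕ) : ZMod s) := order_pos' (p := p) rfl hs hsp
  have h1 : s ∣ Nat.card (Matrix.symplecticGroup (Fin n) F) := by
    refine hsG.trans ?_
    exact Subgroup.card_quotient_dvd_card _
  rw [card_sp rfl n] at h1
  rcases (Nat.Prime.dvd_mul hs).1 h1 with h2 | h2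
  · exfalso
    have h3 := hs.dvd_of_dvd_pow h2
    have h4 : ((Fintype.card F : ℕ) : ZMod s) ≠ 0 := cast_card_ne_zero p hsp
    exact h4 ((ZMod.natCast_eq_zero_iff _ _).2 h3)
  · obtain ⟨i, hi, hd⟩ := (Prime.dvd_finset_prod_iff hs.prime _).1 h2
    have h3 := (dvd_pow_sub_one_iff (F := F) (2 * (i + 1))).1 hd
    have hi' : i < n := Finset.mem_range.1 hi
    rcases hl with ⟨h4, h5⟩ | ⟨h4, h5⟩
    · have h6 : Nat.Coprime (orderOf ((Fintype.card F : ℕ) : ZMod s)) 2 :=
        Nat.coprime_comm.1 (Nat.coprime_two_left.2 h4)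
      have h7 := h6.dvd_of_dvd_mul_left h3
      have := Nat.le_of_dvd (by omega) h7
      omega
    · rw [← h5] at h3
      have h7 : ηl ∣ i + 1 := Nat.dvd_of_mul_dvd_mul_left (by norm_num) h3
      have := Nat.le_of_dvd (by omega) h7
      omega

/-- Adjacency of two odd primes. -/
theorem adj_rs (n : ℕ) (hn : 2 ≤ n) (r s : ℕ) (hr : r.Prime) (hs : s.Prime) (hr2 : r ≠ 2) (hs2 : s ≠ 2) (hrp : r ≠ p)
    (hsp : s ≠ p) (hrs : r ≠ s) (hsG : s ∣ Nat.card (Cfsg.PSp n F)) (ηk ηl : ℕ)
    (hk : Conv (orderOf ((Fintype.card F : ℕ) : ZMod r)) ηk) (hl : Conv (orderOf ((Fintype.card F : ℕ) : ZMod s)) ηl)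
    (hkl : ηk ≤ ηl) :
    (r * s ∉ Set.range (orderOf : Cfsg.PSp n F → ℕ)) ↔
      (n < ηk + ηl ∧ ¬ ∃ t : ℕ, Odd t ∧ orderOf ((Fintype.card F : ℕ) : ZMod s) = orderOf ((Fintype.card F : ℕ) : ZMod r) * t) := by
  have : Fact r.Prime := ⟨hr⟩
  have : Fact s.Prime := ⟨hs⟩
  have hk0 : 0 < orderOf ((Fintype.card F : ℕ) : ZMod r) := order_pos' (p := p) rfl hr hrp
  have hl0 : 0 < orderOf ((Fintype.card F : ℕ) : ZMod s) := order_pos' (p := p) rfl hs hsp
  have hη1 : 1 ≤ ηk := by
    rcases hk with ⟨_, h⟩ | ⟨_, h⟩ <;> omega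
  have hη2 : 1 ≤ ηl := by
    rcases hl with ⟨_, h⟩ | ⟨_, h⟩ <;> omega
  have hodd : Odd (r * s) := (hr.odd_of_ne_two hr2).mul (hs.odd_of_ne_two hs2)
  have hcop : Nat.Coprime r s := (Nat.coprime_primes hr hs).2 hrs
  have hηln : ηl ≤ n := eta_le_of_dvd p hs hsp hsG hl
  constructor
  · intro h
    constructor
    · by_contra hle
      apply h
      obtain ⟨x, hx⟩ := exists_order_of_prime (F := F) (m := ηk) hη1 le_rfl hk
      obtain ⟨y, hy⟩ := exists_order_of_prime (F := F) (m := n - ηk) hη2 (by omega) hl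
      obtain ⟨z, hz⟩ := exists_block_order ηk (n - ηk) n (by omega) x y (by rwa [hx, hy])
      rw [hx, hy] at hz
      exact mem_range_of_sp (by omega) z hz (Or.inl hodd)
    · rintro ⟨t, ht, hlt⟩
      apply h
      obtain ⟨g, hg⟩ : ∃ g : Matrix.symplecticGroup (Fin ηl) F, orderOf g = r * s := by
        rcases Nat.even_or_odd (orderOf ((Fintype.card F : ℕ) : ZMod s)) with hle | hlo
        · have h2l : 2 * ηl = orderOf ((Fintype.card F : ℕ) : ZMod s) := by
            rcases hl with ⟨h1, _⟩ | ⟨_, h1⟩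
            · exact absurd hle (Nat.not_even_iff_odd.2 h1)
            · exact h1
          have hke : Even (orderOf ((Fintype.card F : ℕ) : ZMod r)) := by
            rw [hlt] at hle
            rcases Nat.even_mul.1 hle with h1 | h1
            · exact h1
            · exact absurd h1 (Nat.not_even_iff_odd.2 ht)
          have h2k : 2 * ηk = orderOf ((Fintype.card F : ℕ) : ZMod r) := by
            rcases hk with ⟨h1, _⟩ | ⟨_, h1⟩
            · exact absurd hke (Nat.not_even_iff_odd.2 h1)
            · exact h1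
          have hηt : ηl = ηk * t := by
            have : 2 * ηl = 2 * (ηk * t) := by
              rw [h2l, hlt, ← h2k]
              ring
            omega
          have hrd : r ∣ Fintype.card F ^ ηl + 1 := by
            have h1 := half_dvd (F := F) (r := r) (by omega) h2k
            refine h1.trans ?_
            rw [hηt, pow_mul]
            have := ht.nat_add_dvd_pow_add_pow (Fintype.card F ^ ηk) 1
            simpa using this
          have hsd : s ∣ Fintype.card F ^ ηl + 1 := half_dvd (F := F) (r := s) (by omega) h2l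
          refine exists_elt_even (F := F) p hη2 (hcop.mul_dvd_of_dvd_of_dvd hrd hsd) ?_
          intro h2
          have h3 : r ∣ 2 := (Dvd.intro s rfl).trans h2
          exact hr2 ((Nat.prime_dvd_prime_iff_eq hr Nat.prime_two).1 h3)
        · have h1l : ηl = orderOf ((Fintype.card F : ℕ) : ZMod s) := by
            rcases hl with ⟨_, h1⟩ | ⟨h1, _⟩
            · exact h1
            · exact absurd h1 (Nat.not_even_iff_odd.2 hlo)
          have hrd : r ∣ Fintype.card F ^ ηl - 1 := by
            apply (dvd_pow_sub_one_iff (F := F) ηl).2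
            rw [h1l, hlt]
            exact dvd_mul_right _ _
          have hsd : s ∣ Fintype.card F ^ ηl - 1 := by
            apply (dvd_pow_sub_one_iff (F := F) ηl).2
            rw [h1l]
          exact exists_elt_odd (F := F) p hη2 (hcop.mul_dvd_of_dvd_of_dvd hrd hsd)
      obtain ⟨z, hz⟩ := exists_block_order ηl (n - ηl) n (by omega) g (1 : Matrix.symplecticGroup (Fin (n - ηl)) F) (by
        rw [orderOf_one]
        exact Nat.coprime_one_right _)
      rw [hg, orderOf_one, mul_one] at hz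
      exact mem_range_of_sp (by omega) z hz (Or.inl hodd)
  · rintro ⟨h1, h2⟩ ⟨a, ha⟩
    exact h2 (no_rs_elt (p := p) (by omega : 1 ≤ n) hrp hsp hrs hr2 hs2 a ha hk hl hkl h1)

end Main

end Cfsg.Agent.Lib.Known.PSpPG
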