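import Cfsg.Agent.Lib.Known.MulCharDual
import Cfsg.Agent.Lib.Char.MGroup
import Cfsg.Agent.Lib.Classical.SLVec

/-!
# The Weil characters of `SL_n(q)`: counting
-/

set_option autoImplicit false
set_option linter.unusedVariables false
set_option linter.unusedSectionVars false
set_option linter.unusedSimpArgs false

namespace Cfsg.Agent.Lib.Known.Weil

open Matrix Cfsg Cfsg.Agent.Lib.Char Cfsg.Agent.Lib.Known
open scoped ComplexConjugate

section orbit

/-- Fibres of an orbit map. -/
theorem count_of_trans {G Y : Type*} [Group G] [Fintype G] [DecidableEq Y] (act : G → Y → Y)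
    (h1 : ∀ y, act 1 y = y) (hm : ∀ g h y, act (g * h) y = act g (act h y)) (S : Finset Y)
    (hS : ∀ y ∈ S, ∀ g, act g y ∈ S) (htr : ∀ y ∈ S, ∀ y' ∈ S, ∃ g, act g y = y') {y y' : Y} (hy : y ∈ S)
    (hy' : y' ∈ S) :
    (Finset.univ.filter (fun g => act g y = y')).card * S.card = Fintype.card G := by
  classical
  have hsame : ∀ z ∈ S, (Finset.univ.filter (fun g => act g y = z)).card =
      (Finset.univ.filter (fun g => act g y = y')).card := by
    intro z hz
    obtain ⟨a, ha⟩ := htr y' hy' z hz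
    apply Finset.card_bij' (fun g _ => a⁻¹ * g) (fun g _ => a * g)
    · intro g hg
      simp only [Finset.mem_filter, Finset.mem_univ, true_and] at hg ⊢
      rw [hm, hg, ← ha, ← hm, inv_mul_cancel, h1]
    · intro g hg
      simp only [Finset.mem_filter, Finset.mem_univ, true_and] at hg ⊢
      rw [hm, hg, ha]
    · intros
      simp
    · intros
      simp
  have hsum : ∑ z ∈ S, (Finset.univ.filter (fun g => act g y = z)).card = Fintype.card G := by
    rw [← Finset.card_univ]
    symm
    apply Finset.card_eq_sum_card_fiberwise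
    intro g _
    exact hS y hy g
  rw [Finset.sum_congr rfl hsame, Finset.sum_const, smul_eq_mul, mul_comm] at hsum
  exact hsum

/-- Summing a function of constant product with the size of the index set. -/
theorem sum_of_mul_card_eq {Y : Type*} (S : Finset Y) (hne : S.Nonempty) (a : Y → ℕ) (T : ℕ)
    (h : ∀ y ∈ S, a y * S.card = T) : ∑ y ∈ S, a y = T := by
  have hpos : 0 < S.card := Finset.card_pos.2 hne
  apply Nat.eq_of_mul_eq_mul_right hpos
  rw [Finset.sum_mul, Finset.sum_congr rfl h, Finset.sum_const, smul_eq_mul, mul_comm]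

end orbit

variable {F : Type*} [Field F] [Fintype F] [DecidableEq F]

section trans

/-- `SL_{m+3}` sends the first two basis vectors to any independent pair. -/
theorem exists_SL_pair {m : ℕ} (v w : Fin (m + 3) → F) (hv : v ≠ 0) (hw : ∀ t : F, w ≠ t • v) :
    ∃ h : SpecialLinearGroup (Fin (m + 3)) F,
      (h : Matrix (Fin (m + 3)) (Fin (m + 3)) F) *ᵥ (Pi.single 0 1) = v ∧
      (h : Matrix (Fin (m + 3)) (Fin (m + 3)) F) *ᵥ (Pi.single 1 1) = w := by
  classical
  obtain ⟨h₁, hh₁⟩ := Cfsg.Agent.Lib.Classical.exists_SL_mulVec_single (n := m + 1) v hv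
  change (h₁ : Matrix (Fin (m + 3)) (Fin (m + 3)) F) *ᵥ (Pi.single 0 1) = v at hh₁
  have hinv : (h₁ : Matrix (Fin (m + 3)) (Fin (m + 3)) F) * ((h₁⁻¹ : SpecialLinearGroup (Fin (m + 3)) F) : Matrix (Fin (m + 3)) (Fin (m + 3)) F) = 1 :=
    congrArg Subtype.val (mul_inv_cancel h₁)
  set w₁ : Fin (m + 3) → F := ((h₁⁻¹ : SpecialLinearGroup (Fin (m + 3)) F) : Matrix (Fin (m + 3)) (Fin (m + 3)) F) *ᵥ w with hw₁
  have hw₁' : (h₁ : Matrix (Fin (m + 3)) (Fin (m + 3)) F) *ᵥ w₁ = w := by
    rw [hw₁, mulVec_mulVec, hinv, one_mulVec]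
  obtain ⟨i, hi0, hi⟩ : ∃ i : Fin (m + 3), i ≠ 0 ∧ w₁ i ≠ 0 := by
    by_contra hcon
    push Not at hcon
    apply hw (w₁ 0)
    have e : w₁ = (w₁ 0) • (Pi.single 0 1 : Fin (m + 3) → F) := by
      funext j
      by_cases hj : j = 0
      · subst hj
        simp
      · simp [hj, hcon j hj]
    rw [← hw₁', e, mulVec_smul, hh₁]
    simp
  -- make the coordinate `1` non-zero
  obtain ⟨s, hs0, hs1⟩ : ∃ s : SpecialLinearGroup (Fin (m + 3)) F,
      (s : Matrix (Fin (m + 3)) (Fin (m + 3)) F) *ᵥ (Pi.single 0 1) = Pi.single 0 1 ∧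
      ((s : Matrix (Fin (m + 3)) (Fin (m + 3)) F) *ᵥ w₁) 1 ≠ 0 := by
    by_cases h1 : w₁ 1 = 0
    · have hi1 : (1 : Fin (m + 3)) ≠ i := by
        rintro rfl
        exact hi h1
      refine ⟨SpecialLinearGroup.transvection hi1 1, ?_, ?_⟩
      · have e : (SpecialLinearGroup.transvection hi1 (1 : F)).1 = 1 + single 1 i 1 := rfl
        change (SpecialLinearGroup.transvection hi1 (1 : F)).1 *ᵥ _ = _
        rw [e, add_mulVec, one_mulVec]
        funext j
        simp [mulVec, dotProduct, single_apply, Pi.single_apply, hi0]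
      · have e : (SpecialLinearGroup.transvection hi1 (1 : F)).1 = 1 + single 1 i 1 := rfl
        change ((SpecialLinearGroup.transvection hi1 (1 : F)).1 *ᵥ _) 1 ≠ 0
        rw [e, add_mulVec, one_mulVec, Pi.add_apply, h1, zero_add]
        simpa [mulVec, dotProduct, single_apply] using hi
    · exact ⟨1, one_mulVec _, by simpa using h1⟩
  have hsinv : (s : Matrix (Fin (m + 3)) (Fin (m + 3)) F) * ((s⁻¹ : SpecialLinearGroup (Fin (m + 3)) F) : Matrix (Fin (m + 3)) (Fin (m + 3)) F) = 1 :=
    congrArg Subtype.val (mul_inv_cancel s)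
  have hsinv' : ((s⁻¹ : SpecialLinearGroup (Fin (m + 3)) F) : Matrix (Fin (m + 3)) (Fin (m + 3)) F) * (s : Matrix (Fin (m + 3)) (Fin (m + 3)) F) = 1 :=
    congrArg Subtype.val (inv_mul_cancel s)
  set c := (s : Matrix (Fin (m + 3)) (Fin (m + 3)) F) *ᵥ w₁ with hc
  set P0 := updateCol (1 : Matrix (Fin (m + 3)) (Fin (m + 3)) F) 1 c with hP0
  have hdetP0 : P0.det = c 1 := by
    have := cramer_apply (1 : Matrix (Fin (m + 3)) (Fin (m + 3)) F) c 1
    rw [cramer_one] at this
    simpa using this.symm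
  have h12 : (1 : Fin (m + 3)) ≠ 2 := by
    intro h
    have := congrArg Fin.val h
    simp at this
    rw [Nat.mod_eq_of_lt (by omega)] at this
    omega
  have h02 : (0 : Fin (m + 3)) ≠ 2 := by
    intro h
    have := congrArg Fin.val h
    simp at this
    rw [Nat.mod_eq_of_lt (by omega)] at this
    omega
  have h01 : (0 : Fin (m + 3)) ≠ 1 := by
    intro h
    have := congrArg Fin.val h
    simp at this
  let D : Fin (m + 3) → F := fun j => if j = 2 then (c 1)⁻¹ else 1
  have hdetD : (diagonal D).det = (c 1)⁻¹ := by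
    rw [det_diagonal]
    simp only [D]
    rw [Finset.prod_ite_eq']
    simp
  have hdet : (P0 * diagonal D).det = 1 := by
    rw [det_mul, hdetP0, hdetD, mul_inv_cancel₀ hs1]
  let P : SpecialLinearGroup (Fin (m + 3)) F := ⟨P0 * diagonal D, hdet⟩
  have hD0 : ∀ j : Fin (m + 3), j ≠ 2 → diagonal D *ᵥ (Pi.single j 1 : Fin (m + 3) → F) = Pi.single j 1 := by
    intro j hj
    funext k
    by_cases hk : k = j
    · subst hk
      simp [mulVec_diagonal, D, hj]
    · simp [mulVec_diagonal, hk]
  have hPe0 : P.1 *ᵥ (Pi.single 0 1) = Pi.single 0 1 := by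
    change (P0 * diagonal D) *ᵥ (Pi.single 0 1) = _
    rw [← mulVec_mulVec, hD0 0 h02]
    funext j
    rw [mulVec_single_one, col_apply, hP0, updateCol_apply, if_neg h01]
    simp [Matrix.one_apply, Pi.single_apply]
  have hPe1 : P.1 *ᵥ (Pi.single 1 1) = c := by
    change (P0 * diagonal D) *ᵥ (Pi.single 1 1) = _
    rw [← mulVec_mulVec, hD0 1 h12]
    funext j
    rw [mulVec_single_one, col_apply, hP0, updateCol_self]
  refine ⟨h₁ * s⁻¹ * P, ?_, ?_⟩
  · change ((h₁ : Matrix (Fin (m + 3)) (Fin (m + 3)) F) * ((s⁻¹ : SpecialLinearGroup (Fin (m + 3)) F) : Matrix (Fin (m + 3)) (Fin (m + 3)) F) * P.1) *ᵥ _ = v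
    rw [← mulVec_mulVec, hPe0, ← mulVec_mulVec]
    have : ((s⁻¹ : SpecialLinearGroup (Fin (m + 3)) F) : Matrix (Fin (m + 3)) (Fin (m + 3)) F) *ᵥ (Pi.single 0 1 : Fin (m + 3) → F) = Pi.single 0 1 := by
      conv_lhs => rw [← hs0]
      rw [mulVec_mulVec, hsinv', one_mulVec]
    rw [this, hh₁]
  · change ((h₁ : Matrix (Fin (m + 3)) (Fin (m + 3)) F) * ((s⁻¹ : SpecialLinearGroup (Fin (m + 3)) F) : Matrix (Fin (m + 3)) (Fin (m + 3)) F) * P.1) *ᵥ _ = w
    have : ((s⁻¹ : SpecialLinearGroup (Fin (m + 3)) F) : Matrix (Fin (m + 3)) (Fin (m + 3)) F) *ᵥ c = w₁ := by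
      rw [hc, mulVec_mulVec, hsinv', one_mulVec]
    rw [← mulVec_mulVec, hPe1, ← mulVec_mulVec, this, hw₁']

end trans

section sets

variable (m : ℕ)

/-- The group. -/
abbrev SLm (F : Type*) [Field F] (m : ℕ) := SpecialLinearGroup (Fin (m + 3)) F

/-- The action on vectors. -/
def actV (g : SLm F m) (v : Fin (m + 3) → F) : Fin (m + 3) → F := (g : Matrix (Fin (m + 3)) (Fin (m + 3)) F) *ᵥ v

/-- The action on pairs. -/
def actP (g : SLm F m) (y : (Fin (m + 3) → F) × (Fin (m + 3) → F)) : (Fin (m + 3) → F) × (Fin (m + 3) → F) :=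
  (actV m g y.1, actV m g y.2)

/-- The non-zero vectors. -/
def nzV (F : Type*) [Field F] [Fintype F] [DecidableEq F] (m : ℕ) : Finset (Fin (m + 3) → F) := Finset.univ.filter (fun v => v ≠ 0)

/-- The independent pairs. -/
def indP (F : Type*) [Field F] [Fintype F] [DecidableEq F] (m : ℕ) : Finset ((Fin (m + 3) → F) × (Fin (m + 3) → F)) :=
  (nzV F m ×ˢ nzV F m).filter (fun y => ∀ t : F, y.2 ≠ t • y.1)

/-- The dependent pairs. -/
def depP (F : Type*) [Field F] [Fintype F] [DecidableEq F] (m : ℕ) : Finset ((Fin (m + 3) → F) × (Fin (m + 3) → F)) :=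
  (nzV F m ×ˢ nzV F m).filter (fun y => ¬ ∀ t : F, y.2 ≠ t • y.1)

theorem actV_one (v : Fin (m + 3) → F) : actV m (1 : SLm F m) v = v := by
  simp [actV]

theorem actV_mul (g h : SLm F m) (v : Fin (m + 3) → F) : actV m (g * h) v = actV m g (actV m h v) := by
  simp [actV, mulVec_mulVec]

theorem actV_smul (g : SLm F m) (c : F) (v : Fin (m + 3) → F) : actV m g (c • v) = c • actV m g v := by
  simp [actV, mulVec_smul]

theorem actV_ne_zero (g : SLm F m) {v : Fin (m + 3) → F} (hv : v ≠ 0) : actV m g v ≠ 0 := by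
  intro h
  apply hv
  have := actV_mul m g⁻¹ g v
  rw [inv_mul_cancel, actV_one, h] at this
  rw [this]
  simp [actV]

theorem mem_nzV {v : Fin (m + 3) → F} : v ∈ nzV F m ↔ v ≠ 0 := by
  simp [nzV]

theorem mem_indP {y : (Fin (m + 3) → F) × (Fin (m + 3) → F)} : y ∈ indP F m ↔ y.1 ≠ 0 ∧ ∀ t : F, y.2 ≠ t • y.1 := by
  simp only [indP, Finset.mem_filter, Finset.mem_product, mem_nzV]
  constructor
  · rintro ⟨⟨h1, h2⟩, h3⟩
    exact ⟨h1, h3⟩
  · rintro ⟨h1, h3⟩
    refine ⟨⟨h1, ?_⟩, h3⟩
    have := h3 0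
    simpa using this

theorem nzV_nonempty : (nzV F m).Nonempty := by
  classical
  refine ⟨Pi.single 0 1, ?_⟩
  rw [mem_nzV]
  intro h
  have := congrFun h 0
  simp at this

theorem trans_nzV {v v' : Fin (m + 3) → F} (hv : v ∈ nzV F m) (hv' : v' ∈ nzV F m) : ∃ g : SLm F m, actV m g v = v' := by
  rw [mem_nzV] at hv hv'
  obtain ⟨h, hh⟩ := Cfsg.Agent.Lib.Classical.exists_SL_mulVec_single (n := m + 1) v hv
  obtain ⟨h', hh'⟩ := Cfsg.Agent.Lib.Classical.exists_SL_mulVec_single (n := m + 1) v' hv'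
  refine ⟨h' * h⁻¹, ?_⟩
  change actV m h (Pi.single 0 1) = v at hh
  change actV m h' (Pi.single 0 1) = v' at hh'
  rw [← hh, ← actV_mul, mul_assoc, inv_mul_cancel, mul_one, hh']

theorem count_nzV {v v' : Fin (m + 3) → F} (hv : v ∈ nzV F m) (hv' : v' ∈ nzV F m) :
    (Finset.univ.filter (fun g : SLm F m => actV m g v = v')).card * (nzV F m).card = Fintype.card (SLm F m) :=
  count_of_trans (actV m) (actV_one m) (actV_mul m) (nzV F m)
    (fun y hy g => (mem_nzV m).2 (actV_ne_zero m g ((mem_nzV m).1 hy)))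
    (fun y hy y' hy' => trans_nzV m hy hy') hv hv'

theorem actP_one (y : (Fin (m + 3) → F) × (Fin (m + 3) → F)) : actP m (1 : SLm F m) y = y := by
  simp [actP, actV_one]

theorem actP_mul (g h : SLm F m) (y : (Fin (m + 3) → F) × (Fin (m + 3) → F)) :
    actP m (g * h) y = actP m g (actP m h y) := by
  simp [actP, actV_mul]

theorem actV_inj (g : SLm F m) {v w : Fin (m + 3) → F} (h : actV m g v = actV m g w) : v = w := by
  have := congrArg (actV m g⁻¹) h
  rwa [← actV_mul, ← actV_mul, inv_mul_cancel, actV_one, actV_one] at this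

theorem actP_mem (g : SLm F m) {y : (Fin (m + 3) → F) × (Fin (m + 3) → F)} (hy : y ∈ indP F m) : actP m g y ∈ indP F m := by
  rw [mem_indP] at hy ⊢
  refine ⟨actV_ne_zero m g hy.1, ?_⟩
  intro t h
  apply hy.2 t
  apply actV_inj m g
  rw [actV_smul]
  exact h

theorem trans_indP {y y' : (Fin (m + 3) → F) × (Fin (m + 3) → F)} (hy : y ∈ indP F m) (hy' : y' ∈ indP F m) :
    ∃ g : SLm F m, actP m g y = y' := by
  rw [mem_indP] at hy hy'
  obtain ⟨h, h1, h2⟩ := exists_SL_pair y.1 y.2 hy.1 hy.2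
  obtain ⟨h', h1', h2'⟩ := exists_SL_pair y'.1 y'.2 hy'.1 hy'.2
  change actV m h (Pi.single 0 1) = y.1 at h1
  change actV m h (Pi.single 1 1) = y.2 at h2
  change actV m h' (Pi.single 0 1) = y'.1 at h1'
  change actV m h' (Pi.single 1 1) = y'.2 at h2'
  refine ⟨h' * h⁻¹, ?_⟩
  apply Prod.ext
  · change actV m (h' * h⁻¹) y.1 = y'.1
    rw [← h1, ← actV_mul, mul_assoc, inv_mul_cancel, mul_one, h1']
  · change actV m (h' * h⁻¹) y.2 = y'.2
    rw [← h2, ← actV_mul, mul_assoc, inv_mul_cancel, mul_one, h2']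

theorem indP_nonempty : (indP F m).Nonempty := by
  classical
  refine ⟨(Pi.single 0 1, Pi.single 1 1), ?_⟩
  rw [mem_indP]
  have h01 : (0 : Fin (m + 3)) ≠ 1 := by
    intro h
    have := congrArg Fin.val h
    simp at this
  refine ⟨?_, ?_⟩
  · intro h
    have := congrFun h 0
    simp at this
  · intro t h
    have := congrFun h 1
    simp [Pi.single_apply, h01.symm] at this

/-- The points fixed up to the scalar. -/
def fixS (g : SLm F m) (c : F) : Finset (Fin (m + 3) → F) := (nzV F m).filter (fun v => actV m g v = c • v)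

/-- The first moment. -/
theorem sum_card_fixS {c : F} (hc : c ≠ 0) :
    ∑ g : SLm F m, (fixS m g c).card = Fintype.card (SLm F m) := by
  classical
  have h1 : ∀ g : SLm F m, (fixS m g c).card = ∑ v ∈ nzV F m, if actV m g v = c • v then 1 else 0 := by
    intro g
    rw [fixS, Finset.card_filter]
  simp only [h1]
  rw [Finset.sum_comm]
  apply sum_of_mul_card_eq _ (nzV_nonempty m)
  intro v hv
  rw [← Finset.card_filter]
  apply count_nzV m hv
  rw [mem_nzV] at hv ⊢
  exact smul_ne_zero hc hv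

/-- The count on independent pairs. -/
theorem sum_indP {c c' : F} (hc : c ≠ 0) (hc' : c' ≠ 0) :
    ∑ y ∈ indP F m, (Finset.univ.filter (fun g : SLm F m => actV m g y.1 = c • y.1 ∧ actV m g y.2 = c' • y.2)).card =
      Fintype.card (SLm F m) := by
  classical
  apply sum_of_mul_card_eq _ (indP_nonempty m)
  intro y hy
  have hy' : ((c • y.1, c' • y.2) : (Fin (m + 3) → F) × (Fin (m + 3) → F)) ∈ indP F m := by
    rw [mem_indP] at hy ⊢
    refine ⟨smul_ne_zero hc hy.1, ?_⟩
    intro t h
    apply hy.2 (c'⁻¹ * t * c)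
    have h2 : c'⁻¹ • (c' • y.2) = c'⁻¹ • (t • c • y.1) := congrArg (fun z => c'⁻¹ • z) h
    rw [smul_smul, inv_mul_cancel₀ hc', one_smul, smul_smul, smul_smul] at h2
    exact h2
  have := count_of_trans (actP m) (actP_one m) (actP_mul m) (indP F m)
    (fun y hy g => actP_mem m g hy) (fun y hy y' hy' => trans_indP m hy hy') hy hy'
  rw [← this]
  congr 2
  ext g
  simp only [Finset.mem_filter, Finset.mem_univ, true_and, actP, Prod.mk.injEq]

/-- The count on dependent pairs. -/
theorem sum_depP {c c' : F} (hc : c ≠ 0) (hc' : c' ≠ 0) :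
    ∑ y ∈ depP F m, (Finset.univ.filter (fun g : SLm F m => actV m g y.1 = c • y.1 ∧ actV m g y.2 = c' • y.2)).card =
      if c = c' then (Fintype.card F - 1) * Fintype.card (SLm F m) else 0 := by
  classical
  -- parametrize by `(v, t)`
  have h1 : ∑ y ∈ depP F m, (Finset.univ.filter (fun g : SLm F m => actV m g y.1 = c • y.1 ∧ actV m g y.2 = c' • y.2)).card =
      ∑ p ∈ nzV F m ×ˢ (Finset.univ : Finset Fˣ), (Finset.univ.filter (fun g : SLm F m => actV m g p.1 = c • p.1 ∧ actV m g (((p.2 : Fˣ) : F) • p.1) = c' • (((p.2 : Fˣ) : F) • p.1))).card := by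
    symm
    apply Finset.sum_bij (fun p _ => (p.1, ((p.2 : Fˣ) : F) • p.1))
    · intro p hp
      simp only [Finset.mem_product, Finset.mem_univ, and_true] at hp
      simp only [depP, Finset.mem_filter, Finset.mem_product]
      refine ⟨⟨hp, ?_⟩, ?_⟩
      · rw [mem_nzV] at hp ⊢
        exact smul_ne_zero p.2.ne_zero hp
      · push Not
        exact ⟨_, rfl⟩
    · intro p hp p' hp' h
      simp only [Finset.mem_product, Finset.mem_univ, and_true, mem_nzV] at hp hp'
      simp only [Prod.mk.injEq] at h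
      obtain ⟨h1, h2⟩ := h
      apply Prod.ext h1
      apply Units.ext
      rw [← h1] at h2
      exact smul_left_injective F hp h2
    · intro y hy
      simp only [depP, Finset.mem_filter, Finset.mem_product] at hy
      obtain ⟨⟨h1, h2⟩, h3⟩ := hy
      push Not at h3
      obtain ⟨t, ht⟩ := h3
      have ht0 : t ≠ 0 := by
        rintro rfl
        rw [zero_smul] at ht
        rw [mem_nzV] at h2
        exact h2 ht
      refine ⟨(y.1, Units.mk0 t ht0), ?_, ?_⟩
      · simp [h1]
      · apply Prod.ext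
        · rfl
        · simp [ht]
    · intro p hp
      rfl
  rw [h1, Finset.sum_product]
  simp only [actV_smul]
  by_cases hcc : c = c'
  · subst hcc
    rw [if_pos rfl]
    have h2 : ∀ v ∈ nzV F m, ∑ t : Fˣ, (Finset.univ.filter (fun g : SLm F m => actV m g v = c • v ∧ ((t : Fˣ) : F) • actV m g v = c • ((t : F) • v))).card =
        (Fintype.card F - 1) * (Finset.univ.filter (fun g : SLm F m => actV m g v = c • v)).card := by
      intro v hv
      have h3 : ∀ t : Fˣ, (Finset.univ.filter (fun g : SLm F m => actV m g v = c • v ∧ ((t : Fˣ) : F) • actV m g v = c • ((t : F) • v))).card =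
          (Finset.univ.filter (fun g : SLm F m => actV m g v = c • v)).card := by
        intro t
        congr 1
        apply Finset.filter_congr
        intro g _
        constructor
        · exact fun h => h.1
        · intro h
          refine ⟨h, ?_⟩
          rw [h, smul_smul, smul_smul, mul_comm]
      simp only [h3, Finset.sum_const, Finset.card_univ, Fintype.card_units, smul_eq_mul]
    rw [Finset.sum_congr rfl h2, ← Finset.mul_sum]
    congr 1
    apply sum_of_mul_card_eq _ (nzV_nonempty m)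
    intro v hv
    apply count_nzV m hv
    rw [mem_nzV] at hv ⊢
    exact smul_ne_zero hc hv
  · rw [if_neg hcc]
    apply Finset.sum_eq_zero
    intro v hv
    apply Finset.sum_eq_zero
    intro t _
    rw [Finset.card_eq_zero, Finset.filter_eq_empty_iff]
    rintro g - ⟨h1, h2⟩
    rw [h1, smul_smul, smul_smul, mul_comm] at h2
    rw [mem_nzV] at hv
    apply hcc
    have h3 : c * (t : F) = c' * t := smul_left_injective F hv h2
    exact mul_right_cancel₀ t.ne_zero h3

/-- The second moment. -/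
theorem sum_card_fixS_mul {c c' : F} (hc : c ≠ 0) (hc' : c' ≠ 0) :
    ∑ g : SLm F m, (fixS m g c).card * (fixS m g c').card =
      Fintype.card (SLm F m) + if c = c' then (Fintype.card F - 1) * Fintype.card (SLm F m) else 0 := by
  classical
  have h1 : ∀ g : SLm F m, (fixS m g c).card * (fixS m g c').card =
      ∑ y ∈ nzV F m ×ˢ nzV F m, if (actV m g y.1 = c • y.1 ∧ actV m g y.2 = c' • y.2) then 1 else 0 := by
    intro g
    rw [← Finset.card_product, ← Finset.card_filter]
    congr 1
    ext y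
    simp only [fixS, Finset.mem_product, Finset.mem_filter]
    tauto
  simp only [h1]
  rw [Finset.sum_comm, ← Finset.sum_filter_add_sum_filter_not (nzV F m ×ˢ nzV F m) (fun y => ∀ t : F, y.2 ≠ t • y.1)]
  change ∑ y ∈ indP F m, _ + ∑ y ∈ depP F m, _ = _
  rw [← sum_depP m hc hc', ← sum_indP m hc hc']
  congr 1
  · apply Finset.sum_congr rfl
    intro y _
    rw [Finset.card_filter]
  · apply Finset.sum_congr rfl
    intro y _
    rw [Finset.card_filter]

end sets

end Cfsg.Agent.Lib.Known.Weil
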